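import Cfsg.Agent.Lib.M24Cert.Orbits
import Cfsg.Agent.Lib.Golay.Octad

/-!
# Orders of joint stabilisers; the position of two octads
-/

set_option autoImplicit false

namespace CfsgLib.M24Cert

open Cfsg CfsgLib.Golay

open scoped Pointwise

theorem card_inf_stabilizer_mul {G X : Type*} [Group G] [MulAction G X] (K : Subgroup G) (x : X) :
    Nat.card ↥(K ⊓ MulAction.stabilizer G x) * (MulAction.orbit ↥K x).ncard = Nat.card K := by
  rw [← MulAction.index_stabilizer ↥K x, ← (MulAction.stabilizer ↥K x).card_mul_index]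
  congr 1
  refine Nat.card_congr ((Subgroup.subgroupOfEquivOfLe (inf_le_left :
    K ⊓ MulAction.stabilizer G x ≤ K)).symm.trans (MulEquiv.subgroupCongr ?_)).toEquiv
  ext k
  simp [Subgroup.mem_subgroupOf, MulAction.mem_stabilizer_iff]
  rfl

theorem card_stab_octad {o : Finset GolayPt} (ho : o ∈ octads) :
    Nat.card ↥(MulAction.stabilizer M24 o) = 322560 := by
  have h := (MulAction.stabilizer M24 o).card_mul_index
  have horb : MulAction.orbit M24 o = octads := by
    obtain ⟨g, hg, rfl⟩ := octads_transitive ho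
    apply Set.Subset.antisymm
    · rintro _ ⟨⟨a, ha⟩, rfl⟩
      exact octads_smul ha ho
    · intro o' ho'
      obtain ⟨k, hk, rfl⟩ := octads_transitive ho'
      exact ⟨⟨k * g⁻¹, mul_mem hk (inv_mem hg)⟩, show (k * g⁻¹) • g • toSet baseOctad = _ by
        rw [mul_smul, inv_smul_smul]⟩
  have hn : octads.ncard = 759 := by
    have := Tbl.ncard_range octTbl_sorted
    rw [octTbl_range, Set.ncard_image_of_injective _ Finset.singleton_injective] at this
    exact this
  rw [MulAction.index_stabilizer, horb, hn, card_M24] at h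
  omega

theorem card_stab_dodecad {d : Finset GolayPt} (hd : d ∈ dodecads) :
    Nat.card ↥(MulAction.stabilizer M24 d) = 95040 := by
  rw [Nat.card_congr (stabilizer_dodecad_equiv hd).some.toEquiv, card_M12]

theorem octad_roots_ok : octTbl.forestOk stabOctGens stabOctOnOct (fun _ => true) [0, 129, 1, 5] = true ∧
    rootsOk octTbl [baseOctad] [0, 129, 1, 5] = true ∧
    ([0, 129, 1, 5].map fun r => octTbl.obj r) = [[5279], [1009728], [10558], [31554]] ∧
    ([0, 129, 1, 5].map fun r =>
      countLt (fun i => Nat.beq (posCodeL [baseOctad] (octTbl.obj i)) (posCodeL [baseOctad] (octTbl.obj r))) octTbl.N) =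
      [1, 30, 280, 448] := by
  refine ⟨oct_on_oct, ?_, ?_, ?_⟩ <;> decide +kernel

/-- The standard second octad at a given intersection size. -/
def secondOctad : ℕ → ℕ
  | 0 => 1009728
  | 2 => 31554
  | 4 => 10558
  | _ => 5279

/-- Two octads can be moved to the standard pair with the same intersection size; the number of
octads in that position is also known. -/
theorem octad_pair {o o' : Finset GolayPt} (ho : o ∈ octads) (ho' : o' ∈ octads) :
    ((o ∩ o').card = 0 ∨ (o ∩ o').card = 2 ∨ (o ∩ o').card = 4 ∨ (o ∩ o').card = 8) ∧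
    (∃ g ∈ M24, g • toSet baseOctad = o ∧ g • toSet (secondOctad (o ∩ o').card) = o') ∧
    ((o ∩ o').card = 0 → (MulAction.orbit ↥(MulAction.stabilizer M24 o) o').ncard = 30) ∧
    ((o ∩ o').card = 4 → (MulAction.orbit ↥(MulAction.stabilizer M24 o) o').ncard = 280) ∧
    ((o ∩ o').card = 2 → (MulAction.orbit ↥(MulAction.stabilizer M24 o) o').ncard = 448) := by
  obtain ⟨g, hg, hgo⟩ := octads_transitive ho
  obtain ⟨hf, hr, hobj, hcount⟩ := octad_roots_ok
  obtain ⟨h1, h2⟩ := orbit_sizes octTbl_sorted octTbl_closed (small_single (by decide)) (by decide +kernel)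
    stabOct_ok hf hr hg
  have hA : g • oset [baseOctad] = ({o} : Finset (Finset GolayPt)) := by
    rw [show oset [baseOctad] = {toSet baseOctad} by simp [oset], smul_singleton', hgo]
  rw [hA] at h1 h2
  obtain ⟨r, hr', hm⟩ := (h2 {o'}).1 (by rw [octTbl_range]; exact ⟨o', ho', rfl⟩)
  simp only [List.map_cons, List.map_nil, List.cons.injEq] at hobj hcount
  obtain ⟨e0, e1, e2, e3, -⟩ := hobj
  obtain ⟨c0, c1, c2, c3, -⟩ := hcount
  obtain ⟨k, hk', hkX⟩ := hm
  obtain ⟨hk, hkA⟩ := mem_stabF.1 hk'
  have hko : k • o = o := by rwa [smul_singleton', Finset.singleton_inj] at hkA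
  have hin : ∀ n, octTbl.obj r = [n] →
      (k * g) • toSet baseOctad = o ∧ (k * g) • toSet n = o' ∧ (o ∩ o').card = bc (baseOctad &&& n) := by
    intro n hn
    have e : (k * g) • toSet n = o' := by
      have hkX' : k • g • octTbl.el r = {o'} := hkX
      rw [← mul_smul, Tbl.el, hn, show oset [n] = {toSet n} by simp [oset], smul_singleton',
        Finset.singleton_inj] at hkX'
      exact hkX'
    refine ⟨by rw [mul_smul, hgo, hko], e, ?_⟩
    conv_lhs => rw [← e, ← hko, ← hgo, ← mul_smul, ← Finset.smul_finset_inter, Finset.card_smul_finset]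
    rw [← card_toSet_bc, toSet_and]
  have horb : (MulAction.orbit ↥(MulAction.stabilizer M24 o) o').ncard = (orbF {o} (g • octTbl.el r)).ncard := by
    have hmem : ({o'} : Finset (Finset GolayPt)) ∈
        MulAction.orbit ↥(MulAction.stabilizer M24 ({o} : Finset (Finset GolayPt))) (g • octTbl.el r) := by
      rw [orbit_eq]; exact ⟨k, hk', hkX⟩
    have heq : orbF {o} (g • octTbl.el r) = orbF {o} ({o'} : Finset (Finset GolayPt)) := by
      rw [← orbit_eq, ← orbit_eq, MulAction.orbit_eq_iff.2 hmem]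
    rw [heq, stabilizer_singleton, ← orbit_eq_singleton, Set.ncard_image_of_injective _ Finset.singleton_injective]
  have hcard := (h1 r hr').2
  simp only [List.mem_cons, List.not_mem_nil, or_false] at hr'
  rcases hr' with rfl | rfl | rfl | rfl
  · obtain ⟨a, b, c⟩ := hin _ e0
    rw [show bc (baseOctad &&& 5279) = 8 by decide +kernel] at c
    refine ⟨by omega, ⟨_, mul_mem hk hg, a, by rw [c]; exact b⟩, ?_, ?_, ?_⟩ <;> omega
  · obtain ⟨a, b, c⟩ := hin _ e1
    rw [show bc (baseOctad &&& 1009728) = 0 by decide +kernel] at c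
    refine ⟨by omega, ⟨_, mul_mem hk hg, a, by rw [c]; exact b⟩, fun _ => ?_, by omega, by omega⟩
    rw [horb, hcard, c1]
  · obtain ⟨a, b, c⟩ := hin _ e2
    rw [show bc (baseOctad &&& 10558) = 4 by decide +kernel] at c
    refine ⟨by omega, ⟨_, mul_mem hk hg, a, by rw [c]; exact b⟩, by omega, fun _ => ?_, by omega⟩
    rw [horb, hcard, c2]
  · obtain ⟨a, b, c⟩ := hin _ e3
    rw [show bc (baseOctad &&& 31554) = 2 by decide +kernel] at c
    refine ⟨by omega, ⟨_, mul_mem hk hg, a, by rw [c]; exact b⟩, by omega, by omega, fun _ => ?_⟩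
    rw [horb, hcard, c3]

theorem card_stab_pair {o o' : Finset GolayPt} (ho : o ∈ octads) (ho' : o' ∈ octads) :
    ((o ∩ o').card = 0 → Nat.card ↥(MulAction.stabilizer M24 o ⊓ MulAction.stabilizer M24 o') = 10752) ∧
    ((o ∩ o').card = 4 → Nat.card ↥(MulAction.stabilizer M24 o ⊓ MulAction.stabilizer M24 o') = 1152) ∧
    ((o ∩ o').card = 2 → Nat.card ↥(MulAction.stabilizer M24 o ⊓ MulAction.stabilizer M24 o') = 720) := by
  obtain ⟨-, -, h0, h4, h2⟩ := octad_pair ho ho'
  have h := card_inf_stabilizer_mul (MulAction.stabilizer M24 o) o'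
  rw [card_stab_octad ho] at h
  refine ⟨fun e => ?_, fun e => ?_, fun e => ?_⟩
  · rw [h0 e] at h; omega
  · rw [h4 e] at h; omega
  · rw [h2 e] at h; omega

end CfsgLib.M24Cert
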