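import Cfsg.Agent.Lib.M24Cert.Transport
import Cfsg.Agent.Lib.M24Cert.Pairs

/-!
# The action of an octad stabiliser on its octad, and the complement fixing an outside point
-/

set_option autoImplicit false

namespace CfsgLib.M24Cert

open Cfsg CfsgLib.Golay

open scoped Pointwise

/-- The stabiliser of a point set, inside the group. -/
def octStab (o : Finset GolayPt) : Subgroup (Equiv.Perm GolayPt) :=
  M24 ⊓ MulAction.stabilizer (Equiv.Perm GolayPt) o

theorem mem_octStab {o : Finset GolayPt} {g : Equiv.Perm GolayPt} : g ∈ octStab o ↔ g ∈ M24 ∧ g • o = o := Iff.rfl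

theorem octStab_apply {o : Finset GolayPt} {g : Equiv.Perm GolayPt} (hg : g ∈ octStab o) (x : GolayPt) :
    g x ∈ o ↔ x ∈ o := by
  conv_lhs => rw [← (mem_octStab.1 hg).2]
  exact apply_mem_smul

theorem card_octStab {o : Finset GolayPt} (ho : o ∈ octads) : Nat.card ↥(octStab o) = 322560 := by
  rw [← card_stab_octad ho]
  refine Nat.card_congr ⟨fun g => ⟨⟨g.1, (mem_octStab.1 g.2).1⟩, (mem_octStab.1 g.2).2⟩,
    fun g => ⟨g.1.1, mem_octStab.2 ⟨g.1.2, g.2⟩⟩, fun g => rfl, fun g => rfl⟩

/-- The induced permutation of the octad. -/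
def resHom (o : Finset GolayPt) : ↥(octStab o) →* Equiv.Perm ↥o where
  toFun g := g.1.subtypePerm (octStab_apply g.2)
  map_one' := by ext x; rfl
  map_mul' a b := by ext x; rfl

theorem resHom_eq_one {o : Finset GolayPt} {g : ↥(octStab o)} : resHom o g = 1 ↔ ∀ x ∈ o, g.1 x = x := by
  constructor
  · intro h x hx
    exact congrArg Subtype.val (Equiv.ext_iff.1 h ⟨x, hx⟩)
  · intro h
    exact Equiv.ext fun x => Subtype.ext (h x x.2)

theorem card_ker_resHom {o : Finset GolayPt} (ho : o ∈ octads) : Nat.card ↥(resHom o).ker = 16 := by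
  rw [← (octad_pointwise ho).1]
  have key : ∀ g : Equiv.Perm GolayPt,
      g ∈ M24 ⊓ fixingSubgroup (Equiv.Perm GolayPt) (o : Set GolayPt) ↔ g ∈ M24 ∧ ∀ x ∈ o, g x = x := fun g => by
    simp [Subgroup.mem_inf, mem_fixingSubgroup_iff, Equiv.Perm.smul_def]
  refine Nat.card_congr ⟨fun g => ⟨g.1.1, (key _).2 ⟨(mem_octStab.1 g.1.2).1, resHom_eq_one.1 g.2⟩⟩,
    fun g => ⟨⟨g.1, mem_octStab.2 ⟨((key _).1 g.2).1, ?_⟩⟩, resHom_eq_one.2 ((key _).1 g.2).2⟩, fun g => rfl, fun g => rfl⟩
  refine Finset.eq_of_subset_of_card_le (fun y hy => ?_) (by rw [Finset.card_smul_finset])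
  obtain ⟨x, hx, rfl⟩ := Finset.mem_smul_finset.1 hy
  rwa [Equiv.Perm.smul_def, ((key _).1 g.2).2 x hx]

theorem range_resHom {o : Finset GolayPt} (ho : o ∈ octads) : (resHom o).range = alternatingGroup ↥o := by
  refine Equiv.Perm.eq_alternatingGroup_of_index_eq_two ?_
  have h1 := (resHom o).ker.card_mul_index
  rw [Subgroup.index_ker, card_ker_resHom ho, card_octStab ho] at h1
  have h2 := (resHom o).range.card_mul_index
  rw [Nat.card_perm, Nat.card_eq_finsetCard, ho.2] at h2
  rw [show Nat.factorial 8 = 40320 from rfl] at h2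
  have h3 : Nat.card ↥(resHom o).range = 20160 := by omega
  rw [h3] at h2
  omega

/-- The elements fixing an octad and one outside point. -/
def octPointStab (o : Finset GolayPt) (p : GolayPt) : Subgroup (Equiv.Perm GolayPt) :=
  M24 ⊓ MulAction.stabilizer (Equiv.Perm GolayPt) o ⊓ MulAction.stabilizer (Equiv.Perm GolayPt) p

theorem octPointStab_fix {o : Finset GolayPt} (ho : o ∈ octads) {p : GolayPt} (hp : p ∉ o)
    {g : Equiv.Perm GolayPt} (hg : g ∈ M24) (hfix : ∀ x ∈ o, g x = x) (hgp : g p = p) : g = 1 := by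
  obtain ⟨a, ha, rfl, rfl⟩ := ptOut_map ho hp
  have : a⁻¹ * g * a = 1 := by
    refine eq_one_of_base (mul_mem (mul_mem (inv_mem ha) hg) ha) fun q hq => ?_
    rw [Equiv.Perm.mul_apply, Equiv.Perm.mul_apply]
    have hin : q ∈ toSet baseOctad ∨ q = pt 5 := by
      revert hq; revert q; decide +kernel
    rcases hin with h | rfl
    · rw [hfix (a q) (apply_mem_smul.2 h)]
      exact a.symm_apply_apply q
    · rw [hgp]
      exact a.symm_apply_apply _
  calc g = a * (a⁻¹ * g * a) * a⁻¹ := by group
    _ = 1 := by rw [this]; group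

theorem card_octPointStab {o : Finset GolayPt} (ho : o ∈ octads) {p : GolayPt} (hp : p ∉ o) :
    Nat.card ↥(octPointStab o p) = 20160 := by
  have h := card_inf_stabilizer_mul (octStab o) p
  have horb : MulAction.orbit ↥(octStab o) p = ↑(oᶜ : Finset GolayPt) := by
    ext q
    rw [Finset.mem_coe, Finset.mem_compl]
    constructor
    · rintro ⟨g, rfl⟩
      exact fun hq => hp ((octStab_apply g.2 p).1 hq)
    · intro hq
      obtain ⟨a, ha, hao, hap⟩ := ptOut_map ho hp
      obtain ⟨b, hb, hbo, hbq⟩ := ptOut_map ho hq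
      refine ⟨⟨b * a⁻¹, mem_octStab.2 ⟨mul_mem hb (inv_mem ha), ?_⟩⟩, ?_⟩
      · conv_lhs => rw [← hao, mul_smul, inv_smul_smul]
        exact hbo
      · show (b * a⁻¹) p = q
        rw [← hap, Equiv.Perm.mul_apply, show a⁻¹ (a (pt 5)) = pt 5 from a.symm_apply_apply _, hbq]
  rw [horb, Set.ncard_coe_finset, Finset.card_compl, Fintype.card_congr ptEquiv, Fintype.card_fin, ho.2,
    card_octStab ho] at h
  have e : octPointStab o p = octStab o ⊓ MulAction.stabilizer (Equiv.Perm GolayPt) p := rfl
  rw [e]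
  omega

/-- The complement acts as the alternating group on the octad. -/
theorem octPointStab_restrict {o : Finset GolayPt} (ho : o ∈ octads) {p : GolayPt} (hp : p ∉ o) :
    Function.Injective ((resHom o).comp (Subgroup.inclusion (inf_le_left : octPointStab o p ≤ octStab o))) ∧
      ((resHom o).comp (Subgroup.inclusion (inf_le_left : octPointStab o p ≤ octStab o))).range =
        alternatingGroup ↥o := by
  set f := (resHom o).comp (Subgroup.inclusion (inf_le_left : octPointStab o p ≤ octStab o))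
  have hinj : Function.Injective f := by
    rw [injective_iff_map_eq_one]
    intro g hg
    exact Subtype.ext (octPointStab_fix ho hp g.2.1.1 (resHom_eq_one.1 hg) g.2.2)
  refine ⟨hinj, ?_⟩
  rw [← range_resHom ho]
  have hle : f.range ≤ (resHom o).range := by
    rintro _ ⟨g, rfl⟩
    exact ⟨_, rfl⟩
  refine Subgroup.eq_of_le_of_card_ge hle ?_
  have h1 := (resHom o).ker.card_mul_index
  rw [Subgroup.index_ker, card_ker_resHom ho, card_octStab ho] at h1
  rw [show Nat.card ↥f.range = Nat.card ↥(octPointStab o p) from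
    (Nat.card_congr (MonoidHom.ofInjective hinj).toEquiv).symm, card_octPointStab ho hp]
  omega

end CfsgLib.M24Cert
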