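import Cfsg.Agent.Lib.M24Cert.Cent

/-!
# The normaliser and the centraliser of a group of order seven
-/

set_option autoImplicit false

namespace CfsgLib.M24Cert

open Cfsg CfsgLib.Golay

open scoped Pointwise

/-- Conjugates the representative into one of its powers. -/
def NormR (g : Equiv.Perm GolayPt) : Prop := g ∈ M24 ∧ ∃ i < 7, g * pL elR.L = pL elR.L ^ i * g

theorem elR_facts : elR.m24 = true ∧ validL 24 elR.L = true ∧ pL elR.L ∈ M24 := by
  have h := certs_ok.2.2.2.2.2.2.2.1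
  exact ⟨h, (GenT.valid' h).2, GenT.mem_M24 h⟩

/-- The commutation of a described element with a power. -/
noncomputable def powB (h : ℕ → ℕ) (e : ℕ) : Bool :=
  allLt (fun i => Nat.beq (h (getR elR.L i)) (iterN (getR elR.L) e (h i))) 24

theorem powB_iff {g : Equiv.Perm GolayPt} {h : ℕ → ℕ} (hd : Desc g h) (e : ℕ) :
    powB h e = true ↔ g * pL elR.L = pL elR.L ^ e * g := by
  have hR := desc_pL elR_facts.2.1
  have key : ∀ i < 24, (g * pL elR.L) (pt i) = pt (h (getR elR.L i)) ∧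
      (pL elR.L ^ e * g) (pt i) = pt (iterN (getR elR.L) e (h i)) := fun i hi => by
    constructor
    · rw [Equiv.Perm.mul_apply, (hR i hi).2, (hd _ (hR i hi).1).2]
    · rw [Equiv.Perm.mul_apply, (hd i hi).2, (hR.pow e _ (hd i hi).1).2]
  constructor
  · intro hc
    refine Equiv.ext fun q => ?_
    obtain ⟨i, hi, rfl⟩ := exists_pt q
    rw [(key i hi).1, (key i hi).2, Nat.eq_of_beq_eq_true (allLt_spec hc i hi)]
  · intro he
    refine allLt_of_forall fun i hi => Nat.beq_eq.symm ▸ ?_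
    have h1 := (key i hi).1
    rw [he, (key i hi).2] at h1
    exact (pt_inj (hR.pow e _ (hd i hi).1).1 (hd _ (hR i hi).1).1 h1).symm

/-- The points of the representative that move, as numbers. -/
def movedR : List ℕ := [0, 1, 2, 3, 4, 5, 6, 7, 8, 9, 11, 12, 13, 14, 15, 16, 17, 18, 19, 21, 23]

theorem norm_data :
    allB (fun L => m24B L && commB (getR L) elR.L) normW = true ∧
    normW.map (getR · 0) = movedR ∧
    allLt (fun i => memB i movedR || Nat.beq (getR elR.L i) i) 24 = true ∧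
    allB (fun L => m24B L && anyB (fun e => powB (getR L) e) [0, 1, 2, 3, 4, 5, 6] && Nat.beq (getR L 0) 0) normSix = true ∧
    (normSix.filter fun L => commB (getR L) elR.L).length = 2 ∧ normSix.Nodup ∧ normSix.length = 6 ∧
    allB (fun L => fixesL L (triTbl.obj 3239)) (normW ++ normSix) = true ∧
    normCosets.map (fun A => [getR A 0, getR A 1, getR A 2, getR A 3, getR A 4]) =
      [1, 2, 3, 4, 5, 6].map (fun e => [0, 1, 2, 3, 4].map fun j => iterN (getR elR.L) (e * j) 0) ∧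
    [0, 1, 2, 3, 4].map (fun j => iterN (getR elR.L) j 0) = [0, 1, 2, 3, 4] ∧
    allB (fun L => m24B L && commB (getR L) elR.L) normPair = true ∧
    (match normPair with | [a, b] => decide (compL a b ≠ compL b a) | _ => false) = true := by
  refine ⟨?_, ?_, ?_, ?_, ?_, ?_, ?_, ?_, ?_, ?_, ?_, ?_⟩ <;> decide +kernel

theorem norm_cosets : allB (fun A => m24Test A && cosetAll (fun h =>
    !anyB (fun e => powB h e) [0, 1, 2, 3, 4, 5, 6] ||
      anyB (fun L => allLt (fun i => Nat.beq (h i) (getR L i)) 24) normSix) 5 A) normCosets = true := by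
  decide +kernel

theorem normW_spec : ∀ L ∈ normW, validL 24 L = true ∧ pL L ∈ M24 ∧ pL L * pL elR.L = pL elR.L * pL L ∧
    pL L • triTbl.el 3239 = triTbl.el 3239 := by
  intro L hL
  have h := allB_iff.1 norm_data.1 L hL
  simp only [Bool.and_eq_true] at h
  obtain ⟨hv, hm⟩ := mem_M24_of_m24B h.1
  exact ⟨hv, hm, (commB_iff (desc_pL hv) elR_facts.2.1).1 h.2,
    fixesL_spec hv (allB_iff.1 norm_data.2.2.2.2.2.2.2.1 L (by simp [hL]))⟩

theorem normSix_spec : ∀ L ∈ normSix, validL 24 L = true ∧ NormR (pL L) ∧ pL L (pt 0) = pt 0 ∧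
    pL L • triTbl.el 3239 = triTbl.el 3239 := by
  intro L hL
  have h := allB_iff.1 norm_data.2.2.2.1 L hL
  simp only [Bool.and_eq_true] at h
  obtain ⟨⟨h1, h2⟩, h3⟩ := h
  obtain ⟨hv, hm⟩ := mem_M24_of_m24B h1
  obtain ⟨e, he, hp⟩ := anyB_iff.1 h2
  refine ⟨hv, ⟨hm, e, ?_, (powB_iff (desc_pL hv) e).1 hp⟩, ?_,
    fixesL_spec hv (allB_iff.1 norm_data.2.2.2.2.2.2.2.1 L (by simp [hL]))⟩
  · simp only [List.mem_cons, List.not_mem_nil, or_false] at he; omega
  · rw [pL_pt hv (by omega), ← getR_eq, Nat.eq_of_beq_eq_true h3]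

theorem elR_pow (k : ℕ) {i : ℕ} (hi : i < 24) : (pL elR.L ^ k) (pt i) = pt (iterN (getR elR.L) k i) :=
  ((desc_pL elR_facts.2.1).pow k i hi).2

theorem elR_moves_zero : pL elR.L (pt 0) = pt 1 := by
  rw [pL_pt elR_facts.2.1 (by omega), ← getR_eq, show getR elR.L 0 = 1 by decide +kernel]

theorem normR_first {g : Equiv.Perm GolayPt} (hg : NormR g) : ∃ L ∈ normW, g (pt 0) = pL L (pt 0) := by
  obtain ⟨a, ha, e⟩ := exists_pt (g (pt 0))
  obtain ⟨hgm, i, hi, hgi⟩ := hg
  have hmem : a ∈ movedR := by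
    by_contra hna
    have h := allLt_spec norm_data.2.2.1 a ha
    simp only [Bool.or_eq_true, memB_iff] at h
    have hfix : pL elR.L (pt a) = pt a := by
      rw [pL_pt elR_facts.2.1 ha, ← getR_eq, Nat.eq_of_beq_eq_true (h.resolve_left hna)]
    have hpow : ∀ k, (pL elR.L ^ k) (pt a) = pt a := fun k => by
      induction k with
      | zero => rfl
      | succ k ih => rw [pow_succ, Equiv.Perm.mul_apply, hfix, ih]
    have h1 := congrArg (fun x : Equiv.Perm GolayPt => x (pt 0)) hgi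
    simp only [Equiv.Perm.mul_apply, elR_moves_zero, ← e, hpow] at h1
    have h2 : pt 1 = pt 0 := g.injective (h1.trans e)
    exact absurd (pt_inj (by omega) (by omega) h2) (by omega)
  have : a ∈ normW.map (getR · 0) := by rw [norm_data.2.1]; exact hmem
  obtain ⟨L, hL, hLa⟩ := List.mem_map.1 this
  exact ⟨L, hL, by rw [pL_pt (normW_spec L hL).1 (by omega), ← getR_eq, hLa, e]⟩

theorem normR_zero {g : Equiv.Perm GolayPt} (hg : NormR g) (h0 : g (pt 0) = pt 0) : ∃ L ∈ normSix, g = pL L := by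
  obtain ⟨hgm, e, he, hge⟩ := hg
  have himg : ∀ j, g ((pL elR.L ^ j) (pt 0)) = (pL elR.L ^ (e * j)) (pt 0) := fun j => by
    induction j with
    | zero => simpa using h0
    | succ j ih =>
      have : g * pL elR.L ^ (j + 1) = pL elR.L ^ e * (g * pL elR.L ^ j) := by
        rw [pow_succ', ← mul_assoc, hge, mul_assoc]
      rw [← Equiv.Perm.mul_apply, this, Equiv.Perm.mul_apply, Equiv.Perm.mul_apply, ih, ← Equiv.Perm.mul_apply,
        ← pow_add, mul_add, mul_one, add_comm e]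
  have he0 : e ≠ 0 := by
    rintro rfl
    rw [pow_zero, one_mul] at hge
    have h1 : pL elR.L = 1 := mul_left_cancel (hge.trans (mul_one g).symm)
    have h2 := elR_moves_zero
    rw [h1] at h2
    exact absurd (pt_inj (by omega) (by omega) (show pt 0 = pt 1 from h2)) (by omega)
  have hcos := norm_data.2.2.2.2.2.2.2.2.1
  have : [0, 1, 2, 3, 4].map (fun j => iterN (getR elR.L) (e * j) 0) ∈
      normCosets.map (fun A => [getR A 0, getR A 1, getR A 2, getR A 3, getR A 4]) := by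
    rw [hcos]
    refine List.mem_map.2 ⟨e, ?_, rfl⟩
    simp only [List.mem_cons, List.not_mem_nil, or_false]; omega
  obtain ⟨A, hA, hAe⟩ := List.mem_map.1 this
  have hb := allB_iff.1 norm_cosets A hA
  simp only [Bool.and_eq_true] at hb
  simp only [List.map_cons, List.map_nil, List.cons.injEq, and_true] at hAe
  obtain ⟨a0, a1, a2, a3, a4⟩ := hAe
  have hid := norm_data.2.2.2.2.2.2.2.2.2.1
  simp only [List.map_cons, List.map_nil, List.cons.injEq, and_true] at hid
  obtain ⟨i0, i1, i2, i3, i4⟩ := hid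
  have hval : ∀ j ≤ 4, iterN (getR elR.L) j 0 = j → g (pt j) = pt (iterN (getR elR.L) (e * j) 0) := fun j _ hj => by
    have := himg j
    rwa [elR_pow j (by omega), hj, elR_pow _ (by omega)] at this
  obtain ⟨h, hP, hd⟩ := coset_spec (k := 5) (fixed := [0, 1, 2, 3, 4]) (by decide +kernel) (by decide +kernel) hb.1 hb.2
    hgm fun i hi => by
      simp only [List.mem_cons, List.not_mem_nil, or_false] at hi
      refine ⟨by omega, ?_⟩
      rcases hi with rfl | rfl | rfl | rfl | rfl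
      · rw [a0]; exact hval 0 (by omega) i0
      · rw [a1]; exact hval 1 (by omega) i1
      · rw [a2]; exact hval 2 (by omega) i2
      · rw [a3]; exact hval 3 (by omega) i3
      · rw [a4]; exact hval 4 (by omega) i4
  have hpw : anyB (fun e => powB h e) [0, 1, 2, 3, 4, 5, 6] = true :=
    anyB_iff.2 ⟨e, by simp only [List.mem_cons, List.not_mem_nil, or_false]; omega, (powB_iff hd e).2 hge⟩
  simp only [hpw, Bool.not_true, Bool.false_or] at hP
  obtain ⟨L, hL, hLe⟩ := anyB_iff.1 hP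
  refine ⟨L, hL, Equiv.ext fun p => ?_⟩
  obtain ⟨i, hi, rfl⟩ := exists_pt p
  rw [(hd i hi).2, pL_pt (normSix_spec L hL).1 hi, Nat.eq_of_beq_eq_true (allLt_spec hLe i hi), getR_eq]

theorem normR_mul_left {w g : Equiv.Perm GolayPt} (hw : w ∈ M24) (hwR : w * pL elR.L = pL elR.L * w) (hg : NormR g) :
    NormR (w * g) := by
  obtain ⟨hgm, i, hi, he⟩ := hg
  refine ⟨mul_mem hw hgm, i, hi, ?_⟩
  rw [mul_assoc, he, ← mul_assoc, (Commute.pow_right hwR i).eq, mul_assoc]

theorem normR_decomp {g : Equiv.Perm GolayPt} (hg : NormR g) : ∃ W ∈ normW, ∃ L ∈ normSix, g = pL W * pL L := by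
  obtain ⟨W, hW, e⟩ := normR_first hg
  obtain ⟨-, hm, hc, -⟩ := normW_spec W hW
  obtain ⟨L, hL, e'⟩ := normR_zero (g := (pL W)⁻¹ * g)
    (normR_mul_left (inv_mem hm) (Commute.inv_left (show Commute (pL W) (pL elR.L) from hc)).eq hg)
    (by show (pL W).symm (g (pt 0)) = pt 0; rw [e, Equiv.symm_apply_apply])
  exact ⟨W, hW, L, hL, by rw [← e', mul_inv_cancel_left]⟩

theorem normR_trio {g : Equiv.Perm GolayPt} (hg : NormR g) : g • triTbl.el 3239 = triTbl.el 3239 := by
  obtain ⟨W, hW, L, hL, rfl⟩ := normR_decomp hg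
  rw [mul_smul, (normSix_spec L hL).2.2.2, (normW_spec W hW).2.2.2]

/-- A group between the centraliser and the normaliser has twenty-one times the listed part. -/
theorem card_normal_part {K : Subgroup (Equiv.Perm GolayPt)} (hle : ∀ g ∈ K, NormR g)
    (hge : ∀ g, g ∈ M24 → g * pL elR.L = pL elR.L * g → g ∈ K) {l : List (List ℕ)} (hl : ∀ L ∈ l, L ∈ normSix)
    (hnd : l.Nodup) (hlK : ∀ L ∈ normSix, pL L ∈ K ↔ L ∈ l) : Nat.card K = l.length * 21 := by
  have c := card_inf_stabilizer_mul K (pt 0)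
  have hs : Nat.card ↥(K ⊓ MulAction.stabilizer (Equiv.Perm GolayPt) (pt 0)) = l.length := by
    refine card_eq_length (fun L hL => (normSix_spec L (hl L hL)).1) hnd fun g => ⟨?_, ?_⟩
    · intro hg
      obtain ⟨hgK, hg0⟩ := Subgroup.mem_inf.1 hg
      obtain ⟨L, hL, rfl⟩ := normR_zero (hle g hgK) hg0
      exact ⟨L, (hlK L hL).1 hgK, rfl⟩
    · rintro ⟨L, hL, rfl⟩
      exact Subgroup.mem_inf.2 ⟨(hlK L (hl L hL)).2 hL, (normSix_spec L (hl L hL)).2.2.1⟩
  have ho : (MulAction.orbit ↥K (pt 0)).ncard = 21 := by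
    rw [orbit_ncard_eq (l := movedR)]
    · rfl
    · decide
    · decide
    · intro g hg
      obtain ⟨W, hW, e⟩ := normR_first (hle g hg)
      exact ⟨getR W 0, by rw [← norm_data.2.1]; exact List.mem_map_of_mem hW,
        by rw [e, pL_pt (normW_spec W hW).1 (by omega), getR_eq]⟩
    · intro a ha
      rw [← norm_data.2.1] at ha
      obtain ⟨W, hW, rfl⟩ := List.mem_map.1 ha
      obtain ⟨hv, hm, hc, -⟩ := normW_spec W hW
      exact ⟨_, hge _ hm hc, by rw [pL_pt hv (by omega), getR_eq]⟩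
  rw [hs, ho] at c
  exact c.symm

theorem card_centR {K : Subgroup (Equiv.Perm GolayPt)}
    (hK : ∀ g, g ∈ K ↔ g ∈ M24 ∧ g * pL elR.L = pL elR.L * g) : Nat.card K = 42 := by
  rw [card_normal_part (K := K) (fun g hg => ⟨((hK g).1 hg).1, 1, by omega, by rw [pow_one]; exact ((hK g).1 hg).2⟩)
    (fun g h1 h2 => (hK g).2 ⟨h1, h2⟩) (l := normSix.filter fun L => commB (getR L) elR.L)
    (fun L hL => (List.mem_filter.1 hL).1) (norm_data.2.2.2.2.2.1.filter _) ?_, norm_data.2.2.2.2.1]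
  intro L hL
  rw [List.mem_filter, hK, commB_iff (desc_pL (normSix_spec L hL).1) elR_facts.2.1]
  exact ⟨fun h => ⟨hL, h.2⟩, fun h => ⟨(normSix_spec L hL).2.1.1, h.2⟩⟩

theorem card_normR {K : Subgroup (Equiv.Perm GolayPt)} (hK : ∀ g, g ∈ K ↔ NormR g) : Nat.card K = 126 := by
  rw [card_normal_part (K := K) (fun g hg => (hK g).1 hg)
    (fun g h1 h2 => (hK g).2 ⟨h1, 1, by omega, by rw [pow_one]; exact h2⟩) (l := normSix) (fun L hL => hL)
    norm_data.2.2.2.2.2.1 fun L hL => ⟨fun _ => hL, fun _ => (hK _).2 (normSix_spec L hL).2.1⟩,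
    norm_data.2.2.2.2.2.2.1]

theorem centR_noncomm : ∃ x ∈ M24, ∃ y ∈ M24, x * pL elR.L = pL elR.L * x ∧ y * pL elR.L = pL elR.L * y ∧
    x * y ≠ y * x := by
  have hl : ∀ L ∈ normPair, validL 24 L = true ∧ pL L ∈ M24 ∧ pL L * pL elR.L = pL elR.L * pL L := by
    intro L hL
    have h := allB_iff.1 norm_data.2.2.2.2.2.2.2.2.2.2.1 L hL
    simp only [Bool.and_eq_true] at h
    obtain ⟨hv, hm⟩ := mem_M24_of_m24B h.1
    exact ⟨hv, hm, (commB_iff (desc_pL hv) elR_facts.2.1).1 h.2⟩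
  have hne := norm_data.2.2.2.2.2.2.2.2.2.2.2
  split at hne
  · next a b heq =>
    obtain ⟨hav, ham, hac⟩ := hl a (by simp [heq])
    obtain ⟨hbv, hbm, hbc⟩ := hl b (by simp [heq])
    refine ⟨_, ham, _, hbm, hac, hbc, fun e => of_decide_eq_true hne ?_⟩
    rw [← pL_compL hav hbv, ← pL_compL hbv hav] at e
    exact pL_inj (validL_compL hav hbv) (validL_compL hbv hav) e
  · exact Bool.noConfusion hne

end CfsgLib.M24Cert
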