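import Cfsg.Agent.Lib.M24Cert.Table
import Cfsg.Agent.Lib.M24Cert.ForestData

/-!
# Octads, sextets and trios as tables; orbits of stabilisers on them
-/

set_option autoImplicit false

namespace CfsgLib.M24Cert

open Cfsg CfsgLib.Golay

open scoped Pointwise symmDiff

/-- The octads as families with one member. -/
noncomputable def octTbl : Tbl := ⟨1, 759, octData⟩

/-- The sextets. -/
noncomputable def sexTbl : Tbl := ⟨6, 1771, sexData⟩

/-- The trios. -/
noncomputable def triTbl : Tbl := ⟨3, 3795, triData⟩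

theorem octTbl_sorted : octTbl.sortedOk = true := by decide +kernel
theorem sexTbl_sorted : sexTbl.sortedOk = true := by decide +kernel
theorem triTbl_sorted : triTbl.sortedOk = true := by decide +kernel
theorem octTbl_closed : octTbl.closedOk m24Tabs octHint = true := by decide +kernel
theorem sexTbl_closed : sexTbl.closedOk m24Tabs sexHint = true := by decide +kernel
theorem triTbl_closed : triTbl.closedOk m24Tabs triHint = true := by decide +kernel

/-- The mask of an octad. -/
def isOctB (n : ℕ) : Bool := inCodeT n && Nat.beq (bc n) 8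

theorem isOctB_spec {n : ℕ} (h : isOctB n = true) : toSet n ∈ octads := by
  simp only [isOctB, Bool.and_eq_true] at h
  exact mem_wordsOfWeight.2 ⟨n, mem_golayList_of_inCodeT h.1,
    by rw [bitCount_eq_bc]; exact Nat.eq_of_beq_eq_true h.2, rfl⟩

theorem octTbl_valid : allLt (fun i => allB isOctB (octTbl.obj i)) octTbl.N = true := by decide +kernel

theorem octTbl_base : octTbl.obj 0 = [baseOctad] := by decide +kernel

theorem octTbl_range : octTbl.range = (fun o : Finset GolayPt => ({o} : Finset (Finset GolayPt))) '' octads := by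
  apply Set.Subset.antisymm
  · rintro _ ⟨i, hi, rfl⟩
    have h := allLt_spec octTbl_valid i hi
    rw [allB_iff] at h
    obtain ⟨n, hn⟩ := List.length_eq_one_iff.1 (length_fields 1 (chunkAt octTbl.data (24 * octTbl.k) i))
    refine ⟨toSet n, isOctB_spec (h n ?_), ?_⟩
    · show n ∈ fields 1 _
      rw [hn]; simp
    · show _ = oset (fields 1 _)
      rw [hn]; simp [oset]
  · rintro _ ⟨o, ho, rfl⟩
    obtain ⟨g, hg, rfl⟩ := octads_transitive ho
    show ({g • toSet baseOctad} : Finset (Finset GolayPt)) ∈ octTbl.range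
    rw [← Finset.smul_finset_singleton]
    refine Tbl.smul_mem octTbl_closed hg ⟨0, (by decide : (0 : ℕ) < 759), ?_⟩
    rw [Tbl.el, octTbl_base]
    simp [oset]

theorem sexTbl_valid : allLt (fun i =>
    let l := sexTbl.obj i
    allB (fun a => Nat.beq (bc a) 4) l && allB (fun a => allB (fun b => Nat.ble b a || isOctB (Nat.lor a b)) l) l) sexTbl.N = true := by
  decide +kernel

theorem sexTbl_mem : ∀ i < sexTbl.N, sexTbl.el i ∈ sextets := by
  intro i hi
  have h := allLt_spec sexTbl_valid i hi
  simp only [Bool.and_eq_true, allB_iff, Bool.or_eq_true, Nat.ble_eq] at h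
  refine ⟨?_, ?_, ?_⟩
  · rw [Tbl.el, card_oset (sexTbl.small i) (Tbl.strict sexTbl_sorted hi)]
    exact length_fields _ _
  · intro s hs
    obtain ⟨n, hn, rfl⟩ := mem_oset.1 hs
    rw [card_toSet_bc]; exact Nat.eq_of_beq_eq_true (h.1 n hn)
  · intro s hs u hu hne
    obtain ⟨a, ha, rfl⟩ := mem_oset.1 hs
    obtain ⟨b, hb, rfl⟩ := mem_oset.1 hu
    rw [← toSet_or]
    rcases Nat.lt_trichotomy a b with hlt | rfl | hlt
    · exact isOctB_spec ((h.2 a ha b hb).resolve_left (by omega))
    · exact absurd rfl hne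
    · have := isOctB_spec ((h.2 b hb a ha).resolve_left (by omega))
      rwa [show Nat.lor b a = a ||| b from Nat.lor_comm b a] at this

theorem sextet_disjoint {S : Finset (Finset GolayPt)} (hS : S ∈ sextets) {s u : Finset GolayPt} (hs : s ∈ S)
    (hu : u ∈ S) (hne : s ≠ u) : Disjoint s u := by
  rw [← Finset.card_union_eq_card_add_card, hS.2.1 s hs, hS.2.1 u hu]
  exact (hS.2.2 s hs u hu hne).2

theorem sextets_smul {g : Equiv.Perm GolayPt} (hg : g ∈ M24) {S : Finset (Finset GolayPt)} (hS : S ∈ sextets) :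
    g • S ∈ sextets := by
  refine ⟨by rw [Finset.card_smul_finset]; exact hS.1, ?_, ?_⟩
  · intro s hs
    obtain ⟨t, ht, rfl⟩ := Finset.mem_smul_finset.1 hs
    rw [Finset.card_smul_finset]; exact hS.2.1 t ht
  · intro s hs u hu hne
    obtain ⟨s', hs', rfl⟩ := Finset.mem_smul_finset.1 hs
    obtain ⟨u', hu', rfl⟩ := Finset.mem_smul_finset.1 hu
    rw [← Finset.smul_finset_union]
    exact octads_smul hg (hS.2.2 s' hs' u' hu' fun e => hne (by rw [e]))

theorem trios_smul {g : Equiv.Perm GolayPt} (hg : g ∈ M24) {T : Finset (Finset GolayPt)} (hT : T ∈ trios) :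
    g • T ∈ trios := by
  refine ⟨by rw [Finset.card_smul_finset]; exact hT.1, ?_, ?_⟩
  · intro s hs
    obtain ⟨t, ht, rfl⟩ := Finset.mem_smul_finset.1 hs
    exact octads_smul hg (hT.2.1 t ht)
  · intro s hs u hu hne
    obtain ⟨s', hs', rfl⟩ := Finset.mem_smul_finset.1 hs
    obtain ⟨u', hu', rfl⟩ := Finset.mem_smul_finset.1 hu
    have := hT.2.2 s' hs' u' hu' fun e => hne (by rw [e])
    rw [Finset.disjoint_iff_inter_eq_empty] at this ⊢
    rw [← Finset.smul_finset_inter, this, Finset.smul_finset_empty]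

theorem sextet_base : memB 15 (sexTbl.obj 776) = true ∧
    allLt (fun i =>
      let n := (octTbl.obj i).headD 0
      !Nat.beq (Nat.land n 15) 15 || memB (Nat.xor n 15) (sexTbl.obj 776)) octTbl.N = true := by decide +kernel

theorem sextets_eq : sextets = sexTbl.range := by
  apply Set.Subset.antisymm
  · intro S hS
    obtain ⟨t, ht⟩ : S.Nonempty := Finset.card_pos.1 (by rw [hS.1]; omega)
    obtain ⟨a, b, c, d, hab, hac, had, hbc, hbd, hcd, rfl⟩ := Finset.card_eq_four.1 (hS.2.1 t ht)
    have hne : ∀ i j : ℕ, i < 4 → j < 4 → i ≠ j → pt i ≠ pt j := by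
      intro i j hi hj hij e
      exact hij (by rw [← ptEquiv_pt (show i < 24 by omega), ← ptEquiv_pt (show j < 24 by omega), e])
    obtain ⟨g, hg, e0, e1, e2, e3⟩ := M24_map_four (hne 0 1 (by omega) (by omega) (by omega))
      (hne 0 2 (by omega) (by omega) (by omega)) (hne 0 3 (by omega) (by omega) (by omega))
      (hne 1 2 (by omega) (by omega) (by omega)) (hne 1 3 (by omega) (by omega) (by omega))
      (hne 2 3 (by omega) (by omega) (by omega)) hab hac had hbc hbd hcd
    have h15 : toSet 15 = {pt 0, pt 1, pt 2, pt 3} := by decide +kernel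
    have hg15 : g • toSet 15 = {a, b, c, d} := by
      rw [h15]
      simp [Finset.smul_finset_insert, Finset.smul_finset_singleton, Equiv.Perm.smul_def, e0, e1, e2, e3]
    have hS' := sextets_smul (inv_mem hg) hS
    have hmem : toSet 15 ∈ g⁻¹ • S := by
      rw [← inv_smul_smul g (toSet 15), hg15]
      exact Finset.smul_mem_smul_finset ht
    have key : g⁻¹ • S = sexTbl.el 776 := by
      refine Finset.eq_of_subset_of_card_le (fun u hu => ?_)
        (by rw [hS'.1, (sexTbl_mem 776 (by decide)).1])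
      by_cases he : u = toSet 15
      · subst he
        exact mem_oset.2 ⟨15, memB_iff.1 sextet_base.1, rfl⟩
      · have ho := hS'.2.2 _ hmem u hu (Ne.symm he)
        have hdis := sextet_disjoint hS' hmem hu (Ne.symm he)
        have hor : ({toSet 15 ∪ u} : Finset (Finset GolayPt)) ∈ octTbl.range := by
          rw [octTbl_range]; exact ⟨_, ho, rfl⟩
        obtain ⟨i, hi, hie⟩ := hor
        obtain ⟨n, hn⟩ := List.length_eq_one_iff.1 (length_fields 1 (chunkAt octTbl.data (24 * octTbl.k) i))
        have hobj : octTbl.obj i = [n] := hn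
        have hnu : toSet n = toSet 15 ∪ u := by
          rw [Tbl.el, hobj] at hie
          simpa [oset] using hie
        have := allLt_spec sextet_base.2 i hi
        simp only [hobj, List.headD_cons, Bool.or_eq_true, Bool.not_eq_true', memB_iff] at this
        have hsub : n &&& 15 = 15 := by
          refine toSet_inj (lt_of_le_of_lt Nat.and_le_right (by norm_num)) (by norm_num) ?_
          rw [toSet_and, hnu]
          exact Finset.inter_eq_right.2 Finset.subset_union_left
        refine mem_oset.2 ⟨n ^^^ 15, this.resolve_left fun h => ?_, ?_⟩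
        · rw [show Nat.land n 15 = 15 from hsub, Nat.beq_refl] at h
          exact Bool.noConfusion h
        rw [toSet_xor, hnu]
        ext p
        simp only [Finset.mem_symmDiff, Finset.mem_union]
        have := fun hp : p ∈ toSet 15 => Finset.disjoint_left.1 hdis hp
        tauto
    rw [← smul_inv_smul g S, key]
    exact Tbl.smul_mem sexTbl_closed hg ⟨776, (by decide : (776 : ℕ) < 1771), rfl⟩
  · rintro _ ⟨i, hi, rfl⟩
    exact sexTbl_mem i hi

theorem triTbl_valid : allLt (fun i =>
    let l := triTbl.obj i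
    allB isOctB l && allB (fun a => allB (fun b => Nat.beq a b || Nat.beq (Nat.land a b) 0) l) l) triTbl.N = true := by
  decide +kernel

theorem triTbl_mem : ∀ i < triTbl.N, triTbl.el i ∈ trios := by
  intro i hi
  have h := allLt_spec triTbl_valid i hi
  simp only [Bool.and_eq_true, allB_iff, Bool.or_eq_true] at h
  refine ⟨?_, ?_, ?_⟩
  · rw [Tbl.el, card_oset (triTbl.small i) (Tbl.strict triTbl_sorted hi)]
    exact length_fields _ _
  · intro s hs
    obtain ⟨n, hn, rfl⟩ := mem_oset.1 hs
    exact isOctB_spec (h.1 n hn)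
  · intro s hs u hu hne
    obtain ⟨a, ha, rfl⟩ := mem_oset.1 hs
    obtain ⟨b, hb, rfl⟩ := mem_oset.1 hu
    rw [Finset.disjoint_iff_inter_eq_empty, ← toSet_and, show a &&& b = 0 from Nat.eq_of_beq_eq_true ((h.2 a ha b hb).resolve_left fun e => hne (by rw [Nat.eq_of_beq_eq_true e]))]
    ext p; simp [mem_toSet]

/-- The numbers of the trios through the base octad. -/
def trioThrough : List ℕ := [614, 1064, 1619, 1694, 2174, 2339, 2579, 2609, 2894, 3239, 3329, 3479, 3614, 3719, 3749]

theorem trio_base : allB (fun j => Nat.ble (j + 1) triTbl.N && memB baseOctad (triTbl.obj j)) trioThrough = true ∧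
    allLt (fun i =>
      let n := (octTbl.obj i).headD 0
      !Nat.beq (Nat.land n baseOctad) 0 || anyB (fun j => memB n (triTbl.obj j)) trioThrough) octTbl.N = true := by
  decide +kernel

theorem trio_of_disjoint {T T' : Finset (Finset GolayPt)} (hT : T ∈ trios) (hT' : T' ∈ trios)
    {a b : Finset GolayPt} (hne : a ≠ b) (ha : a ∈ T) (hb : b ∈ T) (ha' : a ∈ T') (hb' : b ∈ T') : T = T' := by
  have third : ∀ {T}, T ∈ trios → a ∈ T → b ∈ T → T = {a, b, Finset.univ \ (a ∪ b)} := by
    intro T hT ha hb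
    have hsub : ({a, b} : Finset (Finset GolayPt)) ⊆ T := by simp [Finset.insert_subset_iff, ha, hb]
    obtain ⟨c, hc⟩ := Finset.card_eq_one.1 (show (T \ {a, b}).card = 1 by
      rw [Finset.card_sdiff_of_subset hsub, hT.1, Finset.card_pair hne])
    have hcm : c ∈ T \ {a, b} := hc ▸ Finset.mem_singleton_self c
    simp only [Finset.mem_sdiff, Finset.mem_insert, Finset.mem_singleton, not_or] at hcm
    have hcu : c = Finset.univ \ (a ∪ b) := by
      refine Finset.eq_of_subset_of_card_le ?_ ?_
      · intro p hp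
        simp only [Finset.mem_sdiff, Finset.mem_univ, Finset.mem_union, true_and, not_or]
        exact ⟨Finset.disjoint_left.1 (hT.2.2 c hcm.1 a ha hcm.2.1) hp,
          Finset.disjoint_left.1 (hT.2.2 c hcm.1 b hb hcm.2.2) hp⟩
      · rw [Finset.card_univ_sdiff, Finset.card_union_of_disjoint (hT.2.2 a ha b hb hne),
          (hT.2.1 a ha).2, (hT.2.1 b hb).2, (hT.2.1 c hcm.1).2]
        simp
    rw [← hcu]
    refine (Finset.eq_of_subset_of_card_le ?_ ?_).symm
    · simp [Finset.insert_subset_iff, ha, hb, hcm.1]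
    · rw [hT.1, Finset.card_insert_of_notMem, Finset.card_pair (Ne.symm hcm.2.2)]
      simp [hne, Ne.symm hcm.2.1]
  rw [third hT ha hb, third hT' ha' hb']

theorem trios_eq : trios = triTbl.range := by
  apply Set.Subset.antisymm
  · intro T hT
    obtain ⟨o, ho⟩ : T.Nonempty := Finset.card_pos.1 (by rw [hT.1]; omega)
    obtain ⟨g, hg, hgo⟩ := octads_transitive (hT.2.1 o ho)
    have hT' := trios_smul (inv_mem hg) hT
    have hmem : toSet baseOctad ∈ g⁻¹ • T := by
      rw [← inv_smul_smul g (toSet baseOctad), hgo]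
      exact Finset.smul_mem_smul_finset ho
    obtain ⟨b, hb⟩ : ((g⁻¹ • T).erase (toSet baseOctad)).Nonempty :=
      Finset.card_pos.1 (by rw [Finset.card_erase_of_mem hmem, hT'.1]; omega)
    obtain ⟨hbne, hbT⟩ := Finset.mem_erase.1 hb
    have hor : ({b} : Finset (Finset GolayPt)) ∈ octTbl.range := by
      rw [octTbl_range]; exact ⟨b, hT'.2.1 b hbT, rfl⟩
    obtain ⟨i, hi, hie⟩ := hor
    obtain ⟨n, hn⟩ := List.length_eq_one_iff.1 (length_fields 1 (chunkAt octTbl.data (24 * octTbl.k) i))
    have hobj : octTbl.obj i = [n] := hn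
    have hnb : toSet n = b := by
      rw [Tbl.el, hobj] at hie
      simpa [oset] using hie
    have := allLt_spec trio_base.2 i hi
    simp only [hobj, List.headD_cons, Bool.or_eq_true, Bool.not_eq_true', anyB_iff, memB_iff] at this
    have h0 : n &&& baseOctad = 0 := by
      refine toSet_inj (lt_of_le_of_lt Nat.and_le_right (by decide)) (by norm_num) ?_
      rw [toSet_and, hnb, Finset.disjoint_iff_inter_eq_empty.1 (hT'.2.2 b hbT _ hmem hbne)]
      ext p; simp [mem_toSet]
    obtain ⟨j, hj, hjn⟩ := this.resolve_left fun h => by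
      rw [show Nat.land n baseOctad = 0 from h0, Nat.beq_refl] at h
      exact Bool.noConfusion h
    have h1 := trio_base.1
    simp only [allB_iff, Bool.and_eq_true, Nat.ble_eq, memB_iff] at h1
    have hj' := h1 j hj
    have key : g⁻¹ • T = triTbl.el j := trio_of_disjoint hT' (triTbl_mem j (by omega)) hbne.symm hmem hbT
      (mem_oset.2 ⟨_, hj'.2, rfl⟩) (mem_oset.2 ⟨n, hjn, hnb⟩)
    rw [← smul_inv_smul g T, key]
    exact Tbl.smul_mem triTbl_closed hg ⟨j, (show j < triTbl.N by omega), rfl⟩
  · rintro _ ⟨i, hi, rfl⟩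
    exact triTbl_mem i hi

theorem m24Tabs_mem : ∀ G ∈ m24Tabs, pL G.L ∈ M24 := by
  intro G hG
  have h : gensMatch m24Tabs = true := by decide +kernel
  exact m24ChainGens_mem _ (of_decide_eq_true h ▸ List.mem_map_of_mem hG)

theorem sexForest_ok : sexTbl.forestOk m24Tabs sexForest (fun _ => true) [776] = true := by decide +kernel
theorem triForest_ok : triTbl.forestOk m24Tabs triForest (fun _ => true) [614] = true := by decide +kernel

theorem sextets_transitive {S : Finset (Finset GolayPt)} (hS : S ∈ sextets) :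
    ∃ g ∈ M24, g • sexTbl.el 776 = S := by
  rw [sextets_eq] at hS
  obtain ⟨i, hi, rfl⟩ := hS
  obtain ⟨r, hr, g, hg, he⟩ := Tbl.forest_spec sexForest_ok M24 m24Tabs_mem i hi rfl
  rw [List.mem_singleton] at hr
  exact ⟨g, hg, hr ▸ he⟩

theorem trios_transitive {T : Finset (Finset GolayPt)} (hT : T ∈ trios) :
    ∃ g ∈ M24, g • triTbl.el 614 = T := by
  rw [trios_eq] at hT
  obtain ⟨i, hi, rfl⟩ := hT
  obtain ⟨r, hr, g, hg, he⟩ := Tbl.forest_spec triForest_ok M24 m24Tabs_mem i hi rfl
  rw [List.mem_singleton] at hr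
  exact ⟨g, hg, hr ▸ he⟩

/-! ### Orbits of stabilisers -/

/-- The stabiliser of a family inside the group. -/
def stabF (B : Finset (Finset GolayPt)) : Subgroup (Equiv.Perm GolayPt) :=
  M24 ⊓ MulAction.stabilizer (Equiv.Perm GolayPt) B

theorem mem_stabF {B : Finset (Finset GolayPt)} {g : Equiv.Perm GolayPt} :
    g ∈ stabF B ↔ g ∈ M24 ∧ g • B = B := Iff.rfl

/-- The check of the generators of a stabiliser. -/
noncomputable def gensOk (B : List ℕ) (gens : List GenT) : Bool := allB (fun G => G.m24 && fixesB G B) gens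

theorem gensOk_spec {B : List ℕ} {gens : List GenT} (hB : Small B) (h : gensOk B gens = true) :
    ∀ G ∈ gens, pL G.L ∈ stabF (oset B) := by
  intro G hG
  simp only [gensOk, allB_iff, Bool.and_eq_true] at h
  obtain ⟨h1, h2⟩ := h G hG
  have hok : G.ok = true := by simp only [GenT.m24, Bool.and_eq_true] at h1; exact h1.1
  exact ⟨GenT.mem_M24 h1, (fixesB_iff hok hB).1 h2⟩

/-- The orbit of the stabiliser of `B` through `X`. -/
def orbF (B X : Finset (Finset GolayPt)) : Set (Finset (Finset GolayPt)) := (fun g => g • X) '' (stabF B : Set (Equiv.Perm GolayPt))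

theorem smul_orbF {g : Equiv.Perm GolayPt} (hg : g ∈ M24) (B X : Finset (Finset GolayPt)) :
    orbF (g • B) (g • X) = (g • ·) '' orbF B X := by
  ext Y
  simp only [orbF, Set.mem_image, SetLike.mem_coe, mem_stabF]
  constructor
  · rintro ⟨h, ⟨hm, hB⟩, rfl⟩
    refine ⟨(g⁻¹ * h * g) • X, ⟨g⁻¹ * h * g, ⟨mul_mem (mul_mem (inv_mem hg) hm) hg, ?_⟩, rfl⟩, ?_⟩
    · rw [mul_smul, mul_smul, hB, inv_smul_smul]
    · simp only [← mul_smul]; congr 1; group
  · rintro ⟨_, ⟨h, ⟨hm, hB⟩, rfl⟩, rfl⟩
    refine ⟨g * h * g⁻¹, ⟨mul_mem (mul_mem hg hm) (inv_mem hg), ?_⟩, ?_⟩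
    · rw [mul_smul, mul_smul, inv_smul_smul, hB]
    · simp only [← mul_smul]; congr 1; group

/-- Roots with different position codes. -/
noncomputable def rootsOk (t : Tbl) (B : List ℕ) (roots : List ℕ) : Bool :=
  roots.all (fun r => decide (r < t.N)) && decide ((roots.map fun r => posCodeL B (t.obj r)).Nodup)

theorem orbit_class {t : Tbl} (hs : t.sortedOk = true) {tabs : List GenT} {hint : List ℕ} (hc : t.closedOk tabs hint = true)
    {B : List ℕ} (hB : Small B) (hBs : strictB B = true) {gens : List GenT} (hg : gensOk B gens = true)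
    {aux roots : List ℕ} (hf : t.forestOk gens aux (fun _ => true) roots = true) (hr : rootsOk t B roots = true) :
    (∀ r ∈ roots, orbF (oset B) (t.el r) = {X | X ∈ t.range ∧ posCode (oset B) X = posCodeL B (t.obj r)} ∧
      (orbF (oset B) (t.el r)).ncard = countLt (fun i => Nat.beq (posCodeL B (t.obj i)) (posCodeL B (t.obj r))) t.N) ∧
    ∀ X ∈ t.range, ∃ r ∈ roots, X ∈ orbF (oset B) (t.el r) := by
  simp only [rootsOk, Bool.and_eq_true, List.all_eq_true, decide_eq_true_eq] at hr
  have hcode : ∀ i < t.N, posCode (oset B) (t.el i) = posCodeL B (t.obj i) := fun i hi =>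
    posCode_oset hB (t.small i) hBs (Tbl.strict hs hi)
  have hreach := Tbl.forest_spec hf (stabF (oset B)) (gensOk_spec hB hg)
  refine ⟨fun r hrm => ?_, ?_⟩
  · have hrN := hr.1 r hrm
    have heq : orbF (oset B) (t.el r) = {X | X ∈ t.range ∧ posCode (oset B) X = posCodeL B (t.obj r)} := by
      apply Set.Subset.antisymm
      · rintro _ ⟨g, hgm, rfl⟩
        exact ⟨Tbl.smul_mem hc hgm.1 ⟨r, hrN, rfl⟩, by rw [posCode_smul hgm.2, hcode r hrN]⟩
      · rintro _ ⟨⟨i, hi, rfl⟩, hpc⟩
        obtain ⟨r', hr', g, hgm, he⟩ := hreach i hi rfl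
        have : posCodeL B (t.obj r') = posCodeL B (t.obj r) := by
          rw [← hcode r' (hr.1 r' hr'), ← posCode_smul hgm.2, he, hpc]
        rw [List.inj_on_of_nodup_map hr.2 hr' hrm this] at he
        exact ⟨g, hgm, he⟩
    refine ⟨heq, ?_⟩
    rw [heq]
    exact Tbl.ncard_filter hs _ _ fun i hi => by rw [hcode i hi, Nat.beq_eq]
  · rintro _ ⟨i, hi, rfl⟩
    obtain ⟨r, hrm, g, hgm, he⟩ := hreach i hi rfl
    exact ⟨r, hrm, g, hgm, he⟩

end CfsgLib.M24Cert
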