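import Cfsg.Agent.Lib.M24Cert.Classes
import Cfsg.Agent.Lib.M24Cert.Objects

/-!
# Fixed points and fixed objects of the elements of orders two and three
-/

set_option autoImplicit false

namespace CfsgLib.M24Cert

open Cfsg CfsgLib.Golay

open scoped Pointwise

/-- The fixed points of a tabulated element. -/
noncomputable def fixN (G : GenT) : ℕ := countLt (fun i => Nat.beq (getR G.L i) i) 24

theorem rep_facts : fixN elT = 0 ∧ fixN elU = 8 ∧ fixN elD = 6 ∧ fixN elE = 0 ∧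
    compL elT.L elT.L = List.range 24 ∧ compL elU.L elU.L = List.range 24 ∧
    compL elD.L (compL elD.L elD.L) = List.range 24 ∧ compL elE.L (compL elE.L elE.L) = List.range 24 ∧
    isOctB (2 ^ 6 + 2 ^ 9 + 2 ^ 11 + 2 ^ 13 + 2 ^ 18 + 2 ^ 20 + 2 ^ 21 + 2 ^ 22) = true ∧
    allLt (fun i => decide (getR elU.L i = i ↔
      (2 ^ 6 + 2 ^ 9 + 2 ^ 11 + 2 ^ 13 + 2 ^ 18 + 2 ^ 20 + 2 ^ 21 + 2 ^ 22 : ℕ).testBit i = true)) 24 = true := by
  refine ⟨?_, ?_, ?_, ?_, ?_, ?_, ?_, ?_, ?_, ?_⟩ <;> decide +kernel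

theorem GenT.valid' {G : GenT} (h : G.m24 = true) : G.ok = true ∧ validL 24 G.L = true := by
  simp only [GenT.m24, Bool.and_eq_true] at h
  exact ⟨h.1, GenT.valid h.1⟩

theorem fixN_card {G : GenT} (h : G.m24 = true) :
    (Finset.univ.filter fun p => pL G.L p = p).card = fixN G := (desc_pL (GenT.valid' h).2).fixed_card

theorem ne_one_of_fixN {G : GenT} (h : G.m24 = true) {n : ℕ} (hn : fixN G = n) (hlt : n < 24) : pL G.L ≠ 1 := by
  intro e
  have := fixN_card h
  rw [e, hn, show (Finset.univ.filter fun p => (1 : Equiv.Perm GolayPt) p = p) = Finset.univ from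
    Finset.filter_true_of_mem fun p _ => rfl, Finset.card_univ] at this
  have h24 : Fintype.card GolayPt = 24 := by decide
  omega

theorem inv_facts : orderOf (pL elT.L) = 2 ∧ orderOf (pL elU.L) = 2 ∧ pL elT.L ∈ M24 ∧ pL elU.L ∈ M24 ∧
    orderOf (pL elD.L) = 3 ∧ orderOf (pL elE.L) = 3 ∧ pL elD.L ∈ M24 ∧ pL elE.L ∈ M24 := by
  obtain ⟨-, -, -, hT, hU, hD, hE, -⟩ := certs_ok
  obtain ⟨f0, f1, f2, f3, s0, s1, s2, s3, -⟩ := rep_facts
  have h2 : ∀ {G : GenT}, G.m24 = true → compL G.L G.L = List.range 24 → pL G.L ^ 2 = 1 := fun hG e => by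
    rw [pow_two, ← pL_compL (GenT.valid' hG).2 (GenT.valid' hG).2, e, pL_range]
  have h3 : ∀ {G : GenT}, G.m24 = true → compL G.L (compL G.L G.L) = List.range 24 → pL G.L ^ 3 = 1 := fun hG e => by
    rw [pow_succ, pow_two, mul_assoc, ← pL_compL (GenT.valid' hG).2 (GenT.valid' hG).2,
      ← pL_compL (GenT.valid' hG).2 (validL_compL (GenT.valid' hG).2 (GenT.valid' hG).2), e, pL_range]
  haveI : Fact (Nat.Prime 2) := ⟨Nat.prime_two⟩
  haveI : Fact (Nat.Prime 3) := ⟨Nat.prime_three⟩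
  exact ⟨orderOf_eq_prime (h2 hT s0) (ne_one_of_fixN hT f0 (by omega)),
    orderOf_eq_prime (h2 hU s1) (ne_one_of_fixN hU f1 (by omega)), GenT.mem_M24 hT, GenT.mem_M24 hU,
    orderOf_eq_prime (h3 hD s2) (ne_one_of_fixN hD f2 (by omega)),
    orderOf_eq_prime (h3 hE s3) (ne_one_of_fixN hE f3 (by omega)), GenT.mem_M24 hD, GenT.mem_M24 hE⟩

theorem conj_fixed_set (u g : Equiv.Perm GolayPt) :
    (Finset.univ.filter fun p => (u * g * u⁻¹) p = p) = u • (Finset.univ.filter fun p => g p = p) := by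
  ext p
  simp only [Finset.mem_filter, Finset.mem_univ, true_and, Finset.mem_smul_finset]
  show u (g (u.symm p)) = p ↔ _
  constructor
  · intro h
    refine ⟨u.symm p, ?_, u.apply_symm_apply p⟩
    conv_rhs => rw [← h]
    rw [Equiv.symm_apply_apply]
  · rintro ⟨q, hq, rfl⟩
    rw [Equiv.Perm.smul_def, Equiv.symm_apply_apply, hq]

/-- An involution is conjugate to the representative with its number of fixed points. -/
theorem inv_cases {g : Equiv.Perm GolayPt} (hg : g ∈ M24) (ho : orderOf g = 2) :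
    ∃ u ∈ M24, (g = u * pL elT.L * u⁻¹ ∧ (Finset.univ.filter fun p => g p = p).card = 0) ∨
      (g = u * pL elU.L * u⁻¹ ∧ (Finset.univ.filter fun p => g p = p).card = 8) := by
  obtain ⟨u, hu, h⟩ := inv_class hg ho
  obtain ⟨-, -, -, hT, hU, -⟩ := certs_ok
  refine ⟨u, hu, h.imp (fun e => ⟨e, ?_⟩) fun e => ⟨e, ?_⟩⟩
  · rw [e, m24_fixed_conj, fixN_card hT, rep_facts.1]
  · rw [e, m24_fixed_conj, fixN_card hU, rep_facts.2.1]

/-- An element of order three is conjugate to the representative with its number of fixed points. -/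
theorem three_cases {g : Equiv.Perm GolayPt} (hg : g ∈ M24) (ho : orderOf g = 3) :
    ∃ u ∈ M24, (g = u * pL elD.L * u⁻¹ ∧ (Finset.univ.filter fun p => g p = p).card = 6) ∨
      (g = u * pL elE.L * u⁻¹ ∧ (Finset.univ.filter fun p => g p = p).card = 0) := by
  obtain ⟨u, hu, h⟩ := three_class hg ho
  obtain ⟨-, -, -, -, -, hD, hE, -⟩ := certs_ok
  refine ⟨u, hu, h.imp (fun e => ⟨e, ?_⟩) fun e => ⟨e, ?_⟩⟩
  · rw [e, m24_fixed_conj, fixN_card hD, rep_facts.2.2.1]
  · rw [e, m24_fixed_conj, fixN_card hE, rep_facts.2.2.2.1]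

theorem fixed_card_zero_iff {g : Equiv.Perm GolayPt} :
    (Finset.univ.filter fun p => g p = p).card = 0 ↔ ∀ p, g p ≠ p := by
  simp [Finset.card_eq_zero, Finset.filter_eq_empty_iff]

theorem elU_fixed_octad : (Finset.univ.filter fun p => pL elU.L p = p) ∈ octads := by
  obtain ⟨-, -, -, -, -, -, -, -, ho, hm⟩ := rep_facts
  have hU : elU.m24 = true := certs_ok.2.2.2.2.1
  convert isOctB_spec ho using 1
  ext q
  obtain ⟨i, hi, rfl⟩ := exists_pt q
  have h1 := of_decide_eq_true (allLt_spec hm i hi)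
  obtain ⟨h2, h3⟩ := desc_pL (GenT.valid' hU).2 i hi
  simp only [Finset.mem_filter, Finset.mem_univ, true_and, pt_mem_toSet hi]
  rw [← h1, h3]
  exact ⟨fun e => pt_inj h2 hi e, fun e => by rw [e]⟩

theorem Tbl.fixed_count {t : Tbl} (hs : t.sortedOk = true) {hint : List ℕ} (hc : t.closedOk m24Tabs hint = true)
    {G : GenT} (hG : G.m24 = true) {u : Equiv.Perm GolayPt} (hu : u ∈ M24) :
    {X | X ∈ t.range ∧ (u * pL G.L * u⁻¹) • X = X}.ncard = countLt (fun i => fixesB G (t.obj i)) t.N := by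
  have e : {X | X ∈ t.range ∧ (u * pL G.L * u⁻¹) • X = X} = (u • ·) '' {X | X ∈ t.range ∧ pL G.L • X = X} := by
    ext X
    constructor
    · rintro ⟨hX, hfix⟩
      refine ⟨u⁻¹ • X, ⟨Tbl.smul_mem hc (inv_mem hu) hX, ?_⟩, smul_inv_smul u X⟩
      rw [mul_smul, mul_smul] at hfix
      exact eq_inv_smul_iff.2 hfix
    · rintro ⟨Y, ⟨hY, hfix⟩, rfl⟩
      exact ⟨Tbl.smul_mem hc hu hY, by rw [mul_smul, mul_smul, inv_smul_smul, hfix]⟩
  rw [e, Set.ncard_image_of_injective _ (MulAction.injective u)]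
  exact Tbl.ncard_filter hs _ _ fun i _ => (fixesB_iff (GenT.valid' hG).1 (Tbl.small _ _)).symm

theorem fixed_octads {G : GenT} (hG : G.m24 = true) {u : Equiv.Perm GolayPt} (hu : u ∈ M24) :
    {o | o ∈ octads ∧ (u * pL G.L * u⁻¹) • o = o}.ncard = countLt (fun i => fixesB G (octTbl.obj i)) octTbl.N := by
  rw [← Tbl.fixed_count octTbl_sorted octTbl_closed hG hu, octTbl_range,
    ← Set.ncard_image_of_injective _ (Finset.singleton_injective)]
  congr 1
  ext X
  constructor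
  · rintro ⟨o, ⟨ho, hfix⟩, rfl⟩
    exact ⟨⟨o, ho, rfl⟩, by rw [Finset.smul_finset_singleton, hfix]⟩
  · rintro ⟨⟨o, ho, rfl⟩, hfix⟩
    refine ⟨o, ⟨ho, ?_⟩, rfl⟩
    rw [Finset.smul_finset_singleton] at hfix
    exact Finset.singleton_injective hfix

theorem fixed_dodecads {G : GenT} (hG : G.m24 = true) {u : Equiv.Perm GolayPt} (hu : u ∈ M24) :
    {d | d ∈ dodecads ∧ (u * pL G.L * u⁻¹) • d = d}.ncard =
      countSpan (fun n => Nat.beq (bc n) 12 && Nat.beq (G.app n) n) golayBasis 0 := by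
  have hv := GenT.valid' hG
  have e : {d | d ∈ dodecads ∧ (u * pL G.L * u⁻¹) • d = d} = (u • ·) '' {d | d ∈ dodecads ∧ pL G.L • d = d} := by
    ext X
    constructor
    · rintro ⟨hX, hfix⟩
      refine ⟨u⁻¹ • X, ⟨wordsOfWeight_smul (inv_mem hu) hX, ?_⟩, smul_inv_smul u X⟩
      rw [mul_smul, mul_smul] at hfix
      exact eq_inv_smul_iff.2 hfix
    · rintro ⟨Y, ⟨hY, hfix⟩, rfl⟩
      exact ⟨wordsOfWeight_smul hu hY, by rw [mul_smul, mul_smul, inv_smul_smul, hfix]⟩
  rw [e, Set.ncard_image_of_injective _ (MulAction.injective u), ← countP_golayList, List.countP_eq_length_filter]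
  set l := golayList.filter (fun n => Nat.beq (bc n) 12 && Nat.beq (G.app n) n) with hl
  have e2 : {d | d ∈ dodecads ∧ pL G.L • d = d} = toSet '' (↑l.toFinset : Set ℕ) := by
    ext d
    simp only [Set.mem_ofPred_eq, dodecads, mem_wordsOfWeight, Set.mem_image, hl, List.coe_toFinset, List.mem_filter,
      Bool.and_eq_true, Nat.beq_eq]
    constructor
    · rintro ⟨⟨n, hn, h12, rfl⟩, hfix⟩
      rw [smul_toSet_imgF hv.2, ← GenT.app_eq hv.1] at hfix
      exact ⟨n, ⟨hn, by rw [← bitCount_eq_bc]; exact h12,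
        toSet_inj (by rw [GenT.app_eq hv.1]; exact imgF_lt hv.2 n) (golayList_lt n hn) hfix⟩, rfl⟩
    · rintro ⟨n, ⟨hn, h12, hk⟩, rfl⟩
      exact ⟨⟨n, hn, by rw [bitCount_eq_bc]; exact h12, rfl⟩,
        by rw [smul_toSet_imgF hv.2, ← GenT.app_eq hv.1, hk]⟩
  rw [e2, Set.InjOn.ncard_image, Set.ncard_coe_finset, List.toFinset_card_of_nodup]
  · exact golayList_nodup.filter _
  · intro a ha b hb hab
    simp only [hl, List.coe_toFinset, List.mem_filter, Set.mem_ofPred_eq] at ha hb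
    exact toSet_injOn a ha.1 b hb.1 hab

end CfsgLib.M24Cert
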