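import Cfsg.Agent.Lib.M24Cert.Coatom

/-!
# Moving a configuration of points and octads to the tabulated one
-/

set_option autoImplicit false

namespace CfsgLib.M24Cert

open Cfsg CfsgLib.Golay

open scoped Pointwise

theorem apply_mem_smul {g : Equiv.Perm GolayPt} {a : GolayPt} {U : Finset GolayPt} : g a ∈ g • U ↔ a ∈ U :=
  Finset.smul_mem_smul_finset_iff g

theorem mem_M24_conj {g h : Equiv.Perm GolayPt} (hg : g ∈ M24) (hh : h ∈ M24) : g * h * g⁻¹ ∈ M24 :=
  mul_mem (mul_mem hg hh) (inv_mem hg)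

theorem conj_smul_smul (g h : Equiv.Perm GolayPt) (U : Finset GolayPt) : (g * h * g⁻¹) • g • U = g • h • U := by
  rw [mul_smul, inv_smul_smul, mul_smul]

theorem conj_apply (g h : Equiv.Perm GolayPt) (a : GolayPt) : (g * h * g⁻¹) (g a) = g (h a) := by simp

/-- The elements of `fixMasks` fix the tabulated points. -/
theorem fixMasks_point {ms : List ℕ} {g : Equiv.Perm GolayPt} (hg : g ∈ fixMasks ms) {i : ℕ} (hi : i < 24)
    (hm : 2 ^ i ∈ ms) : g (pt i) = pt i :=
  fix_point ((mem_fixMasks.1 hg).2 _ hm) (toSet_pow hi)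

theorem inter_card_smul (g : Equiv.Perm GolayPt) (U V : Finset GolayPt) : (g • U ∩ g • V).card = (U ∩ V).card := by
  rw [← Finset.smul_finset_inter, Finset.card_smul_finset]

theorem pqIn_forest : fixOk [1, 2] pqInOnOctGens = true ∧
    octTbl.forestOk pqInOnOctGens pqInOnOctAux (fun i => (one octTbl i).testBit 0 && (one octTbl i).testBit 1) [0] = true := by
  refine ⟨?_, ?_⟩ <;> decide +kernel

theorem pqOut_forest : fixOk [1, 32] pqOutOnOctGens = true ∧
    octTbl.forestOk pqOutOnOctGens pqOutOnOctAux (fun i => (one octTbl i).testBit 0 && !(one octTbl i).testBit 5) [0] = true := by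
  refine ⟨?_, ?_⟩ <;> decide +kernel

theorem pt_forest : fixOk [1] ptOnOctGens = true ∧
    octTbl.forestOk ptOnOctGens ptOnOctAux (fun i => (one octTbl i).testBit 0) [0] = true := by
  refine ⟨?_, ?_⟩ <;> decide +kernel

theorem out_forest : fixOk [32] outOnOctGens = true ∧
    octTbl.forestOk outOnOctGens outOnOctAux (fun i => !(one octTbl i).testBit 5) [0] = true := by
  refine ⟨?_, ?_⟩ <;> decide +kernel

theorem base_octad_pts : one octTbl 0 = baseOctad := by decide +kernel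

/-- The selected octads are conjugate to the base octad. -/
theorem octad_to_base {gens : List GenT} {aux ms : List ℕ} {Pb : ℕ → Bool}
    (hg : fixOk ms gens = true) (hf : octTbl.forestOk gens aux (fun i => Pb (one octTbl i)) [0] = true)
    (h0 : Pb baseOctad = true) {o : Finset GolayPt} (ho : o ∈ octads)
    (hb : ∀ i < octTbl.N, toSet (one octTbl i) = o → Pb (one octTbl i) = true) :
    ∃ h ∈ fixMasks ms, h • toSet baseOctad = o := by
  refine octads_complete.conj hf (fixOk_spec hg) baseOctad_mem ho (fun i hi e => ?_) hb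
  rw [← base_octad_pts] at e
  rw [octads_complete.inj hi (by decide : 0 < 759) e, base_octad_pts, h0]

theorem pqIn_map {p q : GolayPt} (hpq : p ≠ q) {o : Finset GolayPt} (ho : o ∈ octads) (hp : p ∈ o) (hq : q ∈ o) :
    ∃ g ∈ M24, g • toSet baseOctad = o ∧ g (pt 0) = p ∧ g (pt 1) = q := by
  obtain ⟨g, hg, rfl, rfl⟩ := M24_map_two (a := pt 0) (b := pt 1) (by decide +kernel) hpq
  obtain ⟨U, rfl⟩ : ∃ U, o = g • U := ⟨g⁻¹ • o, (smul_inv_smul g o).symm⟩
  rw [apply_mem_smul] at hp hq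
  obtain ⟨h, hh, e⟩ := octad_to_base (Pb := fun n => n.testBit 0 && n.testBit 1) pqIn_forest.1 pqIn_forest.2
    (by decide +kernel) ((octads_smul_iff hg U).1 ho) (fun i _ e => by
      subst e
      rw [pt_mem_toSet (by omega)] at hp hq
      rw [hp, hq]; rfl)
  exact ⟨g * h, mul_mem hg (mem_fixMasks.1 hh).1, by rw [mul_smul, e],
    by rw [Equiv.Perm.mul_apply, fixMasks_point hh (by omega) (by simp)],
    by rw [Equiv.Perm.mul_apply, fixMasks_point hh (by omega) (by simp)]⟩

theorem pqOut_map {p q : GolayPt} (hpq : p ≠ q) {o : Finset GolayPt} (ho : o ∈ octads) (hp : p ∈ o) (hq : q ∉ o) :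
    ∃ g ∈ M24, g • toSet baseOctad = o ∧ g (pt 0) = p ∧ g (pt 5) = q := by
  obtain ⟨g, hg, rfl, rfl⟩ := M24_map_two (a := pt 0) (b := pt 5) (by decide +kernel) hpq
  obtain ⟨U, rfl⟩ : ∃ U, o = g • U := ⟨g⁻¹ • o, (smul_inv_smul g o).symm⟩
  rw [apply_mem_smul] at hp hq
  obtain ⟨h, hh, e⟩ := octad_to_base (Pb := fun n => n.testBit 0 && !n.testBit 5) pqOut_forest.1 pqOut_forest.2
    (by decide +kernel) ((octads_smul_iff hg U).1 ho) (fun i _ e => by
      subst e
      rw [pt_mem_toSet (by omega)] at hp hq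
      rw [Bool.not_eq_true] at hq
      rw [hp, hq]; rfl)
  exact ⟨g * h, mul_mem hg (mem_fixMasks.1 hh).1, by rw [mul_smul, e],
    by rw [Equiv.Perm.mul_apply, fixMasks_point hh (by omega) (by simp)],
    by rw [Equiv.Perm.mul_apply, fixMasks_point hh (by omega) (by simp)]⟩

theorem point_map (p : GolayPt) (a : GolayPt) : ∃ g ∈ M24, g a = p := by
  obtain ⟨b, hb⟩ := exists_ne a
  obtain ⟨q, hq⟩ := exists_ne p
  obtain ⟨g, hg, e, -⟩ := M24_map_two hb.symm hq.symm
  exact ⟨g, hg, e⟩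

theorem ptIn_map {p : GolayPt} {o : Finset GolayPt} (ho : o ∈ octads) (hp : p ∈ o) :
    ∃ g ∈ M24, g • toSet baseOctad = o ∧ g (pt 0) = p := by
  obtain ⟨g, hg, rfl⟩ := point_map p (pt 0)
  obtain ⟨U, rfl⟩ : ∃ U, o = g • U := ⟨g⁻¹ • o, (smul_inv_smul g o).symm⟩
  rw [apply_mem_smul] at hp
  obtain ⟨h, hh, e⟩ := octad_to_base (Pb := fun n => n.testBit 0) pt_forest.1 pt_forest.2 (by decide +kernel)
    ((octads_smul_iff hg U).1 ho) (fun i _ e => by
      subst e
      rwa [pt_mem_toSet (by omega)] at hp)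
  exact ⟨g * h, mul_mem hg (mem_fixMasks.1 hh).1, by rw [mul_smul, e],
    by rw [Equiv.Perm.mul_apply, fixMasks_point hh (by omega) (by simp)]⟩

theorem ptOut_map {p : GolayPt} {o : Finset GolayPt} (ho : o ∈ octads) (hp : p ∉ o) :
    ∃ g ∈ M24, g • toSet baseOctad = o ∧ g (pt 5) = p := by
  obtain ⟨g, hg, rfl⟩ := point_map p (pt 5)
  obtain ⟨U, rfl⟩ : ∃ U, o = g • U := ⟨g⁻¹ • o, (smul_inv_smul g o).symm⟩
  rw [apply_mem_smul] at hp
  obtain ⟨h, hh, e⟩ := octad_to_base (Pb := fun n => !n.testBit 5) out_forest.1 out_forest.2 (by decide +kernel)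
    ((octads_smul_iff hg U).1 ho) (fun i _ e => by
      subst e
      rw [pt_mem_toSet (by omega), Bool.not_eq_true] at hp
      rw [hp]; rfl)
  exact ⟨g * h, mul_mem hg (mem_fixMasks.1 hh).1, by rw [mul_smul, e],
    by rw [Equiv.Perm.mul_apply, fixMasks_point hh (by omega) (by simp)]⟩

end CfsgLib.M24Cert
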