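import Cfsg.Agent.Lib.M24Cert.Quartets
import Cfsg.Agent.Lib.M24Cert.Pairs

/-!
# The stabiliser of a quartet: an extension of a group of order nine by `GL(2,3)`
-/

set_option autoImplicit false

namespace CfsgLib.M24Cert

open Cfsg CfsgLib.Golay

open scoped Pointwise Matrix

/-- The list of the normal element with given coordinates. -/
def nrmL (v : Fin 2 → ZMod 3) : List ℕ := quartNormal.getD ((v 0).val + 3 * (v 1).val) []

/-- The normal element with given coordinates. -/
noncomputable def nrm (v : Fin 2 → ZMod 3) : Equiv.Perm GolayPt := pL (nrmL v)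

/-- The matrices of the chosen generators. -/
def linMat : Fin 6 → Matrix (Fin 2) (Fin 2) (ZMod 3) :=
  ![Matrix.transvection 0 1 1, Matrix.transvection 0 1 2, Matrix.transvection 1 0 1, Matrix.transvection 1 0 2,
    Matrix.diagonal ![2, 1], Matrix.diagonal ![1, 2]]

/-- All chosen generators. -/
def quartAllGens : List (List ℕ) := quartLinGens ++ [nrmL ![1, 0], nrmL ![0, 1]]

/-- The list fixes the standard quartet. -/
noncomputable def fixQuartB (L : List ℕ) : Bool :=
  m24Test L && allB (fun n => memB (imgF L n) (quartTbl.obj 101)) (quartTbl.obj 101)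

/-- Iterated composition. -/
def powQL (L : List ℕ) : ℕ → List ℕ
  | 0 => List.range 24
  | k + 1 => compL (powQL L k) L

theorem quartStab_basic : allB fixQuartB quartAllGens = true ∧ allB fixQuartB quartMoves = true ∧
    allLt (fun i => !baseDodecad.testBit i || anyB (fun L => Nat.beq (L.getD 0 0) i) quartMoves) 24 = true ∧
    quartLinGens.length = 6 := by
  refine ⟨?_, ?_, ?_, ?_⟩ <;> decide +kernel

theorem nrm_checks : (∀ v : Fin 2 → ZMod 3, validL 24 (nrmL v) = true) ∧
    (∀ v, nrmL v = compL (powQL (nrmL ![1, 0]) (v 0).val) (powQL (nrmL ![0, 1]) (v 1).val)) ∧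
    (∀ v w, nrmL v = nrmL w → v = w) ∧
    (∀ v, compL (nrmL ![1, 0]) (nrmL v) = compL (nrmL v) (nrmL ![1, 0]) ∧
      compL (nrmL ![0, 1]) (nrmL v) = compL (nrmL v) (nrmL ![0, 1])) ∧
    ∀ k : Fin 6, ∀ v, compL (quartLinGens.getD k.val []) (nrmL v) =
      compL (nrmL (linMat k *ᵥ v)) (quartLinGens.getD k.val []) := by
  refine ⟨?_, ?_, ?_, ?_, ?_⟩ <;> decide +kernel

theorem fixQuartB_spec {L : List ℕ} (h : fixQuartB L = true) : pL L ∈ stabF (quartTbl.el 101) := by
  simp only [fixQuartB, Bool.and_eq_true, allB_iff, memB_iff] at h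
  refine mem_stabF.2 ⟨mem_M24_of_test h.1, Finset.eq_of_subset_of_card_le (fun s hs => ?_)
    (by rw [Finset.card_smul_finset])⟩
  obtain ⟨t, ht, rfl⟩ := Finset.mem_smul_finset.1 hs
  obtain ⟨n, hn, rfl⟩ := mem_oset.1 ht
  rw [smul_toSet_imgF (valid_of_m24Test h.1)]
  exact mem_oset.2 ⟨_, h.2 n hn, rfl⟩

/-- The group of the chosen generators. -/
def quartGroup : Subgroup (Equiv.Perm GolayPt) := Subgroup.closure {g | ∃ L ∈ quartAllGens, pL L = g}

theorem quartGen_ok {L : List ℕ} (hL : L ∈ quartAllGens) : validL 24 L = true ∧ pL L ∈ quartGroup := by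
  have h := allB_iff.1 quartStab_basic.1 L hL
  simp only [fixQuartB, Bool.and_eq_true] at h
  exact ⟨valid_of_m24Test h.1, Subgroup.subset_closure ⟨L, hL, rfl⟩⟩

theorem quartGroup_le : quartGroup ≤ stabF (quartTbl.el 101) := by
  rw [quartGroup, Subgroup.closure_le]
  rintro _ ⟨L, hL, rfl⟩
  exact fixQuartB_spec (allB_iff.1 quartStab_basic.1 L hL)

theorem pL_powQL {L : List ℕ} (h : validL 24 L = true) :
    ∀ k, validL 24 (powQL L k) = true ∧ pL (powQL L k) = pL L ^ k
  | 0 => ⟨show validL 24 (List.range 24) = true by decide, by rw [pow_zero]; exact pL_range⟩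
  | k + 1 => by
    obtain ⟨h1, h2⟩ := pL_powQL h k
    exact ⟨validL_compL h1 h, by rw [show powQL L (k + 1) = compL (powQL L k) L from rfl, pL_compL h1 h, h2, pow_succ]⟩

theorem nrm_mem (v : Fin 2 → ZMod 3) : nrm v ∈ quartGroup := by
  have h1 := quartGen_ok (L := nrmL ![1, 0]) (List.mem_append_right _ List.mem_cons_self)
  have h2 := quartGen_ok (L := nrmL ![0, 1]) (List.mem_append_right _ (List.mem_cons_of_mem _ List.mem_cons_self))
  rw [nrm, nrm_checks.2.1 v, pL_compL (pL_powQL h1.1 _).1 (pL_powQL h2.1 _).1, (pL_powQL h1.1 _).2, (pL_powQL h2.1 _).2]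
  exact mul_mem (pow_mem h1.2 _) (pow_mem h2.2 _)

theorem nrm_injective : Function.Injective nrm := fun v w h =>
  nrm_checks.2.2.1 v w (pL_inj (nrm_checks.1 v) (nrm_checks.1 w) h)

/-- Conjugation acts linearly on the normal elements. -/
def ConjLin (g : Equiv.Perm GolayPt) (A : GL (Fin 2) (ZMod 3)) : Prop :=
  ∀ v, g * nrm v * g⁻¹ = nrm ((A : Matrix (Fin 2) (Fin 2) (ZMod 3)) *ᵥ v)

theorem conjLin_unique {g : Equiv.Perm GolayPt} {A B : GL (Fin 2) (ZMod 3)} (hA : ConjLin g A) (hB : ConjLin g B) :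
    A = B := by
  refine Units.ext (Matrix.toLin'.injective (LinearMap.ext fun v => ?_))
  rw [Matrix.toLin'_apply, Matrix.toLin'_apply]
  exact nrm_injective ((hA v).symm.trans (hB v))

theorem conj_of_comp {L A B : List ℕ} (hL : validL 24 L = true) (hA : validL 24 A = true) (hB : validL 24 B = true)
    (h : compL L A = compL B L) : pL L * pL A * (pL L)⁻¹ = pL B := by
  have e := congrArg pL h
  rw [pL_compL hL hA, pL_compL hB hL] at e
  rw [e, mul_inv_cancel_right]

theorem linMat_det : ∀ k, (linMat k).det ≠ 0 := by decide +kernel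

/-- The matrices as units. -/
noncomputable def linUnit (k : Fin 6) : GL (Fin 2) (ZMod 3) :=
  Matrix.GeneralLinearGroup.mkOfDetNeZero (linMat k) (linMat_det k)

theorem linGen (k : Fin 6) : quartLinGens.getD k.val [] ∈ quartAllGens := by
  rw [List.getD_eq_getElem _ _ (by rw [quartStab_basic.2.2.2]; exact k.2)]
  exact List.mem_append_left _ (List.getElem_mem _)

theorem lin_on (k : Fin 6) : ConjLin (pL (quartLinGens.getD k.val [])) (linUnit k) := fun v =>
  conj_of_comp (quartGen_ok (linGen k)).1 (nrm_checks.1 v) (nrm_checks.1 _) (nrm_checks.2.2.2.2 k v)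

theorem exists_conjLin {g : Equiv.Perm GolayPt} (hg : g ∈ quartGroup) : ∃ A, ConjLin g A := by
  induction hg using Subgroup.closure_induction with
  | mem x hx =>
    obtain ⟨L, hL, rfl⟩ := hx
    simp only [quartAllGens, List.mem_append, List.mem_cons, List.not_mem_nil, or_false] at hL
    rcases hL with hL | rfl | rfl
    · obtain ⟨k, hk, rfl⟩ := List.mem_iff_getElem.1 hL
      refine ⟨linUnit ⟨k, Nat.lt_of_lt_of_eq hk quartStab_basic.2.2.2⟩, ?_⟩
      have h := lin_on ⟨k, Nat.lt_of_lt_of_eq hk quartStab_basic.2.2.2⟩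
      rw [List.getD_eq_getElem _ _ hk] at h
      exact h
    · exact ⟨1, fun v => by
        rw [Units.val_one, Matrix.one_mulVec, nrm]
        exact conj_of_comp (L := nrmL ![1, 0]) (A := nrmL v) (B := nrmL v) (nrm_checks.1 _) (nrm_checks.1 v)
          (nrm_checks.1 v) (nrm_checks.2.2.2.1 v).1⟩
    · exact ⟨1, fun v => by
        rw [Units.val_one, Matrix.one_mulVec, nrm]
        exact conj_of_comp (L := nrmL ![0, 1]) (A := nrmL v) (B := nrmL v) (nrm_checks.1 _) (nrm_checks.1 v)
          (nrm_checks.1 v) (nrm_checks.2.2.2.1 v).2⟩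
  | one => exact ⟨1, fun v => by simp⟩
  | mul x y _ _ hx hy =>
    obtain ⟨A, hA⟩ := hx
    obtain ⟨B, hB⟩ := hy
    refine ⟨A * B, fun v => ?_⟩
    rw [Units.val_mul, ← Matrix.mulVec_mulVec, ← hA, ← hB]
    group
  | inv x _ hx =>
    obtain ⟨A, hA⟩ := hx
    refine ⟨A⁻¹, fun v => ?_⟩
    have h := hA (((A⁻¹ : GL (Fin 2) (ZMod 3)) : Matrix (Fin 2) (Fin 2) (ZMod 3)) *ᵥ v)
    rw [Matrix.mulVec_mulVec, ← Units.val_mul, mul_inv_cancel, Units.val_one, Matrix.one_mulVec] at h
    rw [← h]
    group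

/-- The matrix of an element. -/
noncomputable def quartImg (g : ↥quartGroup) : GL (Fin 2) (ZMod 3) := Classical.choose (exists_conjLin g.2)

theorem quartImg_spec (g : ↥quartGroup) : ConjLin g.1 (quartImg g) := Classical.choose_spec (exists_conjLin g.2)

theorem quartImg_eq {g : ↥quartGroup} {A : GL (Fin 2) (ZMod 3)} (h : ConjLin g.1 A) : quartImg g = A :=
  conjLin_unique (quartImg_spec g) h

/-- The homomorphism to `GL(2,3)`. -/
noncomputable def quartHom : ↥quartGroup →* GL (Fin 2) (ZMod 3) where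
  toFun := quartImg
  map_one' := quartImg_eq fun v => by simp
  map_mul' x y := by
    refine quartImg_eq fun v => ?_
    rw [Units.val_mul, ← Matrix.mulVec_mulVec, ← quartImg_spec x, ← quartImg_spec y, Subgroup.coe_mul]
    group

theorem quartHom_eq {g : ↥quartGroup} {A : GL (Fin 2) (ZMod 3)} (h : ConjLin g.1 A) : quartHom g = A :=
  quartImg_eq h

theorem quartHom_surjective : Function.Surjective quartHom := by
  rw [← MonoidHom.range_eq_top, eq_top_iff]
  intro A _
  have hgen : ∀ k, linUnit k ∈ quartHom.range := fun k =>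
    ⟨⟨_, (quartGen_ok (linGen k)).2⟩, quartHom_eq (lin_on k)⟩
  let P : Matrix (Fin 2) (Fin 2) (ZMod 3) → Prop := fun M =>
    ∃ g : GL (Fin 2) (ZMod 3), (g : Matrix (Fin 2) (Fin 2) (ZMod 3)) = M ∧ g ∈ quartHom.range
  have hk : ∀ k, P (linMat k) := fun k => ⟨linUnit k, rfl, hgen k⟩
  have hmul : ∀ B C, P B → P C → P (B * C) := fun B C ⟨b, hb, hbr⟩ ⟨c, hc, hcr⟩ =>
    ⟨b * c, by rw [Units.val_mul, hb, hc], mul_mem hbr hcr⟩
  have hone : P 1 := ⟨1, rfl, one_mem _⟩
  have hdet : (A : Matrix (Fin 2) (Fin 2) (ZMod 3)).det ≠ 0 :=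
    (Matrix.isUnit_iff_isUnit_det _ |>.1 A.isUnit).ne_zero
  obtain ⟨g, hg, hgr⟩ : P A := Matrix.diagonal_transvection_induction_of_det_ne_zero P _ hdet
    (fun D hD => by
      rw [Matrix.det_diagonal, Fin.prod_univ_two, mul_ne_zero_iff] at hD
      have hcase : ∀ a : ZMod 3, a ≠ 0 → a = 1 ∨ a = 2 := by decide
      have e : D = ![D 0, D 1] := by funext i; fin_cases i <;> rfl
      rw [e]
      rcases hcase _ hD.1 with h0 | h0 <;> rcases hcase _ hD.2 with h1 | h1 <;> rw [h0, h1]
      · have : Matrix.diagonal ![(1 : ZMod 3), 1] = 1 := by decide +kernel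
        exact this ▸ hone
      · exact hk 5
      · exact hk 4
      · have : Matrix.diagonal ![(2 : ZMod 3), 2] = linMat 4 * linMat 5 := by decide +kernel
        exact this ▸ hmul _ _ (hk 4) (hk 5))
    (fun t => by
      rcases (by decide : ∀ a : ZMod 3, a = 0 ∨ a = 1 ∨ a = 2) t.c with hc | hc
      · rw [show t.toMatrix = 1 by simp [Matrix.TransvectionStruct.toMatrix, hc]]
        exact hone
      · obtain ⟨k, hk'⟩ := (by decide +kernel : ∀ (i j : Fin 2) (c : ZMod 3), i ≠ j → (c = 1 ∨ c = 2) →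
          ∃ k, linMat k = Matrix.transvection i j c) t.i t.j t.c t.hij hc
        rw [show t.toMatrix = linMat k from hk'.symm]
        exact hk k)
    (fun B C _ _ hB hC => hmul B C hB hC)
  rwa [← Units.ext hg]

theorem card_stab_quartet {d : Finset GolayPt} (hd : d ∈ dodecads) {Q : Finset (Finset GolayPt)}
    (hQ : Q ∈ quartets d) : Nat.card ↥(MulAction.stabilizer M24 Q) = 432 := by
  have h := card_inf_stabilizer_mul (MulAction.stabilizer M24 d) Q
  rw [stab_quartet_eq hd hQ, card_stab_dodecad hd] at h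
  have horb : MulAction.orbit ↥(MulAction.stabilizer M24 d) Q = quartets d := by
    apply Set.Subset.antisymm
    · rintro _ ⟨⟨⟨x, hx⟩, hxd⟩, rfl⟩
      have hxd' : x • d = d := hxd
      have := quartets_smul hx hQ
      rw [hxd'] at this
      exact this
    · intro Q' hQ'
      obtain ⟨g, hg, hgd, hgQ⟩ := quartets_transitive hd hQ
      obtain ⟨k, hk, hkd, hkQ⟩ := quartets_transitive hd hQ'
      refine ⟨⟨⟨k * g⁻¹, mul_mem hk (inv_mem hg)⟩, ?_⟩, ?_⟩
      · show (k * g⁻¹) • d = d
        conv_lhs => rw [← hgd, mul_smul, inv_smul_smul]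
        exact hkd
      · show (k * g⁻¹) • Q = Q'
        conv_lhs => rw [← hgQ, mul_smul, inv_smul_smul]
        exact hkQ
  have hn : (quartets d).ncard = 220 := by
    obtain ⟨a, ha, rfl⟩ := dodecads_transitive hd
    have e : quartets (a • toSet baseDodecad) = (a • ·) '' quartets (toSet baseDodecad) := by
      ext Q'
      constructor
      · intro hQ'
        exact ⟨a⁻¹ • Q', (quartets_smul_iff ha _).1 (by rw [smul_inv_smul]; exact hQ'), smul_inv_smul a Q'⟩
      · rintro ⟨Q', hQ', rfl⟩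
        exact quartets_smul ha hQ'
    rw [e, Set.ncard_image_of_injective _ (MulAction.injective a), quartets_base, Tbl.ncard_range quartTbl_sorted]
    rfl
  rw [horb, hn] at h
  omega

theorem quartGroup_facts : quartGroup = stabF (quartTbl.el 101) ∧ Nat.card ↥quartHom.ker = 9 := by
  have hcardS : Nat.card ↥(stabF (quartTbl.el 101)) = 432 := by
    rw [← card_stab_quartet baseDodecad_mem (quartTbl_mem 101 (by decide))]
    exact Nat.card_congr ⟨fun g => ⟨⟨g.1, (mem_stabF.1 g.2).1⟩, (mem_stabF.1 g.2).2⟩,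
      fun g => ⟨g.1.1, mem_stabF.2 ⟨g.1.2, g.2⟩⟩, fun g => rfl, fun g => rfl⟩
  have h9 : 9 ≤ Nat.card ↥quartHom.ker := by
    have hf : ∀ v, (⟨nrm v, nrm_mem v⟩ : ↥quartGroup) ∈ quartHom.ker := by
      intro v
      refine quartHom_eq fun w => ?_
      rw [Units.val_one, Matrix.one_mulVec]
      show nrm v * nrm w * (nrm v)⁻¹ = nrm w
      have hc : ∀ u, Commute (nrm ![1, 0]) (nrm u) ∧ Commute (nrm ![0, 1]) (nrm u) := fun u => by
        constructor <;> show _ * _ = _ * _
        · rw [nrm, nrm, ← pL_compL (nrm_checks.1 _) (nrm_checks.1 _), (nrm_checks.2.2.2.1 u).1,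
            pL_compL (nrm_checks.1 _) (nrm_checks.1 _)]
        · rw [nrm, nrm, ← pL_compL (nrm_checks.1 _) (nrm_checks.1 _), (nrm_checks.2.2.2.1 u).2,
            pL_compL (nrm_checks.1 _) (nrm_checks.1 _)]
      have hv : Commute (nrm v) (nrm w) := by
        have e : nrm v = nrm ![1, 0] ^ (v 0).val * nrm ![0, 1] ^ (v 1).val := by
          rw [nrm, nrm_checks.2.1 v, pL_compL (pL_powQL (nrm_checks.1 _) _).1 (pL_powQL (nrm_checks.1 _) _).1,
            (pL_powQL (nrm_checks.1 _) _).2, (pL_powQL (nrm_checks.1 _) _).2]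
          rfl
        rw [e]
        exact ((hc w).1.pow_left _).mul_left ((hc w).2.pow_left _)
      rw [hv.eq, mul_inv_cancel_right]
    calc 9 = Nat.card (Fin 2 → ZMod 3) := by simp [Nat.card_eq_fintype_card]
      _ ≤ _ := Nat.card_le_card_of_injective (fun v => (⟨⟨nrm v, nrm_mem v⟩, hf v⟩ : ↥quartHom.ker))
          fun v w h => nrm_injective (congrArg (fun x : ↥quartHom.ker => x.1.1) h)
  have hcount := quartHom.ker.card_mul_index
  have hgl : Nat.card (GL (Fin 2) (ZMod 3)) = 48 := by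
    rw [Matrix.card_GL_field]; decide
  rw [Subgroup.index_ker, MonoidHom.range_eq_top_of_surjective _ quartHom_surjective, Subgroup.card_top, hgl] at hcount
  have hup := Subgroup.card_le_of_le quartGroup_le
  rw [hcardS] at hup
  have arith : ∀ a b : ℕ, 9 ≤ a → a * 48 = b → b ≤ 432 → a = 9 ∧ 432 ≤ b := by
    intro a b h1 h2 h3; omega
  obtain ⟨hk, hge⟩ := arith _ _ h9 hcount hup
  exact ⟨Subgroup.eq_of_le_of_card_ge quartGroup_le (le_of_eq_of_le hcardS hge), hk⟩

theorem quart_move {i : ℕ} (hi : i < 24) (hb : baseDodecad.testBit i = true) :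
    ∃ g ∈ stabF (quartTbl.el 101), g (pt 0) = pt i := by
  have := allLt_spec quartStab_basic.2.2.1 i hi
  simp only [hb, Bool.not_true, Bool.false_or, anyB_iff, Nat.beq_eq] at this
  obtain ⟨L, hL, e⟩ := this
  have h := allB_iff.1 quartStab_basic.2.1 L hL
  refine ⟨pL L, fixQuartB_spec h, ?_⟩
  simp only [fixQuartB, Bool.and_eq_true] at h
  rw [pL_pt (valid_of_m24Test h.1) (by omega), e]

end CfsgLib.M24Cert
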