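import Cfsg.Agent.Lib.M24Cert.OctInvData
import Cfsg.Agent.Lib.M24Cert.ClassFacts
import Cfsg.Agent.Lib.Golay.Octad
import Cfsg.Agent.Lib.PGroup.Extraspecial
import Cfsg.Agent.Lib.Cores.Basic
import Cfsg.Agent.Lib.PGroup.Counting
import Cfsg.Prelude.Def_MonsterType

/-!
# The centraliser of an involution with eight fixed points
-/

set_option autoImplicit false
set_option linter.style.haveILetI false
set_option maxRecDepth 100000

namespace CfsgLib.M24Cert.OctInv

open Cfsg CfsgLib.Golay CfsgLib.M24Cert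
open scoped Pointwise commutatorElement

/-- Equality of lists of numbers. -/
def eqL : List ℕ → List ℕ → Bool
  | [], [] => true
  | a :: A, b :: B => Nat.beq a b && eqL A B
  | _, _ => false

theorem eqL_iff : ∀ {A B : List ℕ}, eqL A B = true ↔ A = B
  | [], [] => by simp [eqL]
  | [], _ :: _ => by simp [eqL]
  | _ :: _, [] => by simp [eqL]
  | a :: A, b :: B => by simp [eqL, eqL_iff (A := A) (B := B)]

/-- The tables describe the subgroup generated by the generators. -/
def groupB (gens l idx : List (List ℕ)) (par : List (ℕ × ℕ)) : Bool :=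
  gens.all m24Test && l.all m24Test && eqL (l.getD 0 []) (List.range 24) &&
    decide (0 < l.length) && decide (idx.length = gens.length) &&
    (List.range gens.length).all (fun g => (List.range l.length).all fun i =>
      decide ((idx.getD g []).getD i 0 < l.length) &&
        eqL (compL (gens.getD g []) (l.getD i [])) (l.getD ((idx.getD g []).getD i 0) [])) &&
    (List.range (l.length - 1)).all (fun i =>
      decide ((par.getD (i + 1) (0, 0)).2 < i + 1) && decide ((par.getD (i + 1) (0, 0)).1 < gens.length) &&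
        eqL (l.getD (i + 1) [])
          (compL (gens.getD (par.getD (i + 1) (0, 0)).1 []) (l.getD (par.getD (i + 1) (0, 0)).2 []))) &&
    decide l.Nodup

section Generic

variable {G : Type*} [Group G] [Finite G] {f : List ℕ → G}
  (hmul : ∀ A B, m24Test A = true → m24Test B = true → f (compL A B) = f A * f B)
  (hone : f (List.range 24) = 1)

include hmul hone

theorem mem_closure_iff {gens l idx : List (List ℕ)} {par : List (ℕ × ℕ)} (h : groupB gens l idx par = true) (x : G) :
    x ∈ Subgroup.closure (f '' {L | L ∈ gens}) ↔ ∃ L ∈ l, f L = x := by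
  simp only [groupB, Bool.and_eq_true, List.all_eq_true, decide_eq_true_eq, List.mem_range, eqL_iff] at h
  obtain ⟨⟨⟨⟨⟨⟨⟨hvg, hvl⟩, h0⟩, hpos⟩, hlen⟩, hidx⟩, hpar⟩, -⟩ := h
  constructor
  · intro hx
    rw [← Subgroup.mem_toSubmonoid, Subgroup.closure_toSubmonoid_of_finite] at hx
    induction hx using Submonoid.closure_induction_left with
    | one => exact ⟨l.getD 0 [], by rw [List.getD_eq_getElem _ _ hpos]; exact List.getElem_mem hpos, by rw [h0, hone]⟩
    | mul_left a ha y _ ih =>
      obtain ⟨A, hA, rfl⟩ := ha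
      obtain ⟨L, hL, rfl⟩ := ih
      obtain ⟨g, hg, rfl⟩ := List.mem_iff_getElem.1 hA
      obtain ⟨i, hi, rfl⟩ := List.mem_iff_getElem.1 hL
      obtain ⟨hj, he⟩ := hidx g hg i hi
      refine ⟨l.getD ((idx.getD g []).getD i 0) [], ?_, ?_⟩
      · rw [List.getD_eq_getElem _ _ hj]; exact List.getElem_mem hj
      · rw [List.getD_eq_getElem _ _ hg, List.getD_eq_getElem _ _ hi, List.getD_eq_getElem _ _ hj] at he
        rw [← hmul _ _ (hvg _ (List.getElem_mem hg)) (hvl _ (List.getElem_mem hi)), he,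
          List.getD_eq_getElem _ _ hj]
  · rintro ⟨L, hL, rfl⟩
    obtain ⟨k, hk, rfl⟩ := List.mem_iff_getElem.1 hL
    induction k using Nat.strong_induction_on with
    | _ k ih =>
      rcases k with _ | i
      · rw [← List.getD_eq_getElem _ [] hk, h0, hone]; exact one_mem _
      · obtain ⟨⟨hp, hg⟩, he⟩ := hpar i (by omega)
        have hpl : (par.getD (i + 1) (0, 0)).2 < l.length := by omega
        rw [List.getD_eq_getElem _ _ hk, List.getD_eq_getElem _ _ hg, List.getD_eq_getElem _ _ hpl] at he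
        rw [he, hmul _ _ (hvg _ (List.getElem_mem hg)) (hvl _ (List.getElem_mem hpl))]
        exact mul_mem (Subgroup.subset_closure ⟨_, List.getElem_mem hg, rfl⟩) (ih _ hp hpl (List.getElem_mem hpl))

theorem card_closure {gens l idx : List (List ℕ)} {par : List (ℕ × ℕ)} (h : groupB gens l idx par = true)
    (hinj : ∀ A ∈ l, ∀ B ∈ l, f A = f B → A = B) :
    Nat.card (Subgroup.closure (f '' {L | L ∈ gens})) = l.length := by
  classical
  have e : (Subgroup.closure (f '' {L | L ∈ gens}) : Set G) = ↑((l.map f).toFinset) := by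
    ext x
    simp [mem_closure_iff hmul hone h]
  have hnd : l.Nodup := by
    simp only [groupB, Bool.and_eq_true, decide_eq_true_eq] at h
    exact h.2
  rw [← SetLike.coe_sort_coe, Nat.card_coe_set_eq, e, Set.ncard_coe_finset,
    List.toFinset_card_of_nodup (hnd.map_on hinj), List.length_map]

end Generic

/-- The involution. -/
def zL : List ℕ := qGens.getD 0 []

/-- The octad group. -/
def eL : List (List ℕ) := qL.filter fun L => [6, 9, 11, 13, 18, 20, 21, 22].all fun i => Nat.beq (L.getD i 0) i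

/-- The commutation of two lists. -/
def commL (A B : List ℕ) : Bool := eqL (compL A B) (compL B A)

theorem q_group : groupB qGens qL qIdx qPar = true := by decide +kernel

theorem k_group : groupB kGens kL kIdx kPar = true := by decide +kernel

theorem z_eq : zL = elU.L := by decide +kernel

theorem m24_ok : qL.all m24Test = true ∧ kL.all m24Test = true := by constructor <;> decide +kernel

theorem comm_z : qL.all (commL zL) = true ∧ kL.all (commL zL) = true := by constructor <;> decide +kernel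

theorem q_center : qL.all (fun L => !(qGens.all (commL L)) || eqL L (List.range 24) || eqL L zL) = true ∧
    qL.contains zL = true ∧ zL ≠ List.range 24 ∧
    qL.all (fun L => eqL (compL L L) (List.range 24) || eqL (compL L L) zL) = true ∧
    qGens.all (fun g => qL.all fun L => commL g L || eqL (compL g L) (compL zL (compL L g))) = true ∧
    qGens.any (fun g => qGens.any fun g' => !commL g g') = true := by
  refine ⟨?_, ?_, ?_, ?_, ?_, ?_⟩ <;> decide +kernel

theorem k_disjoint : kL.all (fun L => eqL L (List.range 24) || !qL.contains L) = true := by decide +kernel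

theorem k_normal : kGens.all (fun a => qGens.all fun g => qL.any fun q => eqL (compL a g) (compL q a)) = true := by
  decide +kernel

theorem k_outer : kL.all (fun L => eqL L (List.range 24) ||
    qGens.any fun g => !commL L g && !eqL (compL L g) (compL zL (compL g L))) = true := by
  decide +kernel

theorem k_no_two : kL.all (fun L => eqL L (List.range 24) || !eqL (compL L L) (List.range 24) ||
    kL.any (fun k => eqL (compL (invL k) k) (List.range 24) && kL.contains (invL k) &&
      !commL L (compL k (compL L (invL k))))) = true := by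
  decide +kernel

theorem e_facts : eL.length = 16 ∧ eL.all (fun A => eL.all (commL A)) = true ∧
    eL.all (fun A => eqL (compL A A) (List.range 24)) = true ∧ eL.contains zL = true ∧
    eL.any (fun A => !eqL A (List.range 24) && !eqL A zL) = true ∧
    eL.all (fun A => (List.range 24).all fun i => !Nat.beq (zL.getD i 0) i || Nat.beq (A.getD i 0) i) = true ∧
    eL.Nodup := by
  refine ⟨?_, ?_, ?_, ?_, ?_, ?_, ?_⟩ <;> decide +kernel

/-- The matrix of nine entries. -/
def matOf (c : List ℕ) : Matrix (Fin 3) (Fin 3) (ZMod 2) :=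
  Matrix.of fun i j => ((c.getD (3 * i.val + j.val) 0 : ℕ) : ZMod 2)

theorem mat_det : ∀ i : Fin 168, (matOf (kMat.getD i.val [])).det = 1 := by
  simp only [Matrix.det_fin_three]
  decide +kernel

theorem mat_mul : ∀ g : Fin 2, ∀ i : Fin 168,
    matOf (kMat.getD ((kIdx.getD g.val []).getD i.val 0) []) =
      matOf (kMat.getD ((kIdx.getD g.val []).getD 0 0) []) * matOf (kMat.getD i.val []) := by
  decide +kernel

theorem mat_inj : (List.ofFn fun i : Fin 168 => kMat.getD i.val []).Nodup ∧ matOf (kMat.getD 0 []) = 1 ∧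
    kMat.all (fun c => eqL c ((List.range 9).map fun k => c.getD k 0 % 2) && Nat.beq c.length 9) = true ∧
    kMat.length = 168 ∧ kL.length = 168 ∧ qL.length = 128 ∧ kGens.length = 2 := by
  refine ⟨?_, ?_, ?_, ?_, ?_, ?_, ?_⟩ <;> decide +kernel

theorem card_sl : Fintype.card {A : Matrix (Fin 3) (Fin 3) (ZMod 2) // A.det = 1} = 168 := by
  simp only [Matrix.det_fin_three]
  decide +kernel

theorem matOf_inj {c d : List ℕ} (hc : c ∈ kMat) (hd : d ∈ kMat) (h : matOf c = matOf d) : c = d := by
  have hs := List.all_eq_true.1 mat_inj.2.2.1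
  have hcs := hs c hc
  have hds := hs d hd
  simp only [Bool.and_eq_true, eqL_iff] at hcs hds
  rw [hcs.1, hds.1]
  refine List.map_congr_left fun k hk => ?_
  have hk' := List.mem_range.1 hk
  have := congrFun (congrFun h ⟨k / 3, by omega⟩) ⟨k % 3, by omega⟩
  simp only [matOf, Matrix.of_apply, Nat.div_add_mod] at this
  exact (ZMod.natCast_eq_natCast_iff' _ _ _).1 this

section Main

variable {u : Equiv.Perm GolayPt} (hu : u ∈ M24)

open scoped Classical in
/-- The conjugated permutation of a list, in the group. -/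
noncomputable def val (L : List ℕ) : ↥M24 :=
  if h : pL L ∈ M24 then ⟨u * pL L * u⁻¹, mul_mem (mul_mem hu h) (inv_mem hu)⟩ else 1

theorem val_coe {L : List ℕ} (h : m24Test L = true) :
    ((val hu L : ↥M24) : Equiv.Perm GolayPt) = u * pL L * u⁻¹ := by
  simp [val, mem_M24_of_test h]

theorem val_mul {A B : List ℕ} (hA : m24Test A = true) (hB : m24Test B = true) :
    val hu (compL A B) = val hu A * val hu B := by
  have hAB : pL (compL A B) ∈ M24 := by
    rw [pL_compL (valid_of_m24Test hA) (valid_of_m24Test hB)]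
    exact mul_mem (mem_M24_of_test hA) (mem_M24_of_test hB)
  apply Subtype.ext
  rw [Subgroup.coe_mul, val_coe hu hA, val_coe hu hB]
  simp only [val, dif_pos hAB]
  rw [pL_compL (valid_of_m24Test hA) (valid_of_m24Test hB)]
  group

theorem val_one : val hu (List.range 24) = 1 := by
  have h : pL (List.range 24) ∈ M24 := by rw [pL_range]; exact one_mem _
  apply Subtype.ext
  simp only [val, dif_pos h, pL_range]
  simp

theorem val_eq {A B : List ℕ} (hA : m24Test A = true) (hB : m24Test B = true) (h : val hu A = val hu B) : A = B := by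
  refine pL_inj (valid_of_m24Test hA) (valid_of_m24Test hB) ?_
  have := congrArg (fun g : ↥M24 => (g : Equiv.Perm GolayPt)) h
  simpa [val_coe hu hA, val_coe hu hB] using this

theorem q_mem {L : List ℕ} (h : L ∈ qL) : m24Test L = true := List.all_eq_true.1 m24_ok.1 L h

theorem k_mem {L : List ℕ} (h : L ∈ kL) : m24Test L = true := List.all_eq_true.1 m24_ok.2 L h

theorem range_mem : m24Test (List.range 24) = true := by decide +kernel

theorem q_gens_mem {g : List ℕ} (h : g ∈ qGens) : m24Test g = true := by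
  have := q_group
  simp only [groupB, Bool.and_eq_true, List.all_eq_true] at this
  exact this.1.1.1.1.1.1.1 g h

theorem k_gens_mem {g : List ℕ} (h : g ∈ kGens) : m24Test g = true := by
  have := k_group
  simp only [groupB, Bool.and_eq_true, List.all_eq_true] at this
  exact this.1.1.1.1.1.1.1 g h

/-- The normal 2-subgroup in the group. -/
noncomputable def qSub : Subgroup ↥M24 := Subgroup.closure (val hu '' {L | L ∈ qGens})

/-- The complement in the group. -/
noncomputable def kSub : Subgroup ↥M24 := Subgroup.closure (val hu '' {L | L ∈ kGens})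

theorem mem_qSub {x : ↥M24} : x ∈ qSub hu ↔ ∃ L ∈ qL, val hu L = x :=
  mem_closure_iff (fun _ _ => val_mul hu) (val_one hu) q_group x

theorem mem_kSub {x : ↥M24} : x ∈ kSub hu ↔ ∃ L ∈ kL, val hu L = x :=
  mem_closure_iff (fun _ _ => val_mul hu) (val_one hu) k_group x

theorem card_qSub : Nat.card (qSub hu) = 128 :=
  (card_closure (fun _ _ => val_mul hu) (val_one hu) q_group
    fun _ hA _ hB => val_eq hu (q_mem hA) (q_mem hB)).trans mat_inj.2.2.2.2.2.1

theorem card_kSub : Nat.card (kSub hu) = 168 :=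
  (card_closure (fun _ _ => val_mul hu) (val_one hu) k_group
    fun _ hA _ hB => val_eq hu (k_mem hA) (k_mem hB)).trans mat_inj.2.2.2.2.1

theorem val_commute {A B : List ℕ} (hA : m24Test A = true) (hB : m24Test B = true) (h : commL A B = true) :
    val hu A * val hu B = val hu B * val hu A := by
  rw [← val_mul hu hA hB, ← val_mul hu hB hA, eqL_iff.1 h]

theorem zL_mem : zL ∈ qL ∧ zL ∈ qGens := by
  refine ⟨by simpa using q_center.2.1, ?_⟩
  decide +kernel

theorem card_involutions :
    {g : ↥M24 | ∃ w ∈ M24, (g : Equiv.Perm GolayPt) = w * pL elU.L * w⁻¹}.ncard = 11385 := by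
  classical
  have hset : {g : ↥M24 | ∃ w ∈ M24, (g : Equiv.Perm GolayPt) = w * pL elU.L * w⁻¹} =
      ⋃ o ∈ octads, {g : ↥M24 | (g : Equiv.Perm GolayPt) ∈ fixingSubgroup (Equiv.Perm GolayPt) (o : Set GolayPt) ∧
        g ≠ 1} := by
    obtain ⟨-, hU, -, hmU, -⟩ := inv_facts
    have h8 : (Finset.univ.filter fun p => pL elU.L p = p).card = 8 := by
      rw [fixN_card certs_ok.2.2.2.2.1, rep_facts.2.1]
    ext g
    simp only [Set.mem_ofPred_eq, Set.mem_iUnion, exists_prop]
    constructor
    · rintro ⟨w, hw, e⟩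
      refine ⟨_, octads_smul hw elU_fixed_octad, (mem_fixingSubgroup_iff _).2 fun p hp => ?_, fun h => ?_⟩
      · rw [← conj_fixed_set, ← e] at hp
        simpa using hp
      · subst h
        have : (Finset.univ.filter fun p => (1 : Equiv.Perm GolayPt) p = p).card = 8 := by
          rw [show ((1 : ↥M24) : Equiv.Perm GolayPt) = 1 from rfl] at e
          rw [e, conj_fixed_set, Finset.card_smul_finset, h8]
        revert this; decide
    · rintro ⟨o, ho, hfix, hne⟩
      have hsq := (octad_pointwise ho).2 g ⟨g.2, hfix⟩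
      have hg1 : (g : Equiv.Perm GolayPt) ≠ 1 := fun h => hne (Subtype.ext h)
      have hord : orderOf (g : Equiv.Perm GolayPt) = 2 :=
        haveI := Fact.mk Nat.prime_two
        orderOf_eq_prime (by rw [pow_two, hsq]) hg1
      obtain ⟨w, hw, ⟨-, c⟩ | ⟨e, -⟩⟩ := inv_cases g.2 hord
      · exfalso
        obtain ⟨p, hp⟩ : o.Nonempty := Finset.card_pos.1 (by rw [show o.card = 8 from ho.2]; norm_num)
        exact fixed_card_zero_iff.1 c p ((mem_fixingSubgroup_iff _).1 hfix p hp)
      · exact ⟨w, hw, e⟩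
  have hone : ∀ o ∈ octads, {g : ↥M24 | (g : Equiv.Perm GolayPt) ∈ fixingSubgroup (Equiv.Perm GolayPt) (o : Set GolayPt) ∧
      g ≠ 1}.ncard = 15 := by
    intro o ho
    have h16 := (octad_pointwise ho).1
    have himg : Subtype.val '' {g : ↥M24 | (g : Equiv.Perm GolayPt) ∈ fixingSubgroup (Equiv.Perm GolayPt) (o : Set GolayPt) ∧
        g ≠ 1} = ((M24 ⊓ fixingSubgroup (Equiv.Perm GolayPt) (o : Set GolayPt) : Subgroup _) : Set _) \ {1} := by
      ext g
      constructor
      · rintro ⟨x, ⟨h1, h2⟩, rfl⟩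
        exact ⟨⟨x.2, h1⟩, fun h => h2 (Subtype.ext h)⟩
      · rintro ⟨⟨h1, h2⟩, h3⟩
        exact ⟨⟨g, h1⟩, ⟨h2, fun h => h3 (congrArg Subtype.val h)⟩, rfl⟩
    rw [← Set.ncard_image_of_injective _ Subtype.val_injective, himg,
      Set.ncard_sdiff (Set.singleton_subset_iff.2 (one_mem _)), Set.ncard_singleton]
    rw [← SetLike.coe_sort_coe, Nat.card_coe_set_eq] at h16
    omega
  have hdisj : Set.PairwiseDisjoint octads fun o => {g : ↥M24 | (g : Equiv.Perm GolayPt) ∈
      fixingSubgroup (Equiv.Perm GolayPt) (o : Set GolayPt) ∧ g ≠ 1} := by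
    intro o ho o' ho' hne
    refine Set.disjoint_left.2 fun g ⟨h1, hg⟩ ⟨h2, _⟩ => hne ?_
    have hle := fixed_le_eight g.2 fun h => hg (Subtype.ext h)
    have key : ∀ s ∈ octads, (g : Equiv.Perm GolayPt) ∈ fixingSubgroup (Equiv.Perm GolayPt) (s : Set GolayPt) →
        s = Finset.univ.filter fun p => (g : Equiv.Perm GolayPt) p = p := fun s hs h =>
      Finset.eq_of_subset_of_card_le (fun p hp => by
        simpa using (mem_fixingSubgroup_iff _).1 h p hp) (hle.trans hs.2.ge)
    rw [key o ho h1, key o' ho' h2]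
  rw [hset]
  rw [Set.Finite.ncard_biUnion (Set.toFinite _) (fun o _ => Set.toFinite _) hdisj, finsum_mem_congr rfl hone]
  rw [finsum_mem_eq_finite_toFinset_sum _ (Set.toFinite _), Finset.sum_const, ← Set.ncard_eq_toFinset_card _ _, octads_ncard]
  rfl

theorem centralizer_le : Nat.card (Subgroup.centralizer ({val hu zL} : Set ↥M24)) ≤ 21504 := by
  set z := val hu zL with hz
  set C := Subgroup.centralizer ({z} : Set ↥M24)
  have horb : MulAction.orbit (ConjAct ↥M24) z =
      {g : ↥M24 | ∃ w ∈ M24, (g : Equiv.Perm GolayPt) = w * pL elU.L * w⁻¹} := by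
    ext g
    simp only [MulAction.mem_orbit_iff, Set.mem_ofPred_eq, hz]
    constructor
    · rintro ⟨w, rfl⟩
      refine ⟨(ConjAct.ofConjAct w : ↥M24) * u, mul_mem (ConjAct.ofConjAct w).2 hu, ?_⟩
      rw [ConjAct.smul_def, Subgroup.coe_mul, Subgroup.coe_mul, Subgroup.coe_inv,
        val_coe hu (q_mem zL_mem.1), z_eq]
      group
    · rintro ⟨w, hw, e⟩
      refine ⟨ConjAct.toConjAct (⟨w * u⁻¹, mul_mem hw (inv_mem hu)⟩ : ↥M24), Subtype.ext ?_⟩
      rw [ConjAct.smul_def, ConjAct.ofConjAct_toConjAct, Subgroup.coe_mul, Subgroup.coe_mul, Subgroup.coe_inv,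
        val_coe hu (q_mem zL_mem.1), z_eq, e]
      group
  have h := MulAction.index_stabilizer (ConjAct ↥M24) z
  rw [horb, card_involutions] at h
  have h2 : Nat.card (MulAction.stabilizer (ConjAct ↥M24) z) = Nat.card C := by
    rw [ConjAct.stabilizer_eq_centralizer]
    rfl
  have h3 := Subgroup.card_mul_index (MulAction.stabilizer (ConjAct ↥M24) z)
  rw [h, h2, Nat.card_congr ConjAct.ofConjAct.toEquiv, card_M24] at h3
  omega

theorem centralizer_eq :
    Subgroup.centralizer ({val hu zL} : Set ↥M24) = qSub hu ⊔ kSub hu ∧ qSub hu ⊓ kSub hu = ⊥ ∧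
      ∀ c ∈ Subgroup.centralizer ({val hu zL} : Set ↥M24), c ∈ Subgroup.normalizer (qSub hu : Set ↥M24) := by
  classical
  set z := val hu zL with hz
  set C := Subgroup.centralizer ({z} : Set ↥M24)
  have hQC : qSub hu ≤ C := fun x hx => by
    obtain ⟨L, hL, rfl⟩ := (mem_qSub hu).1 hx
    exact Subgroup.mem_centralizer_singleton_iff.2
      (val_commute hu (q_mem zL_mem.1) (q_mem hL) (List.all_eq_true.1 comm_z.1 L hL)).symm
  have hKC : kSub hu ≤ C := fun x hx => by
    obtain ⟨L, hL, rfl⟩ := (mem_kSub hu).1 hx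
    exact Subgroup.mem_centralizer_singleton_iff.2
      (val_commute hu (q_mem zL_mem.1) (k_mem hL) (List.all_eq_true.1 comm_z.2 L hL)).symm
  have hbot : qSub hu ⊓ kSub hu = ⊥ := by
    rw [eq_bot_iff]
    rintro x ⟨hxq, hxk⟩
    obtain ⟨A, hA, rfl⟩ := (mem_qSub hu).1 hxq
    obtain ⟨B, hB, e⟩ := (mem_kSub hu).1 hxk
    obtain rfl := val_eq hu (k_mem hB) (q_mem hA) e
    have h := List.all_eq_true.1 k_disjoint B hB
    simp only [Bool.or_eq_true, eqL_iff, Bool.not_eq_true', List.contains_eq_mem, decide_eq_false_iff_not] at h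
    rcases h with h | h
    · rw [h, val_one]; exact one_mem _
    · exact absurd hA h
  have hKN : kSub hu ≤ Subgroup.normalizer (qSub hu : Set ↥M24) := by
    rw [kSub, Subgroup.closure_le]
    rintro _ ⟨a, ha, rfl⟩
    refine Subgroup.mem_normalizer_fintype fun n hn => ?_
    have hn' : n ∈ qSub hu := hn
    show val hu a * n * (val hu a)⁻¹ ∈ qSub hu
    rw [qSub] at hn'
    induction hn' using Subgroup.closure_induction with
    | mem x hx =>
      obtain ⟨g, hg, rfl⟩ := hx
      have h := List.all_eq_true.1 (List.all_eq_true.1 k_normal a ha) g hg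
      simp only [List.any_eq_true, eqL_iff] at h
      obtain ⟨q, hq, e⟩ := h
      rw [← val_mul hu (k_gens_mem ha) (q_gens_mem hg), e, val_mul hu (q_mem hq) (k_gens_mem ha),
        mul_inv_cancel_right]
      exact (mem_qSub hu).2 ⟨q, hq, rfl⟩
    | one => simp
    | mul x y hx hy ihx ihy => rw [← conj_mul]; exact mul_mem (ihx hx) (ihy hy)
    | inv x hx ih => rw [← conj_inv]; exact inv_mem (ih hx)
  have hcard : 21504 ≤ Nat.card ↥(qSub hu ⊔ kSub hu) := by
    have h := CfsgLib.PGroup.card_mul_card_le_sup_inf (qSub hu) (kSub hu)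
    rw [hbot, card_qSub, card_kSub, Subgroup.card_bot, mul_one] at h
    exact h
  have hC : Nat.card C ≤ 21504 := centralizer_le hu
  have heq : qSub hu ⊔ kSub hu = C := Subgroup.eq_of_le_of_card_ge (sup_le hQC hKC) (hC.trans hcard)
  refine ⟨heq.symm, hbot, fun c hc => ?_⟩
  rw [← heq] at hc
  exact sup_le Subgroup.le_normalizer hKN hc

theorem centralizer_card : Nat.card ↥(qSub hu ⊔ kSub hu) ≤ Nat.card (qSub hu) * Nat.card (kSub hu) := by
  rw [← (centralizer_eq hu).1, card_qSub, card_kSub]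
  exact centralizer_le hu

theorem comm_cases {A B : List ℕ} (hA : m24Test A = true) (hB : m24Test B = true)
    (h : val hu A * val hu B = val hu B * val hu A) : commL A B = true := by
  have h' := congrArg (fun g : ↥M24 => (g : Equiv.Perm GolayPt)) h
  simp only [Subgroup.coe_mul, val_coe hu hA, val_coe hu hB, conj_mul, mul_right_inj, mul_left_inj] at h'
  have va := valid_of_m24Test hA
  have vb := valid_of_m24Test hB
  refine eqL_iff.2 (pL_inj (validL_compL va vb) (validL_compL vb va) ?_)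
  rw [pL_compL va vb, pL_compL vb va, h']

theorem z_facts : val hu zL * val hu zL = 1 ∧ val hu zL ≠ 1 ∧
    (∀ x ∈ qSub hu, val hu zL * x = x * val hu zL) ∧ val hu zL ∈ qSub hu := by
  have hm := q_mem zL_mem.1
  refine ⟨?_, fun h => q_center.2.2.1 (val_eq hu hm range_mem (h.trans (val_one hu).symm)), fun x hx => ?_,
    (mem_qSub hu).2 ⟨zL, zL_mem.1, rfl⟩⟩
  · rw [← val_mul hu hm hm, show compL zL zL = List.range 24 by decide +kernel, val_one]
  · obtain ⟨L, hL, rfl⟩ := (mem_qSub hu).1 hx
    exact val_commute hu hm (q_mem hL) (List.all_eq_true.1 comm_z.1 L hL)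

theorem central_qSub {x : ↥M24} (hx : x ∈ qSub hu) (hc : ∀ y ∈ qSub hu, y * x = x * y) :
    x = 1 ∨ x = val hu zL := by
  obtain ⟨L, hL, rfl⟩ := (mem_qSub hu).1 hx
  have h := List.all_eq_true.1 q_center.1 L hL
  have hg : qGens.all (commL L) = true := List.all_eq_true.2 fun g hg =>
    comm_cases hu (q_mem hL) (q_gens_mem hg)
      (hc _ (Subgroup.subset_closure ⟨g, hg, rfl⟩)).symm
  simp only [hg, Bool.not_true, Bool.false_or, Bool.or_eq_true, eqL_iff] at h
  rcases h with h | h
  · exact .inl (by rw [h, val_one])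
  · exact .inr (by rw [h])

theorem comm_qSub {a : ↥M24} (ha : a ∈ qSub hu) :
    ∀ b ∈ qSub hu, a * b = b * a ∨ a * b = val hu zL * (b * a) := by
  obtain ⟨hzz, -, hzc, -⟩ := z_facts hu
  rw [qSub, ← Subgroup.mem_toSubmonoid, Subgroup.closure_toSubmonoid_of_finite] at ha
  induction ha using Submonoid.closure_induction_left with
  | one => intro b _; simp
  | mul_left x hx y _ ih =>
    intro b hb
    obtain ⟨g, hg, rfl⟩ := hx
    have hgq : val hu g ∈ qSub hu := Subgroup.subset_closure ⟨g, hg, rfl⟩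
    obtain ⟨L, hL, rfl⟩ := (mem_qSub hu).1 hb
    have h := List.all_eq_true.1 (List.all_eq_true.1 q_center.2.2.2.2.1 g hg) L hL
    simp only [Bool.or_eq_true, eqL_iff] at h
    have e2 : val hu g * val hu L = val hu L * val hu g ∨
        val hu g * val hu L = val hu zL * (val hu L * val hu g) := by
      rcases h with h | h
      · exact .inl (val_commute hu (q_gens_mem hg) (q_mem hL) h)
      · refine .inr ?_
        have hgm := q_gens_mem hg
        have hLm := q_mem hL
        apply Subtype.ext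
        simp only [Subgroup.coe_mul, val_coe hu hgm, val_coe hu hLm, val_coe hu (q_mem zL_mem.1), conj_mul]
        rw [← pL_compL (valid_of_m24Test hgm) (valid_of_m24Test hLm),
          ← pL_compL (valid_of_m24Test hLm) (valid_of_m24Test hgm),
          ← pL_compL (valid_of_m24Test (q_mem zL_mem.1))
            (validL_compL (valid_of_m24Test hLm) (valid_of_m24Test hgm)), h]
    rcases ih _ hb with e | e <;> rcases e2 with f | f
    · exact .inl (by rw [mul_assoc, e, ← mul_assoc, f, mul_assoc])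
    · exact .inr (by rw [mul_assoc, e, ← mul_assoc, f]; group)
    · refine .inr ?_
      rw [mul_assoc, e, ← mul_assoc, ← hzc _ hgq, mul_assoc, ← mul_assoc (val hu g), f, mul_assoc]
    · refine .inl ?_
      rw [mul_assoc, e, ← mul_assoc, ← hzc _ hgq, mul_assoc, ← mul_assoc (val hu g), f, ← mul_assoc,
        ← mul_assoc, hzz, one_mul, mul_assoc]

theorem extraspecial_qSub : IsExtraspecial 2 ↥(qSub hu) := by
  haveI := Fact.mk Nat.prime_two
  obtain ⟨hzz, hz1, hzc, hzq⟩ := z_facts hu
  have hcen : ∀ x : ↥(qSub hu), x ∈ Subgroup.center ↥(qSub hu) ↔ x = 1 ∨ x = ⟨_, hzq⟩ := by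
    intro x
    constructor
    · intro hx
      rcases central_qSub hu x.2 (fun y hy => congrArg Subtype.val (Subgroup.mem_center_iff.1 hx ⟨y, hy⟩)) with h | h
      · exact .inl (Subtype.ext h)
      · exact .inr (Subtype.ext h)
    · rintro (rfl | rfl)
      · exact one_mem _
      · exact Subgroup.mem_center_iff.2 fun y => Subtype.ext (hzc y.1 y.2).symm
  refine PGroup.isExtraspecial_mk (IsPGroup.of_card (n := 7) (card_qSub hu)) ?_ ?_ (fun a b => ?_) (fun a => ?_)
  · rw [Nat.card_eq_two_iff]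
    refine ⟨⟨1, one_mem _⟩, ⟨⟨_, hzq⟩, (hcen _).2 (.inr rfl)⟩, fun h => hz1 ?_, Set.eq_univ_of_forall fun x => ?_⟩
    · exact (congrArg (fun t : Subgroup.center ↥(qSub hu) => (t.1 : ↥M24)) h).symm
    · rcases (hcen x.1).1 x.2 with h | h
      · exact .inl (Subtype.ext h)
      · exact .inr (Subtype.ext h)
  · intro hA
    obtain ⟨g, hg, g', hg', h⟩ : ∃ g ∈ qGens, ∃ g' ∈ qGens, commL g g' = false := by
      simpa using q_center.2.2.2.2.2
    have e := congrArg Subtype.val (hA.is_comm.comm (⟨val hu g, Subgroup.subset_closure ⟨g, hg, rfl⟩⟩ : ↥(qSub hu))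
      ⟨val hu g', Subgroup.subset_closure ⟨g', hg', rfl⟩⟩)
    rw [comm_cases hu (q_gens_mem hg) (q_gens_mem hg') e] at h
    exact Bool.noConfusion h
  · rw [hcen]
    rcases comm_qSub hu a.2 b.1 b.2 with e | e
    · exact .inl (commutatorElement_eq_one_iff_mul_comm.2 (Subtype.ext e))
    · refine .inr (Subtype.ext ?_)
      show ((a : ↥M24) * b * (a : ↥M24)⁻¹ * (b : ↥M24)⁻¹) = val hu zL
      rw [e]; group
  · rw [hcen]
    obtain ⟨L, hL, e⟩ := (mem_qSub hu).1 a.2
    have h := List.all_eq_true.1 q_center.2.2.2.1 L hL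
    simp only [Bool.or_eq_true, eqL_iff] at h
    have e2 : ((a ^ 2 : ↥(qSub hu)) : ↥M24) = val hu (compL L L) := by
      rw [val_mul hu (q_mem hL) (q_mem hL), e, SubmonoidClass.coe_pow, pow_two]
    rcases h with h | h
    · exact .inl (Subtype.ext (by rw [e2, h, val_one]; rfl))
    · exact .inr (Subtype.ext (by rw [e2, h]))

/-- The eight fixed points of the involution. -/
noncomputable def zFix : Finset GolayPt :=
  Finset.univ.filter fun p => ((val hu zL : ↥M24) : Equiv.Perm GolayPt) p = p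

theorem zFix_octad : zFix hu ∈ octads := by
  rw [zFix, val_coe hu (q_mem zL_mem.1), conj_fixed_set, z_eq]
  exact octads_smul hu elU_fixed_octad

/-- The elements fixing those points. -/
noncomputable def eSub : Subgroup ↥M24 :=
  (fixingSubgroup (Equiv.Perm GolayPt) (zFix hu : Set GolayPt)).subgroupOf M24

theorem mem_eSub {x : ↥M24} :
    x ∈ eSub hu ↔ ∀ p ∈ zFix hu, (x : Equiv.Perm GolayPt) p = p := by
  simp [eSub, Subgroup.mem_subgroupOf, mem_fixingSubgroup_iff]

theorem eSub_facts : Nat.card (eSub hu) = 16 ∧ (∀ x ∈ eSub hu, x * x = 1) ∧ eSub hu ≤ qSub hu ∧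
    val hu zL ∈ eSub hu := by
  classical
  have h := octad_pointwise (zFix_octad hu)
  have hcard : Nat.card (eSub hu) = 16 := by
    rw [← h.1, inf_comm, eSub, ← Subgroup.inf_subgroupOf_right,
      Nat.card_congr (Subgroup.subgroupOfEquivOfLe inf_le_right).toEquiv]
  have hsq : ∀ x ∈ eSub hu, x * x = 1 := fun x hx => Subtype.ext (h.2 _ ⟨x.2, Subgroup.mem_subgroupOf.1 hx⟩)
  have hin : ∀ A ∈ eL, val hu A ∈ eSub hu := fun A hA => by
    refine (mem_eSub hu).2 fun p hp => ?_
    have hzm := q_mem zL_mem.1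
    have hAm := q_mem (List.mem_of_mem_filter hA)
    simp only [zFix, Finset.mem_filter, Finset.mem_univ, true_and, val_coe hu hzm, Equiv.Perm.mul_apply] at hp
    rw [Equiv.Perm.inv_def, ← Equiv.eq_symm_apply] at hp
    rw [val_coe hu hAm, Equiv.Perm.mul_apply, Equiv.Perm.mul_apply, Equiv.Perm.inv_def, ← Equiv.eq_symm_apply]
    obtain ⟨i, hi, e⟩ := exists_pt (u.symm p)
    rw [← e] at hp ⊢
    rw [pL_pt (valid_of_m24Test hzm) hi] at hp
    rw [pL_pt (valid_of_m24Test hAm) hi]
    have hz := pt_inj (validL_getD_lt (valid_of_m24Test hzm) hi) hi hp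
    have hc := List.all_eq_true.1 (List.all_eq_true.1 e_facts.2.2.2.2.2.1 A hA) i (List.mem_range.2 hi)
    simp only [hz, Bool.or_eq_true, Bool.not_eq_true', Nat.beq_eq] at hc
    rcases hc with hc | hc
    · simp at hc
    · rw [hc]
  refine ⟨hcard, hsq, ?_, hin zL (by simpa using e_facts.2.2.2.1)⟩
  have himg : ((eL.map (val hu)).toFinset : Set ↥M24) = (eSub hu : Set ↥M24) := by
    refine Set.eq_of_subset_of_ncard_le ?_ ?_ (Set.toFinite _)
    · intro x hx
      simp only [Finset.mem_coe, List.mem_toFinset, List.mem_map] at hx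
      obtain ⟨A, hA, rfl⟩ := hx
      exact hin A hA
    · have hnd : (eL.map (val hu)).Nodup := List.Nodup.map_on (fun A hA B hB =>
        val_eq hu (q_mem (List.mem_of_mem_filter hA)) (q_mem (List.mem_of_mem_filter hB))) e_facts.2.2.2.2.2.2
      rw [Set.ncard_coe_finset, List.toFinset_card_of_nodup hnd, List.length_map, e_facts.1, ← Nat.card_coe_set_eq]
      exact le_of_eq hcard
  intro x hx
  rw [← SetLike.mem_coe, ← himg] at hx
  simp only [Finset.mem_coe, List.mem_toFinset, List.mem_map] at hx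
  obtain ⟨A, hA, rfl⟩ := hx
  exact (mem_qSub hu).2 ⟨A, List.mem_of_mem_filter hA, rfl⟩

theorem centralizer_qSub :
    Subgroup.centralizer (qSub hu : Set ↥M24) = (Subgroup.center ↥(qSub hu)).map (qSub hu).subtype := by
  obtain ⟨hC, hbot, -⟩ := centralizer_eq hu
  obtain ⟨hzz, hz1, hzc, hzq⟩ := z_facts hu
  refine le_antisymm (fun c hc => ?_) ?_
  · have hcC : c ∈ qSub hu ⊔ kSub hu := by
      rw [← hC, Subgroup.mem_centralizer_singleton_iff]
      exact (Subgroup.mem_centralizer_iff.1 hc _ hzq).symm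
    have hle : Nat.card ↥(qSub hu ⊔ kSub hu) * Nat.card ↥(qSub hu ⊓ kSub hu) ≤
        Nat.card (qSub hu) * Nat.card (kSub hu) := by
      rw [hbot, Subgroup.card_bot, mul_one]
      exact centralizer_card hu
    obtain ⟨q, hq, k, hk, rfl⟩ := PGroup.exists_mul_of_card_sup_inf_le hle hcC
    obtain ⟨L, hL, rfl⟩ := (mem_kSub hu).1 hk
    by_cases hL1 : L = List.range 24
    · subst hL1
      rw [val_one, mul_one] at hc ⊢
      exact ⟨⟨q, hq⟩, Subgroup.mem_center_iff.2 fun y => Subtype.ext (Subgroup.mem_centralizer_iff.1 hc y.1 y.2), rfl⟩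
    exfalso
    have h := List.all_eq_true.1 k_outer L hL
    simp only [Bool.or_eq_true, eqL_iff, hL1, false_or, List.any_eq_true, Bool.and_eq_true, Bool.not_eq_true'] at h
    obtain ⟨g, hg, h1, h2⟩ := h
    have hgq : val hu g ∈ qSub hu := Subgroup.subset_closure ⟨g, hg, rfl⟩
    have e := Subgroup.mem_centralizer_iff.1 hc _ hgq
    have hgm := q_gens_mem hg
    have hLm := k_mem hL
    rcases comm_qSub hu hgq q hq with f | f
    · rw [← mul_assoc, f, mul_assoc, mul_assoc, mul_right_inj] at e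
      rw [comm_cases hu hLm hgm e.symm] at h1
      exact Bool.noConfusion h1
    · rw [← mul_assoc, f, hzc _ (mul_mem hq hgq), mul_assoc, mul_assoc, mul_assoc, mul_right_inj,
        ← mul_assoc, ← hzc _ hgq, mul_assoc] at e
      have e' := congrArg (fun g : ↥M24 => (g : Equiv.Perm GolayPt)) e
      simp only [Subgroup.coe_mul, val_coe hu hgm, val_coe hu hLm, val_coe hu (q_mem zL_mem.1), conj_mul,
        mul_right_inj, mul_left_inj] at e'
      rw [← pL_compL (valid_of_m24Test hLm) (valid_of_m24Test hgm),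
        ← pL_compL (valid_of_m24Test hgm) (valid_of_m24Test hLm),
        ← pL_compL (valid_of_m24Test (q_mem zL_mem.1))
          (validL_compL (valid_of_m24Test hgm) (valid_of_m24Test hLm))] at e'
      rw [eqL_iff.2 (pL_inj (validL_compL (valid_of_m24Test hLm) (valid_of_m24Test hgm))
        (validL_compL (valid_of_m24Test (q_mem zL_mem.1))
          (validL_compL (valid_of_m24Test hgm) (valid_of_m24Test hLm))) e'.symm)] at h2
      exact Bool.noConfusion h2
  · rintro _ ⟨x, hx, rfl⟩
    exact Subgroup.mem_centralizer_iff.2 fun y hy => congrArg Subtype.val (Subgroup.mem_center_iff.1 hx ⟨y, hy⟩)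

theorem odd_eq_bot {K : Subgroup ↥M24} (hodd : Odd (Nat.card K))
    (hN : qSub hu ≤ Subgroup.normalizer (K : Set ↥M24)) : K = ⊥ := by
  classical
  obtain ⟨hcard, hsq, hEQ, hzE⟩ := eSub_facts hu
  obtain ⟨hC, -, hCN⟩ := centralizer_eq hu
  obtain ⟨hzz, hz1, hzc, hzq⟩ := z_facts hu
  have hodd1 : ∀ x ∈ K, x * x = 1 → x = 1 := by
    intro x hx h
    have h1 : orderOf x ∣ 2 := orderOf_dvd_of_pow_eq_one (by rw [pow_two, h])
    have h2 : orderOf x ∣ Nat.card K := Subgroup.orderOf_dvd_natCard _ hx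
    rcases (Nat.dvd_prime Nat.prime_two).1 h1 with h3 | h3
    · exact orderOf_eq_one_iff.1 h3
    · exact absurd (h3 ▸ h2) (by rw [← even_iff_two_dvd]; exact Nat.not_even_iff_odd.2 hodd)
  have hmemN : ∀ q ∈ qSub hu, ∀ x ∈ K, q * x * q⁻¹ ∈ K := fun q hq x hx =>
    (Subgroup.mem_normalizer_iff.1 (hN hq) x).1 hx
  have h2q : ∀ x ∈ K, x ∈ qSub hu → x = 1 := by
    intro x hx hxq
    have h1 : orderOf x ∣ 2 ^ 7 := by
      have := Subgroup.orderOf_dvd_natCard _ hxq
      rwa [card_qSub] at this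
    have h2 : orderOf x ∣ Nat.card K := Subgroup.orderOf_dvd_natCard _ hx
    have hcop : Nat.Coprime (2 ^ 7) (Nat.card K) := Nat.Coprime.pow_left _ (Nat.coprime_two_left.2 hodd)
    exact orderOf_eq_one_iff.1 (Nat.eq_one_of_dvd_coprimes hcop h1 h2)
  have hfree : ∀ e ∈ eSub hu, e ≠ 1 → ∀ x ∈ K, e * x = x * e → x = 1 := by
    intro e he he1 x hx hcomm
    have hfix : zFix hu = Finset.univ.filter fun p => (e : Equiv.Perm GolayPt) p = p :=
      Finset.eq_of_subset_of_card_le (fun p hp => by simpa using (mem_eSub hu).1 he p hp)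
        ((fixed_le_eight e.2 fun h => he1 (Subtype.ext h)).trans (zFix_octad hu).2.ge)
    have hnorm : ∀ y : ↥M24, e * y = y * e → ∀ p ∈ zFix hu, (y : Equiv.Perm GolayPt) p ∈ zFix hu := by
      intro y hy p hp
      rw [hfix] at hp ⊢
      simp only [Finset.mem_filter, Finset.mem_univ, true_and] at hp ⊢
      have := congrArg (fun g : ↥M24 => (g : Equiv.Perm GolayPt) p) hy
      simp only [Subgroup.coe_mul, Equiv.Perm.mul_apply, hp] at this
      exact this
    have hf : ∀ f ∈ eSub hu, x * f * x⁻¹ ∈ eSub hu := by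
      intro f hf
      refine (mem_eSub hu).2 fun p hp => ?_
      have h1 := hnorm x⁻¹ (by rw [eq_inv_mul_iff_mul_eq, ← mul_assoc, ← hcomm, mul_assoc, mul_inv_cancel, mul_one]) p hp
      simp only [Subgroup.coe_mul, Equiv.Perm.mul_apply, Subgroup.coe_inv] at h1 ⊢
      rw [(mem_eSub hu).1 hf _ h1, Equiv.Perm.coe_inv, Equiv.apply_symm_apply]
    have hxz : x * val hu zL = val hu zL * x := by
      refine mul_inv_eq_iff_eq_mul.1 (mul_inv_eq_one.1 (h2q (x * val hu zL * x⁻¹ * (val hu zL)⁻¹) ?_
        (hEQ (mul_mem (hf _ hzE) (inv_mem hzE)))))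
      have h3 := K.mul_mem hx (hmemN _ hzq _ (K.inv_mem hx))
      rwa [← mul_assoc, ← mul_assoc] at h3
    have hxQ : x ∈ Subgroup.centralizer (qSub hu : Set ↥M24) := Subgroup.mem_centralizer_iff.2 fun q hq => by
      refine (mul_inv_eq_iff_eq_mul.1 (mul_inv_eq_one.1 (h2q (x * q * x⁻¹ * q⁻¹) ?_ ?_))).symm
      · have h3 := K.mul_mem hx (hmemN _ hq _ (K.inv_mem hx))
        rwa [← mul_assoc, ← mul_assoc] at h3
      · exact mul_mem ((Subgroup.mem_normalizer_iff.1 (hCN x (Subgroup.mem_centralizer_singleton_iff.2 hxz)) q).1 hq)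
          (inv_mem hq)
    rw [centralizer_qSub] at hxQ
    obtain ⟨y, -, hy⟩ := hxQ
    exact h2q x hx (hy ▸ y.2)
  have hinv : ∀ e ∈ eSub hu, e ≠ 1 → ∀ x ∈ K, e * x * e⁻¹ = x⁻¹ := by
    intro e he he1 x hx
    let F : ↥K → ↥K := fun y => ⟨(y : ↥M24)⁻¹ * (e * y * e⁻¹), K.mul_mem (K.inv_mem y.2) (hmemN e (hEQ he) y y.2)⟩
    have hFi : Function.Injective F := by
      intro a b h
      have h' : (a : ↥M24)⁻¹ * (e * a * e⁻¹) = (b : ↥M24)⁻¹ * (e * b * e⁻¹) := congrArg Subtype.val h
      apply Subtype.ext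
      refine mul_inv_eq_one.1 (hfree e he he1 _ (K.mul_mem a.2 (K.inv_mem b.2)) ?_)
      have h'' : e * (a : ↥M24) * e⁻¹ = a * ((b : ↥M24)⁻¹ * (e * b * e⁻¹)) := by rw [← h', mul_inv_cancel_left]
      calc e * ((a : ↥M24) * (b : ↥M24)⁻¹) = e * a * e⁻¹ * (e * (b : ↥M24)⁻¹ * e⁻¹) * e := by group
        _ = _ := by rw [h'']; group
    obtain ⟨y, hy⟩ := (Finite.injective_iff_surjective.1 hFi) ⟨x, hx⟩
    have hy' : (y : ↥M24)⁻¹ * (e * y * e⁻¹) = x := congrArg Subtype.val hy
    have hei : e⁻¹ = e := inv_eq_of_mul_eq_one_right (hsq e he)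
    rw [← hy', hei]
    simp only [mul_inv_rev, inv_inv, hei, mul_assoc, hsq e he, mul_one]
  obtain ⟨A, hA, hA1⟩ : ∃ e ∈ eSub hu, e ≠ 1 ∧ e ≠ val hu zL := by
    by_contra hne
    push Not at hne
    have : ((eSub hu : Set ↥M24)) ⊆ {1, val hu zL} := fun e he => by
      by_cases h : e = 1
      · exact .inl h
      · exact .inr (hne e he h)
    have h' := (Set.ncard_le_ncard this (Set.toFinite _)).trans (Set.ncard_insert_le _ _)
    rw [← Nat.card_coe_set_eq, SetLike.coe_sort_coe, hcard, Set.ncard_singleton] at h'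
    omega
  rw [eq_bot_iff]
  intro x hx
  refine hodd1 x hx ?_
  have hne : val hu zL * A ≠ 1 := fun h => hA1.2 (by rw [← inv_eq_of_mul_eq_one_right h, inv_eq_of_mul_eq_one_right hzz])
  have h1 := hinv _ (mul_mem hzE hA) hne x hx
  have h2 : val hu zL * A * x * (val hu zL * A)⁻¹ = val hu zL * (A * x * A⁻¹) * (val hu zL)⁻¹ := by group
  rw [h2, hinv A hA hA1.1 x hx, hinv _ hzE hz1 x⁻¹ (K.inv_mem hx), inv_inv] at h1
  exact mul_eq_one_iff_eq_inv.2 h1

theorem pCore_eq : (pCore 2 ↥(Subgroup.centralizer ({val hu zL} : Set ↥M24))).map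
    (Subgroup.centralizer ({val hu zL} : Set ↥M24)).subtype = qSub hu := by
  classical
  haveI := Fact.mk Nat.prime_two
  obtain ⟨hC, hbot, hCN⟩ := centralizer_eq hu
  set C := Subgroup.centralizer ({val hu zL} : Set ↥M24)
  have hQC : qSub hu ≤ C := hC.ge.trans' le_sup_left
  have hKC : kSub hu ≤ C := hC.ge.trans' le_sup_right
  set P := (pCore 2 ↥C).map C.subtype
  have hP2 : IsPGroup 2 P := (CfsgLib.Cores.isPGroup_pCore 2).map _
  have hQP : qSub hu ≤ P := by
    haveI : ((qSub hu).subgroupOf C).Normal := ⟨fun n hn g => by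
      rw [Subgroup.mem_subgroupOf] at hn ⊢
      exact (Subgroup.mem_normalizer_iff.1 (hCN g g.2) n).1 hn⟩
    have h := Subgroup.map_mono (f := C.subtype) (CfsgLib.Cores.le_pCore (p := 2) (N := (qSub hu).subgroupOf C)
      ((IsPGroup.of_card (n := 7) (card_qSub hu)).comap_of_injective C.subtype C.subtype_injective))
    rwa [Subgroup.map_subgroupOf_eq_of_le hQC] at h
  have hPC : P ≤ C := Subgroup.map_subtype_le _
  have hM : P ⊓ kSub hu = ⊥ := by
    by_contra hne
    haveI : Nontrivial ↥(P ⊓ kSub hu) := (Subgroup.nontrivial_iff_ne_bot _).2 hne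
    have hM2 : IsPGroup 2 ↥(P ⊓ kSub hu) := hP2.to_le inf_le_left
    haveI := hM2.center_nontrivial
    obtain ⟨n, hn⟩ := IsPGroup.iff_card.1 (hM2.to_subgroup (Subgroup.center _))
    have hn0 : n ≠ 0 := by
      intro h0
      rw [h0, pow_zero] at hn
      have := Finite.one_lt_card (α := Subgroup.center ↥(P ⊓ kSub hu))
      omega
    obtain ⟨t, ht⟩ := exists_prime_orderOf_dvd_card' (G := Subgroup.center ↥(P ⊓ kSub hu)) 2
      (hn ▸ dvd_pow_self 2 hn0)
    have ht2 : ((t : ↥(P ⊓ kSub hu)) : ↥M24) * ((t : ↥(P ⊓ kSub hu)) : ↥M24) = 1 := by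
      have := congrArg (fun s : Subgroup.center ↥(P ⊓ kSub hu) => ((s : ↥(P ⊓ kSub hu)) : ↥M24)) (pow_orderOf_eq_one t)
      simpa [ht, pow_two] using this
    have ht1 : ((t : ↥(P ⊓ kSub hu)) : ↥M24) ≠ 1 := fun h => by
      have : t = 1 := Subtype.ext (Subtype.ext h)
      rw [this, orderOf_one] at ht
      omega
    obtain ⟨L, hL, hLt⟩ := (mem_kSub hu).1 (t : ↥(P ⊓ kSub hu)).2.2
    have hLm := k_mem hL
    have h := List.all_eq_true.1 k_no_two L hL
    simp only [Bool.or_eq_true, eqL_iff, Bool.not_eq_true', List.any_eq_true, Bool.and_eq_true, List.contains_eq_mem,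
      decide_eq_true_eq] at h
    rcases h with (h | h) | ⟨k, hk, ⟨hinv, hik⟩, hcom⟩
    · exact ht1 (by rw [← hLt, h, val_one])
    · have : eqL (compL L L) (List.range 24) = true := by
        rw [eqL_iff]
        refine pL_inj (validL_compL (valid_of_m24Test hLm) (valid_of_m24Test hLm)) (valid_of_m24Test range_mem) ?_
        rw [pL_compL (valid_of_m24Test hLm) (valid_of_m24Test hLm), pL_range]
        have h' := congrArg (fun g : ↥M24 => (g : Equiv.Perm GolayPt)) ht2
        rw [← hLt] at h'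
        simpa [val_coe hu hLm] using h'
      rw [h] at this
      exact Bool.noConfusion this
    · have hkm := k_mem hk
      have hkinv : val hu (invL k) = (val hu k)⁻¹ :=
        eq_inv_of_mul_eq_one_left (by rw [← val_mul hu (k_mem hik) hkm, hinv, val_one])
      have hkK : val hu k ∈ kSub hu := (mem_kSub hu).2 ⟨k, hk, rfl⟩
      have hconj : val hu k * val hu L * (val hu k)⁻¹ ∈ P ⊓ kSub hu := by
        refine Subgroup.mem_inf.2 ⟨?_, mul_mem (mul_mem hkK ((mem_kSub hu).2 ⟨L, hL, rfl⟩)) (inv_mem hkK)⟩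
        have hn : val hu L ∈ P := hLt ▸ (t : ↥(P ⊓ kSub hu)).2.1
        obtain ⟨p, hp, hp'⟩ := hn
        refine ⟨⟨_, hKC hkK⟩ * p * ⟨_, hKC hkK⟩⁻¹, ?_, by rw [← hp']; rfl⟩
        haveI := CfsgLib.Cores.pCore_characteristic (G := ↥C) 2
        exact (inferInstance : (pCore 2 ↥C).Normal).conj_mem p hp _
      have e := congrArg Subtype.val (Subgroup.mem_center_iff.1 t.2 ⟨_, hconj⟩)
      simp only [Subgroup.coe_mul, ← hLt] at e
      have v1 := valid_of_m24Test hkm
      have v2 := valid_of_m24Test hLm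
      have v3 := valid_of_m24Test (k_mem hik)
      have hm : val hu k * val hu L * (val hu k)⁻¹ = val hu k * (val hu L * val hu (invL k)) := by
        rw [hkinv, mul_assoc]
      rw [hm] at e
      have e' := congrArg (fun g : ↥M24 => (g : Equiv.Perm GolayPt)) e
      simp only [Subgroup.coe_mul, val_coe hu hkm, val_coe hu hLm, val_coe hu (k_mem hik), conj_mul,
        mul_right_inj, mul_left_inj] at e'
      rw [← pL_compL v2 v3, ← pL_compL v1 (validL_compL v2 v3),
        ← pL_compL (validL_compL v1 (validL_compL v2 v3)) v2,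
        ← pL_compL v2 (validL_compL v1 (validL_compL v2 v3))] at e'
      have : commL L (compL k (compL L (invL k))) = true := eqL_iff.2
        (pL_inj (validL_compL v2 (validL_compL v1 (validL_compL v2 v3)))
          (validL_compL (validL_compL v1 (validL_compL v2 v3)) v2) e'.symm)
      rw [hcom] at this
      exact Bool.noConfusion this
  refine le_antisymm (fun x hx => ?_) hQP
  have hle : Nat.card ↥(qSub hu ⊔ kSub hu) * Nat.card ↥(qSub hu ⊓ kSub hu) ≤
      Nat.card (qSub hu) * Nat.card (kSub hu) := by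
    rw [hbot, Subgroup.card_bot, mul_one]
    exact centralizer_card hu
  obtain ⟨q, hq, k, hk, rfl⟩ := PGroup.exists_mul_of_card_sup_inf_le hle (hC ▸ hPC hx : x ∈ qSub hu ⊔ kSub hu)
  have : k ∈ P ⊓ kSub hu := ⟨(Subgroup.mul_mem_cancel_left _ (hQP hq)).1 hx, hk⟩
  rw [hM, Subgroup.mem_bot] at this
  rwa [this, mul_one]

/-- The matrix of a row. -/
def slMat (i : Fin 168) : Matrix.SpecialLinearGroup (Fin 3) (ZMod 2) :=
  ⟨matOf (kMat.getD i.val []), mat_det i⟩

theorem kSub_iso : Nonempty (↥(kSub hu) ≃* Matrix.SpecialLinearGroup (Fin 3) (ZMod 2)) := by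
  classical
  obtain ⟨hnd, hone, -, hlm, hll, -, hlg⟩ := mat_inj
  have hg := k_group
  simp only [groupB, Bool.and_eq_true, List.all_eq_true, decide_eq_true_eq, List.mem_range, eqL_iff] at hg
  obtain ⟨⟨⟨⟨⟨⟨⟨hvg, -⟩, h0⟩, -⟩, -⟩, hidx⟩, -⟩, hkn⟩ := hg
  have hk : ∀ i : Fin 168, kL.getD i.val [] ∈ kL := fun i => by
    rw [List.getD_eq_getElem _ _ (by omega)]; exact List.getElem_mem _
  let f : Fin 168 → ↥(kSub hu) := fun i => ⟨val hu (kL.getD i.val []), (mem_kSub hu).2 ⟨_, hk i, rfl⟩⟩
  have hf : Function.Bijective f := by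
    refine ⟨fun i j h => ?_, fun x => ?_⟩
    · have h' := val_eq hu (k_mem (hk i)) (k_mem (hk j)) (congrArg Subtype.val h)
      rw [List.getD_eq_getElem _ _ (by omega), List.getD_eq_getElem _ _ (by omega)] at h'
      exact Fin.ext ((List.Nodup.getElem_inj_iff hkn).1 h')
    · obtain ⟨L, hL, e⟩ := (mem_kSub hu).1 x.2
      obtain ⟨n, hn, rfl⟩ := List.mem_iff_getElem.1 hL
      exact ⟨⟨n, by omega⟩, Subtype.ext (by show val hu (kL.getD n []) = _; rw [List.getD_eq_getElem _ _ hn]; exact e)⟩
  let F := Equiv.ofBijective f hf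
  let M : ↥(kSub hu) → Matrix.SpecialLinearGroup (Fin 3) (ZMod 2) := fun x => slMat (F.symm x)
  have hM : ∀ i, M (f i) = slMat i := fun i => by simp [M, F]
  have hM1 : M 1 = 1 := by
    have : f 0 = 1 := Subtype.ext (by show val hu (kL.getD 0 []) = _; rw [h0, val_one]; rfl)
    rw [← this, hM]
    exact Subtype.ext hone
  have hgen : ∀ g : Fin 2, ∀ i : Fin 168,
      ∃ (j : Fin 168) (j0 : Fin 168), j.val = (kIdx.getD g.val []).getD i.val 0 ∧
        j0.val = (kIdx.getD g.val []).getD 0 0 ∧
        val hu (kGens.getD g.val []) * (f i : ↥M24) = (f j : ↥M24) ∧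
        val hu (kGens.getD g.val []) = (f j0 : ↥M24) := by
    intro g i
    obtain ⟨hj, he⟩ := hidx g.val (by omega) i.val (by omega)
    obtain ⟨hj0, he0⟩ := hidx g.val (by omega) 0 (by omega)
    have hgm : m24Test (kGens.getD g.val []) = true := by
      rw [List.getD_eq_getElem _ _ (by omega)]; exact hvg _ (List.getElem_mem _)
    refine ⟨⟨(kIdx.getD g.val []).getD i.val 0, by omega⟩, ⟨(kIdx.getD g.val []).getD 0 0, by omega⟩, rfl, rfl, ?_, ?_⟩
    · show _ * val hu (kL.getD i.val []) = _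
      rw [← val_mul hu hgm (k_mem (hk i)), he]
    · show _ = val hu (kL.getD _ [])
      rw [← he0, val_mul hu hgm (k_mem (hk ⟨0, by omega⟩)), h0, val_one, mul_one]
  have hmul : ∀ x : ↥M24, ∀ hx : x ∈ kSub hu, ∀ y, M (⟨x, hx⟩ * y) = M ⟨x, hx⟩ * M y := by
    intro x hx
    induction hx using Subgroup.closure_induction with
    | mem x hx =>
      obtain ⟨g, hg, rfl⟩ := hx
      obtain ⟨n, hn, rfl⟩ := List.mem_iff_getElem.1 hg
      intro y
      obtain ⟨i, rfl⟩ := hf.2 y
      obtain ⟨j, j0, hj, hj0, e, e0⟩ := hgen ⟨n, by omega⟩ i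
      simp only [List.getD_eq_getElem _ _ hn] at e e0
      have e1 : (⟨val hu kGens[n], Subgroup.subset_closure ⟨_, List.getElem_mem hn, rfl⟩⟩ : ↥(kSub hu)) * f i = f j :=
        Subtype.ext e
      have e2 : (⟨val hu kGens[n], Subgroup.subset_closure ⟨_, List.getElem_mem hn, rfl⟩⟩ : ↥(kSub hu)) = f j0 :=
        Subtype.ext e0
      show M (_ * f i) = _
      rw [e1, e2, hM, hM, hM]
      apply Subtype.ext
      show matOf _ = matOf _ * matOf _
      rw [hj, hj0]
      exact mat_mul ⟨n, by omega⟩ i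
    | one => intro y; rw [show (⟨1, _⟩ : ↥(kSub hu)) = 1 from rfl, hM1, one_mul, one_mul]
    | mul a b ha hb iha ihb =>
      intro y
      rw [show (⟨a * b, _⟩ : ↥(kSub hu)) = ⟨a, ha⟩ * ⟨b, hb⟩ from rfl, mul_assoc, iha, ihb, iha, mul_assoc]
    | inv a ha ih =>
      intro y
      rw [show (⟨a⁻¹, _⟩ : ↥(kSub hu)) = (⟨a, ha⟩ : ↥(kSub hu))⁻¹ from rfl]
      have e1 := ih ((⟨a, ha⟩ : ↥(kSub hu))⁻¹ * y)
      have e2 := ih (⟨a, ha⟩ : ↥(kSub hu))⁻¹
      rw [mul_inv_cancel_left] at e1
      rw [mul_inv_cancel, hM1] at e2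
      rw [eq_inv_of_mul_eq_one_right e2.symm, eq_inv_mul_iff_mul_eq]
      exact e1.symm
  let φ : ↥(kSub hu) →* Matrix.SpecialLinearGroup (Fin 3) (ZMod 2) := MonoidHom.mk' M fun x y => hmul x.1 x.2 y
  refine ⟨MulEquiv.ofBijective φ ((Fintype.bijective_iff_injective_and_card _).2 ⟨?_, ?_⟩)⟩
  · intro x y h
    have h' : matOf (kMat.getD (F.symm x).val []) = matOf (kMat.getD (F.symm y).val []) := congrArg Subtype.val h
    have hm : ∀ i : Fin 168, kMat.getD i.val [] ∈ kMat := fun i => by
      rw [List.getD_eq_getElem _ _ (by omega)]; exact List.getElem_mem _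
    exact F.symm.injective (List.nodup_ofFn.1 hnd (matOf_inj (hm _) (hm _) h'))
  · rw [← Nat.card_eq_fintype_card, card_kSub]
    exact card_sl.symm

end Main

end CfsgLib.M24Cert.OctInv
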