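import Cfsg.Agent.Lib.M24Cert.Lists

/-!
# A group of order 64 and exponent two given by the list of its elements
-/

set_option autoImplicit false

namespace CfsgLib.M24Cert

open Cfsg CfsgLib.Golay

/-- The entry of a list of permutation lists. -/
def ent (T : List (List ℕ)) (i : ℕ) : List ℕ := T.getD i []

/-- The six generating entries. -/
def genEnts (T : List (List ℕ)) : List (List ℕ) := (List.range 6).map fun j => ent T (2 ^ j)

/-- The checks of a table of a group of order 64 of exponent two. -/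
def sqTableOk (T : List (List ℕ)) : Bool :=
  decide (ent T 0 = List.range 24) &&
  (List.range 64).all (fun i => validL 24 (ent T i) && decide (compL (ent T i) (ent T i) = List.range 24) &&
    (List.range 6).all fun j => decide (compL (ent T i) (ent T (2 ^ j)) = ent T (i ^^^ 2 ^ j))) &&
  decide (((List.range 64).map (ent T)).Nodup)

/-- The group of the table. -/
def sqGroup (T : List (List ℕ)) : Subgroup (Equiv.Perm GolayPt) :=
  Subgroup.closure {g | ∃ L ∈ genEnts T, pL L = g}

theorem sqGroup_spec {T : List (List ℕ)} (h : sqTableOk T = true) :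
    (∀ g, g ∈ sqGroup T ↔ ∃ i < 64, pL (ent T i) = g) ∧ Nat.card ↥(sqGroup T) = 64 ∧
      ∀ g ∈ sqGroup T, g * g = 1 := by
  simp only [sqTableOk, Bool.and_eq_true, decide_eq_true_eq, List.all_eq_true, List.mem_range] at h
  obtain ⟨⟨h0, hall⟩, hnd⟩ := h
  have hmul : ∀ i < 64, ∀ j < 6, pL (ent T i) * pL (ent T (2 ^ j)) = pL (ent T (i ^^^ 2 ^ j)) := by
    intro i hi j hj
    have h2 : 2 ^ j < 64 := Nat.pow_lt_pow_right (n := 6) (by omega) hj
    rw [← pL_compL (hall i hi).1.1 (hall _ h2).1.1, (hall i hi).2 j hj]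
  have hsq : ∀ i < 64, pL (ent T i) * pL (ent T i) = 1 := by
    intro i hi
    rw [← pL_compL (hall i hi).1.1 (hall i hi).1.1, (hall i hi).1.2, pL_range]
  have hxor : ∀ i < 64, ∀ j < 6, i ^^^ 2 ^ j < 64 := fun i hi j hj =>
    Nat.xor_lt_two_pow (n := 6) hi (Nat.pow_lt_pow_right (by omega) hj)
  have hsub : ∀ i < 64, pL (ent T i) ∈ sqGroup T := by
    intro i
    induction i using Nat.strong_induction_on with
    | _ i ih =>
      intro hi
      by_cases hi0 : i = 0
      · subst hi0; rw [h0, pL_range]; exact one_mem _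
      have hlog : Nat.log2 i < 6 := (Nat.log2_lt hi0).2 hi
      have hlt : i ^^^ 2 ^ Nat.log2 i < i := by
        have key : ∀ k < 64, k ≠ 0 → k ^^^ 2 ^ Nat.log2 k < k := by decide +kernel
        exact key i hi hi0
      have hk := hmul _ (hxor i hi _ hlog) _ hlog
      rw [Nat.xor_assoc, Nat.xor_self, Nat.xor_zero] at hk
      rw [← hk]
      exact mul_mem (ih _ hlt (hxor i hi _ hlog))
        (Subgroup.subset_closure ⟨_, List.mem_map.2 ⟨_, List.mem_range.2 hlog, rfl⟩, rfl⟩)
  have hmem : ∀ g, g ∈ sqGroup T ↔ ∃ i < 64, pL (ent T i) = g := by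
    intro g
    refine ⟨fun hg => ?_, fun ⟨i, hi, e⟩ => e ▸ hsub i hi⟩
    induction hg using Subgroup.closure_induction_right with
    | one => exact ⟨0, by omega, by rw [h0, pL_range]⟩
    | mul_right x _ y hy ih =>
      obtain ⟨i, hi, rfl⟩ := ih
      obtain ⟨L, hL, rfl⟩ := hy
      obtain ⟨j, hj, rfl⟩ := List.mem_map.1 hL
      exact ⟨_, hxor i hi j (List.mem_range.1 hj), (hmul i hi j (List.mem_range.1 hj)).symm⟩
    | mul_inv_cancel x _ y hy ih =>
      obtain ⟨i, hi, rfl⟩ := ih
      obtain ⟨L, hL, rfl⟩ := hy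
      obtain ⟨j, hj, rfl⟩ := List.mem_map.1 hL
      have hj' := List.mem_range.1 hj
      refine ⟨_, hxor i hi j hj', ?_⟩
      rw [inv_eq_of_mul_eq_one_right (hsq _ (Nat.pow_lt_pow_right (n := 6) (by omega) hj')), hmul i hi j hj']
  refine ⟨hmem, ?_, fun g hg => ?_⟩
  · rw [← Nat.card_fin 64]
    refine (Nat.card_congr (Equiv.ofBijective (fun i : Fin 64 => (⟨pL (ent T i), hsub i i.2⟩ : sqGroup T))
      ⟨fun a b e => ?_, fun g => ?_⟩)).symm
    · have := pL_inj (hall a a.2).1.1 (hall b b.2).1.1 (congrArg Subtype.val e)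
      exact Fin.ext (List.inj_on_of_nodup_map hnd (List.mem_range.2 a.2) (List.mem_range.2 b.2) this)
    · obtain ⟨i, hi, e⟩ := (hmem g).1 g.2
      exact ⟨⟨i, hi⟩, Subtype.ext e⟩
  · obtain ⟨i, hi, rfl⟩ := (hmem g).1 hg
    exact hsq i hi

theorem sqGroup_le {T : List (List ℕ)} (H : Subgroup (Equiv.Perm GolayPt)) (h : ∀ L ∈ genEnts T, pL L ∈ H) :
    sqGroup T ≤ H := by
  rw [sqGroup, Subgroup.closure_le]
  rintro _ ⟨L, hL, rfl⟩
  exact h L hL

end CfsgLib.M24Cert
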