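import Cfsg.Agent.Lib.M24Cert.Single
import Cfsg.Agent.Lib.M24Cert.StructData
import Cfsg.Agent.Lib.M24Cert.SquareTable

/-!
# The action of a sextet stabiliser on the six tetrads
-/

set_option autoImplicit false

namespace CfsgLib.M24Cert

open Cfsg CfsgLib.Golay

open scoped Pointwise

/-- The test of a list fixing every standard tetrad. -/
def fixTets (L : List ℕ) : Bool := m24Test L && tetMasks.all fun t => imgF L t == t

theorem tet_checks : sexTbl.obj 776 = tetMasks ∧ sqTableOk sexSquares = true ∧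
    (genEnts sexSquares).all fixTets = true ∧ fixTets sexThree = true ∧
    compL sexThree (compL sexThree sexThree) = List.range 24 ∧
    ((List.range 64).all fun i => decide (ent sexSquares i ≠ sexThree)) = true ∧
    ((List.range 6).all fun j => ((List.range 64).map fun i => compL (ent sexSquares i) sexThree).contains
      (compL sexThree (ent sexSquares (2 ^ j)))) = true ∧
    ((List.range 5).all fun j => m24Test (sexSwaps.getD j []) && (List.range 6).all fun i =>
      imgF (sexSwaps.getD j []) (tetMasks.getD i 0) ==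
        tetMasks.getD (if i = j then j + 1 else if i = j + 1 then j else i) 0) = true ∧
    tetMasks.Nodup ∧ tetMasks.length = 6 := by
  refine ⟨?_, ?_, ?_, ?_, ?_, ?_, ?_, ?_, ?_, ?_⟩ <;> decide +kernel

/-- The standard tetrads. -/
def baseTet (i : Fin 6) : Finset GolayPt := toSet (tetMasks.getD i.val 0)

theorem baseTet_lt : ∀ i : Fin 6, tetMasks.getD i.val 0 < 2 ^ 24 := by decide +kernel

theorem baseTet_injective : Function.Injective baseTet := by
  intro i j h
  have h1 := toSet_inj (baseTet_lt i) (baseTet_lt j) h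
  obtain ⟨-, -, -, -, -, -, -, -, hnd, hlen⟩ := tet_checks
  rw [List.getD_eq_getElem _ _ (by omega), List.getD_eq_getElem _ _ (by omega)] at h1
  exact Fin.ext ((hnd.getElem_inj_iff (hi := by omega) (hj := by omega)).1 h1)

theorem mem_baseSextet {t : Finset GolayPt} : t ∈ sexTbl.el 776 ↔ ∃ i, baseTet i = t := by
  rw [Tbl.el, tet_checks.1, mem_oset]
  have hlen := tet_checks.2.2.2.2.2.2.2.2.2
  constructor
  · rintro ⟨n, hn, rfl⟩
    obtain ⟨k, hk, rfl⟩ := List.mem_iff_getElem.1 hn
    exact ⟨⟨k, by omega⟩, by rw [baseTet, List.getD_eq_getElem _ _ hk]⟩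
  · rintro ⟨i, rfl⟩
    exact ⟨tetMasks.getD i.val 0, by rw [List.getD_eq_getElem _ _ (by omega)]; exact List.getElem_mem _, rfl⟩

theorem fixTets_spec {L : List ℕ} (h : fixTets L = true) : pL L ∈ fixMasks tetMasks := by
  simp only [fixTets, Bool.and_eq_true, List.all_eq_true, beq_iff_eq] at h
  exact mem_fixMasks.2 ⟨mem_M24_of_test h.1, fun t ht => by
    rw [smul_toSet_imgF (valid_of_m24Test h.1), h.2 t ht]⟩

/-- Every permutation of the standard tetrads is induced. -/
theorem tet_induced (π : Equiv.Perm (Fin 6)) : ∃ g ∈ M24, ∀ i, g • baseTet i = baseTet (π i) := by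
  let R : Subgroup (Equiv.Perm (Fin 6)) :=
    { carrier := {π | ∃ g ∈ M24, ∀ i, g • baseTet i = baseTet (π i)}
      one_mem' := ⟨1, one_mem _, fun i => one_smul _ _⟩
      mul_mem' := by
        rintro a b ⟨g, hg, ga⟩ ⟨k, hk, kb⟩
        exact ⟨g * k, mul_mem hg hk, fun i => by rw [mul_smul, kb, ga, Equiv.Perm.mul_apply]⟩
      inv_mem' := by
        rintro a ⟨g, hg, ga⟩
        exact ⟨g⁻¹, inv_mem hg, fun i => by
          rw [inv_smul_eq_iff, ga, show a (a⁻¹ i) = i from a.apply_symm_apply i]⟩ }
  suffices R = ⊤ by exact (this ▸ Subgroup.mem_top π : π ∈ R)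
  have hs := tet_checks.2.2.2.2.2.2.2.1
  simp only [List.all_eq_true, Bool.and_eq_true, List.mem_range, beq_iff_eq] at hs
  have hadj : ∀ j : Fin 5, Equiv.swap j.castSucc j.succ ∈ R := by
    intro j
    obtain ⟨h1, h2⟩ := hs j.val j.isLt
    refine ⟨pL (sexSwaps.getD j.val []), mem_M24_of_test h1, fun i => ?_⟩
    rw [baseTet, baseTet, smul_toSet_imgF (valid_of_m24Test h1), h2 i.val i.isLt]
    congr 2
    have key : ∀ (j : Fin 5) (i : Fin 6), (if i.val = j.val then j.val + 1 else if i.val = j.val + 1 then j.val else i.val) =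
        (Equiv.swap j.castSucc j.succ i).val := by decide +kernel
    exact key j i
  rw [eq_top_iff]
  intro x _
  have hx : x ∈ Submonoid.closure (Set.range fun i : Fin 5 => Equiv.swap i.castSucc i.succ) := by
    rw [Equiv.Perm.mclosure_swap_castSucc_succ]; trivial
  exact (Submonoid.closure_le (S := R.toSubmonoid)).2 (by rintro _ ⟨j, rfl⟩; exact hadj j) hx

/-- The action on the members of a family. -/
def famHom (S : Finset (Finset GolayPt)) : ↥(MulAction.stabilizer M24 S) →* Equiv.Perm ↥S where
  toFun g := {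
    toFun := fun t => ⟨(g : M24).val • t.1, by
      have h : (g : M24).val • S = S := g.2
      have h' : (g : M24).val • t.1 ∈ (g : M24).val • S := Finset.smul_mem_smul_finset t.2
      rwa [h] at h'⟩
    invFun := fun t => ⟨((g⁻¹ : MulAction.stabilizer M24 S) : M24).val • t.1, by
      have h : ((g⁻¹ : MulAction.stabilizer M24 S) : M24).val • S = S := (g⁻¹).2
      have h' : ((g⁻¹ : MulAction.stabilizer M24 S) : M24).val • t.1 ∈
          ((g⁻¹ : MulAction.stabilizer M24 S) : M24).val • S := Finset.smul_mem_smul_finset t.2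
      rwa [h] at h'⟩
    left_inv := fun t => Subtype.ext (inv_smul_smul (g : M24).val t.1)
    right_inv := fun t => Subtype.ext (smul_inv_smul (g : M24).val t.1) }
  map_one' := Equiv.ext fun t => Subtype.ext (one_smul _ t.1)
  map_mul' a b := Equiv.ext fun t => Subtype.ext (mul_smul _ _ t.1)

theorem famHom_eq_one {S : Finset (Finset GolayPt)} {g : ↥(MulAction.stabilizer M24 S)} :
    famHom S g = 1 ↔ ∀ t ∈ S, (g : M24).val • t = t :=
  ⟨fun h t ht => congrArg Subtype.val (Equiv.ext_iff.1 h ⟨t, ht⟩),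
    fun h => Equiv.ext fun t => Subtype.ext (h t.1 t.2)⟩

theorem famHom_surjective {S : Finset (Finset GolayPt)} (hS : S ∈ sextets) :
    Function.Surjective (famHom S) := by
  intro e
  obtain ⟨a, ha, rfl⟩ := sextets_transitive hS
  let lab : Fin 6 ≃ ↥(a • sexTbl.el 776) :=
    Equiv.ofBijective (fun i => ⟨a • baseTet i, Finset.smul_mem_smul_finset (mem_baseSextet.2 ⟨i, rfl⟩)⟩)
      ⟨fun i j h => baseTet_injective (MulAction.injective a (congrArg Subtype.val h)), fun t => by
        obtain ⟨u, hu, e⟩ := Finset.mem_smul_finset.1 t.2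
        obtain ⟨i, rfl⟩ := mem_baseSextet.1 hu
        exact ⟨i, Subtype.ext e⟩⟩
  obtain ⟨g, hg, hgi⟩ := tet_induced ((lab.trans e).trans lab.symm)
  have hstab : (⟨a * g * a⁻¹, mul_mem (mul_mem ha hg) (inv_mem ha)⟩ : M24) ∈
      MulAction.stabilizer M24 (a • sexTbl.el 776) := by
    rw [MulAction.mem_stabilizer_iff]
    show (a * g * a⁻¹) • a • sexTbl.el 776 = a • sexTbl.el 776
    rw [mul_smul, inv_smul_smul, mul_smul]
    congr 1
    refine Finset.eq_of_subset_of_card_le (fun t ht => ?_) (by rw [Finset.card_smul_finset])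
    obtain ⟨u, hu, rfl⟩ := Finset.mem_smul_finset.1 ht
    obtain ⟨i, rfl⟩ := mem_baseSextet.1 hu
    exact mem_baseSextet.2 ⟨_, (hgi i).symm⟩
  refine ⟨⟨_, hstab⟩, Equiv.ext fun t => ?_⟩
  obtain ⟨i, rfl⟩ := lab.surjective t
  refine Subtype.ext ?_
  show (a * g * a⁻¹) • a • baseTet i = (e (lab i)).val
  rw [mul_smul, inv_smul_smul, mul_smul, hgi]
  show (lab (lab.symm (e (lab i)))).val = _
  rw [Equiv.apply_symm_apply]

theorem card_stab_sextet {S : Finset (Finset GolayPt)} (hS : S ∈ sextets) :
    Nat.card ↥(MulAction.stabilizer M24 S) = 138240 := by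
  have h := (MulAction.stabilizer M24 S).card_mul_index
  rw [MulAction.index_stabilizer, orbit_group sexTbl_closed (X₀ := sexTbl.el 776)
    (fun Y hY => sextets_transitive (sextets_eq ▸ hY)) (sextets_eq ▸ hS), Tbl.ncard_range sexTbl_sorted, card_M24] at h
  rw [show sexTbl.N = 1771 from rfl] at h
  omega

theorem card_famKer {S : Finset (Finset GolayPt)} (hS : S ∈ sextets) : Nat.card ↥(famHom S).ker = 192 := by
  have h := (famHom S).ker.card_mul_index
  rw [Subgroup.index_ker, MonoidHom.range_eq_top_of_surjective _ (famHom_surjective hS), Subgroup.card_top,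
    Nat.card_perm, Nat.card_eq_finsetCard, hS.1, card_stab_sextet hS, show Nat.factorial 6 = 720 from rfl] at h
  omega

theorem mem_fixMasks_tet {g : Equiv.Perm GolayPt} :
    g ∈ fixMasks tetMasks ↔ g ∈ M24 ∧ ∀ t ∈ sexTbl.el 776, g • t = t := by
  rw [mem_fixMasks]
  refine and_congr_right fun _ => ?_
  rw [Tbl.el, tet_checks.1]
  simp [oset]

theorem card_fixMasks_tet : Nat.card ↥(fixMasks tetMasks) = 192 := by
  have hS : sexTbl.el 776 ∈ sextets := sexTbl_mem 776 (by decide)
  rw [← card_famKer hS]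
  refine Nat.card_congr
    { toFun := fun g => ⟨⟨⟨g.1, (mem_fixMasks_tet.1 g.2).1⟩, ?_⟩, ?_⟩
      invFun := fun g => ⟨g.1.1.1, mem_fixMasks_tet.2 ⟨g.1.1.2, famHom_eq_one.1 g.2⟩⟩
      left_inv := fun g => rfl
      right_inv := fun g => rfl }
  · show g.1 • sexTbl.el 776 = sexTbl.el 776
    refine Finset.eq_of_subset_of_card_le (fun t ht => ?_) (by rw [Finset.card_smul_finset])
    obtain ⟨u, hu, rfl⟩ := Finset.mem_smul_finset.1 ht
    rwa [(mem_fixMasks_tet.1 g.2).2 u hu]
  · exact famHom_eq_one.2 (mem_fixMasks_tet.1 g.2).2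

theorem sqGroup_le_tet : sqGroup sexSquares ≤ fixMasks tetMasks :=
  sqGroup_le _ fun L hL => fixTets_spec (List.all_eq_true.1 tet_checks.2.2.1 L hL)

/-- The elements of square one fixing every tetrad are the elements of the table. -/
theorem tet_square {g : Equiv.Perm GolayPt} (hg : g ∈ fixMasks tetMasks) (h2 : g * g = 1) :
    g ∈ sqGroup sexSquares := by
  obtain ⟨hmem, hcard, -⟩ := sqGroup_spec tet_checks.2.1
  obtain ⟨-, hok, -, hc, hc3, hnot, hnorm, -⟩ := tet_checks
  have hv : validL 24 sexThree = true := by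
    simp only [fixTets, Bool.and_eq_true] at hc
    exact valid_of_m24Test hc.1
  have hval : ∀ i < 64, validL 24 (ent sexSquares i) = true := by
    intro i hi
    simp only [sqTableOk, Bool.and_eq_true, List.all_eq_true, List.mem_range] at hok
    exact (hok.1.2 i hi).1.1
  set N := sqGroup sexSquares
  set K := fixMasks tetMasks with hK
  set c := pL sexThree
  have hcK : c ∈ K := fixTets_spec hc
  have hcN : c ∉ N := by
    intro h
    obtain ⟨i, hi, e⟩ := (hmem c).1 h
    simp only [List.all_eq_true, List.mem_range, decide_eq_true_eq] at hnot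
    exact hnot i hi (pL_inj (hval i hi) hv e)
  have hconj : c ∈ Subgroup.normalizer (N : Set (Equiv.Perm GolayPt)) := by
    have hle : N.map (MulAut.conj c).toMonoidHom ≤ N := by
      rw [Subgroup.map_le_iff_le_comap]
      refine sqGroup_le _ fun L hL => ?_
      obtain ⟨j, hj, rfl⟩ := List.mem_map.1 hL
      simp only [List.all_eq_true, List.mem_range, List.contains_iff_mem, List.mem_map] at hnorm
      obtain ⟨i, hi, e⟩ := hnorm j (List.mem_range.1 hj)
      have h2 : 2 ^ j < 64 := Nat.pow_lt_pow_right (n := 6) (by omega) (List.mem_range.1 hj)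
      have e' := congrArg pL e
      rw [pL_compL (hval i hi) hv, pL_compL hv (hval _ h2)] at e'
      show c * pL (ent sexSquares (2 ^ j)) * c⁻¹ ∈ N
      rw [← e', mul_inv_cancel_right]
      exact (hmem _).2 ⟨i, hi, rfl⟩
    have heq : N.map (MulAut.conj c).toMonoidHom = N :=
      Subgroup.eq_of_le_of_card_ge hle (by
        rw [Subgroup.card_map_of_injective (MulAut.conj c).injective])
    rw [Subgroup.mem_normalizer_iff]
    intro x
    conv_rhs => rw [← heq]
    exact (Subgroup.mem_map_iff_mem (f := (MulAut.conj c).toMonoidHom) (MulAut.conj c).injective).symm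
  have hKn : K ≤ Subgroup.normalizer (N : Set (Equiv.Perm GolayPt)) := by
    set J := N ⊔ Subgroup.zpowers c with hJ
    have hJK : J ≤ K := sup_le sqGroup_le_tet (Subgroup.zpowers_le.2 hcK)
    have hord : orderOf c = 3 := by
      refine orderOf_eq_prime ?_ fun h => hcN (h ▸ one_mem _)
      have h2 : validL 24 (compL sexThree sexThree) = true := validL_compL hv hv
      show c ^ 3 = 1
      rw [pow_succ', pow_two, ← pL_compL hv hv, ← pL_compL hv h2, hc3, pL_range]
    have h64 : 64 ∣ Nat.card J := hcard ▸ Subgroup.card_dvd_of_le le_sup_left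
    have h3 : 3 ∣ Nat.card J := by
      rw [← hord, ← Nat.card_zpowers]; exact Subgroup.card_dvd_of_le le_sup_right
    have h192 : 192 ∣ Nat.card J := Nat.Coprime.mul_dvd_of_dvd_of_dvd (by decide) h64 h3
    have hJeq : J = K := Subgroup.eq_of_le_of_card_ge hJK (by
      rw [card_fixMasks_tet]; exact Nat.le_of_dvd Nat.card_pos h192)
    rw [← hJeq]
    exact sup_le Subgroup.le_normalizer (Subgroup.zpowers_le.2 hconj)
  haveI : (N.subgroupOf K).Normal := (Subgroup.normal_subgroupOf_iff_le_normalizer sqGroup_le_tet).2 hKn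
  have hidx : (N.subgroupOf K).index = 3 := by
    have h := (N.subgroupOf K).card_mul_index
    rw [Nat.card_congr (Subgroup.subgroupOfEquivOfLe sqGroup_le_tet).toEquiv, hcard, card_fixMasks_tet] at h
    omega
  have h := (N.subgroupOf K).pow_index_mem ⟨g, hg⟩
  rw [hidx, Subgroup.mem_subgroupOf] at h
  rwa [SubmonoidClass.coe_pow, pow_succ', pow_two, h2, mul_one] at h

end CfsgLib.M24Cert
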