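import Cfsg.Agent.Lib.M24Cert.ClassFacts
import Cfsg.Agent.Lib.M24Cert.Pairs
import Cfsg.Agent.Lib.M24Cert.CentData

/-!
# The centraliser of a fixed-point-free involution and the normaliser of a group of order seven
-/

set_option autoImplicit false

namespace CfsgLib.M24Cert

open Cfsg CfsgLib.Golay

open scoped Pointwise

theorem card_eq_length {K : Subgroup (Equiv.Perm GolayPt)} {l : List (List ℕ)} (hv : ∀ L ∈ l, validL 24 L = true)
    (hnd : l.Nodup) (h : ∀ g, g ∈ K ↔ ∃ L ∈ l, g = pL L) : Nat.card K = l.length := by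
  have e : (K : Set (Equiv.Perm GolayPt)) = ↑((l.map pL).toFinset) := by
    ext g
    simp [h g, eq_comm]
  rw [← SetLike.coe_sort_coe, Nat.card_coe_set_eq, e, Set.ncard_coe_finset, List.toFinset_card_of_nodup,
    List.length_map]
  exact hnd.map_on fun a ha b hb e => pL_inj (hv a ha) (hv b hb) e

theorem orbit_ncard_eq {K : Subgroup (Equiv.Perm GolayPt)} {i : ℕ} {l : List ℕ} (hl : ∀ a ∈ l, a < 24) (hnd : l.Nodup)
    (hsub : ∀ g ∈ K, ∃ a ∈ l, g (pt i) = pt a) (hsup : ∀ a ∈ l, ∃ g ∈ K, g (pt i) = pt a) :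
    (MulAction.orbit ↥K (pt i)).ncard = l.length := by
  have e : MulAction.orbit ↥K (pt i) = ↑((l.map pt).toFinset) := by
    ext q
    simp only [List.coe_toFinset, List.mem_map, Set.mem_ofPred_eq]
    constructor
    · rintro ⟨⟨g, hg⟩, rfl⟩
      obtain ⟨a, ha, e⟩ := hsub g hg
      exact ⟨a, ha, e.symm⟩
    · rintro ⟨a, ha, rfl⟩
      obtain ⟨g, hg, e⟩ := hsup a ha
      exact ⟨⟨g, hg⟩, e⟩
  rw [e, Set.ncard_coe_finset, List.toFinset_card_of_nodup, List.length_map]
  exact hnd.map_on fun a ha b hb e => pt_inj (hl a ha) (hl b hb) e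

/-- The list fixes the family. -/
noncomputable def fixesL (L l : List ℕ) : Bool := allB (fun n => memB (imgR L n) l) l

theorem fixesL_spec {L l : List ℕ} (hv : validL 24 L = true) (h : fixesL L l = true) : pL L • oset l = oset l := by
  simp only [fixesL, allB_iff, memB_iff] at h
  refine Finset.eq_of_subset_of_card_le (fun s hs => ?_) (by rw [Finset.card_smul_finset])
  obtain ⟨t, ht, rfl⟩ := Finset.mem_smul_finset.1 hs
  obtain ⟨n, hn, rfl⟩ := mem_oset.1 ht
  exact mem_oset.2 ⟨_, h n hn, by rw [smul_toSet_imgF hv, imgR_eq]⟩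

/-- The described element commutes with the permutation list. -/
noncomputable def commB (h : ℕ → ℕ) (T : List ℕ) : Bool := allLt (fun i => Nat.beq (h (getR T i)) (getR T (h i))) 24

theorem allLt_of_forall {P : ℕ → Bool} : ∀ {n : ℕ}, (∀ i < n, P i = true) → allLt P n = true
  | 0, _ => rfl
  | n + 1, h => by
    show (P n && allLt P n) = true
    rw [h n (by omega), allLt_of_forall fun i hi => h i (by omega)]; rfl

theorem commB_iff {g : Equiv.Perm GolayPt} {h : ℕ → ℕ} (hd : Desc g h) {T : List ℕ} (hT : validL 24 T = true) :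
    commB h T = true ↔ g * pL T = pL T * g := by
  have key : ∀ i < 24, ((g * pL T) (pt i) = pt (h (getR T i)) ∧ (pL T * g) (pt i) = pt (getR T (h i))) := fun i hi => by
    constructor
    · rw [Equiv.Perm.mul_apply, pL_pt hT hi, (hd _ (validL_getD_lt hT hi)).2, getR_eq]
    · rw [Equiv.Perm.mul_apply, (hd i hi).2, pL_pt hT (hd i hi).1, getR_eq]
  constructor
  · intro hc
    refine Equiv.ext fun q => ?_
    obtain ⟨i, hi, rfl⟩ := exists_pt q
    rw [(key i hi).1, (key i hi).2, Nat.eq_of_beq_eq_true (allLt_spec hc i hi)]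
  · intro e
    refine allLt_of_forall fun i hi => Nat.beq_eq.symm ▸ ?_
    have h1 := (key i hi).1
    rw [e, (key i hi).2] at h1
    have hlt : ∀ j < 24, getR T j < 24 := fun j hj => by rw [getR_eq]; exact validL_getD_lt hT hj
    exact (pt_inj (hlt _ (hd i hi).1) (hd _ (hlt i hi)).1 h1).symm

theorem elT_valid : elT.m24 = true ∧ validL 24 elT.L = true := ⟨certs_ok.2.2.2.1, (GenT.valid' certs_ok.2.2.2.1).2⟩

/-- The centraliser of the fixed-point-free representative. -/
def centT : Subgroup (Equiv.Perm GolayPt) := M24 ⊓ Subgroup.centralizer {pL elT.L}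

theorem mem_centT {g : Equiv.Perm GolayPt} : g ∈ centT ↔ g ∈ M24 ∧ g * pL elT.L = pL elT.L * g := by
  rw [centT, Subgroup.mem_inf, Subgroup.mem_centralizer_singleton_iff]

theorem centT_data :
    allB (fun L => m24B L && commB (getR L) elT.L) (centW ++ centV ++ centFour) = true ∧
    centW.map (getR · 0) = List.range 24 ∧
    allB (fun L => Nat.beq (getR L 0) 0) centV = true ∧
    centV.map (getR · 2) = [2, 3, 4, 5, 6, 7, 8, 9, 10, 11, 12, 13, 14, 16, 17, 18, 20, 21, 22, 23] ∧
    allB (fun L => Nat.beq (getR L 0) 0 && Nat.beq (getR L 2) 2) centFour = true ∧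
    centFour.Nodup ∧ centFour.length = 16 ∧
    allB (fun L => fixesL L (sexTbl.obj 965)) (centW ++ centV ++ centFour) = true ∧
    centBad.map (fun A => [getR A 0, getR A 1, getR A 2, getR A 3]) =
      [15, 19].map (fun q => [0, 1, q, getR elT.L q]) ∧
    fixesB elT (sexTbl.obj 965) = true := by
  refine ⟨?_, ?_, ?_, ?_, ?_, ?_, ?_, ?_, ?_, ?_⟩ <;> decide +kernel

theorem centT_bad : allB (fun A => m24Test A && cosetAll (fun h => !commB h elT.L) 4 A) centBad = true := by
  decide +kernel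

theorem centT_four : cosetAll (fun h => !commB h elT.L || anyB (fun L => allLt (fun i => Nat.beq (h i) (getR L i)) 24) centFour)
    4 (List.range 24) = true := by decide +kernel

theorem centT_lists : ∀ L ∈ centW ++ centV ++ centFour,
    validL 24 L = true ∧ pL L ∈ centT ∧ pL L • sexTbl.el 965 = sexTbl.el 965 := by
  intro L hL
  have h := allB_iff.1 centT_data.1 L hL
  simp only [Bool.and_eq_true] at h
  obtain ⟨hv, hm⟩ := mem_M24_of_m24B h.1
  exact ⟨hv, mem_centT.2 ⟨hm, (commB_iff (desc_pL hv) elT_valid.2).1 h.2⟩,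
    fixesL_spec hv (allB_iff.1 centT_data.2.2.2.2.2.2.2.1 L hL)⟩

theorem centT_pair {g : Equiv.Perm GolayPt} (hg : g ∈ centT) {a : ℕ} (ha : a < 24) {b : ℕ} (h : g (pt a) = pt b) :
    g (pt (getR elT.L a)) = pL elT.L (pt b) := by
  have e := congrArg (fun x : Equiv.Perm GolayPt => x (pt a)) (mem_centT.1 hg).2
  simp only [Equiv.Perm.mul_apply] at e
  rw [pL_pt elT_valid.2 ha, ← getR_eq, h] at e
  exact e

theorem centT_step_zero {g : Equiv.Perm GolayPt} (hg : g ∈ centT) : ∃ L ∈ centW, g (pt 0) = pL L (pt 0) := by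
  obtain ⟨a, ha, e⟩ := exists_pt (g (pt 0))
  have : a ∈ centW.map (getR · 0) := by rw [centT_data.2.1]; exact List.mem_range.2 ha
  obtain ⟨L, hL, hLa⟩ := List.mem_map.1 this
  refine ⟨L, hL, ?_⟩
  rw [pL_pt (centT_lists L (by simp [hL])).1 (by omega), ← getR_eq, hLa, e]

theorem centT_step_two {g : Equiv.Perm GolayPt} (hg : g ∈ centT) (h0 : g (pt 0) = pt 0) :
    ∃ L ∈ centV, g (pt 2) = pL L (pt 2) := by
  obtain ⟨hgm, -⟩ := mem_centT.1 hg
  have hT0 : getR elT.L 0 = 1 ∧ getR elT.L 2 = 3 := by decide +kernel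
  have h1 : g (pt 1) = pt 1 := by
    have := centT_pair hg (show 0 < 24 by omega) h0
    rwa [pL_pt elT_valid.2 (show 0 < 24 by omega), ← getR_eq, hT0.1] at this
  obtain ⟨q, hq, e⟩ := exists_pt (g (pt 2))
  have h3 : g (pt 3) = pt (getR elT.L q) := by
    have := centT_pair hg (show 2 < 24 by omega) e.symm
    rwa [hT0.2, pL_pt elT_valid.2 hq, ← getR_eq] at this
  by_cases hmem : q ∈ centV.map (getR · 2)
  · obtain ⟨L, hL, hLq⟩ := List.mem_map.1 hmem
    refine ⟨L, hL, ?_⟩
    rw [pL_pt (centT_lists L (by simp [hL])).1 (by omega), ← getR_eq, hLq, e]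
  · exfalso
    rw [centT_data.2.2.2.1] at hmem
    simp only [List.mem_cons, List.not_mem_nil, or_false, not_or] at hmem
    have hq01 : q ≠ 0 ∧ q ≠ 1 := by
      constructor
      · rintro rfl
        exact absurd (g.injective (h0.trans e)) fun e => absurd (pt_inj (by omega) (by omega) e) (by omega)
      · rintro rfl
        exact absurd (g.injective (h1.trans e)) fun e => absurd (pt_inj (by omega) (by omega) e) (by omega)
    have hq' : q ∈ [15, 19] := by
      simp only [List.mem_cons, List.not_mem_nil, or_false]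
      omega
    have hmap := centT_data.2.2.2.2.2.2.2.2.1
    have : [0, 1, q, getR elT.L q] ∈ centBad.map (fun A => [getR A 0, getR A 1, getR A 2, getR A 3]) := by
      rw [hmap]; exact List.mem_map.2 ⟨q, hq', rfl⟩
    obtain ⟨A, hA, hAe⟩ := List.mem_map.1 this
    simp only [List.cons.injEq, and_true] at hAe
    obtain ⟨a0, a1, a2, a3⟩ := hAe
    have hb := allB_iff.1 centT_bad A hA
    simp only [Bool.and_eq_true] at hb
    obtain ⟨h, hP, hd⟩ := coset_spec (k := 4) (fixed := [0, 1, 2, 3]) (by decide +kernel) (by decide +kernel) hb.1 hb.2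
      hgm fun i hi => by
        simp only [List.mem_cons, List.not_mem_nil, or_false] at hi
        rcases hi with rfl | rfl | rfl | rfl
        · exact ⟨by omega, by rw [a0, h0]⟩
        · exact ⟨by omega, by rw [a1, h1]⟩
        · exact ⟨by omega, by rw [a2, e]⟩
        · exact ⟨by omega, by rw [a3, h3]⟩
    rw [(commB_iff hd elT_valid.2).2 (mem_centT.1 hg).2] at hP
    exact Bool.noConfusion hP

theorem centT_step_four {g : Equiv.Perm GolayPt} (hg : g ∈ centT) (h0 : g (pt 0) = pt 0) (h2 : g (pt 2) = pt 2) :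
    ∃ L ∈ centFour, g = pL L := by
  have hT0 : getR elT.L 0 = 1 ∧ getR elT.L 2 = 3 := by decide +kernel
  have h1 : g (pt 1) = pt 1 := by
    have := centT_pair hg (show 0 < 24 by omega) h0
    rwa [pL_pt elT_valid.2 (show 0 < 24 by omega), ← getR_eq, hT0.1] at this
  have h3 : g (pt 3) = pt 3 := by
    have := centT_pair hg (show 2 < 24 by omega) h2
    rwa [pL_pt elT_valid.2 (show 2 < 24 by omega), ← getR_eq, hT0.2] at this
  obtain ⟨h, hP, hd⟩ := coset_spec (k := 4) (fixed := [0, 1, 2, 3]) (by decide +kernel) (by decide +kernel)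
    fix5_few.2 centT_four (mem_centT.1 hg).1 fun i hi => by
      simp only [List.mem_cons, List.not_mem_nil, or_false] at hi
      rcases hi with rfl | rfl | rfl | rfl <;> refine ⟨by omega, ?_⟩
      · exact h0
      · exact h1
      · exact h2
      · exact h3
  rw [(commB_iff hd elT_valid.2).2 (mem_centT.1 hg).2] at hP
  simp only [Bool.not_true, Bool.false_or] at hP
  obtain ⟨L, hL, hLe⟩ := anyB_iff.1 hP
  refine ⟨L, hL, Equiv.ext fun p => ?_⟩
  obtain ⟨i, hi, rfl⟩ := exists_pt p
  rw [(hd i hi).2, pL_pt (centT_lists L (by simp [hL])).1 hi, Nat.eq_of_beq_eq_true (allLt_spec hLe i hi), getR_eq]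

theorem centT_fix_zero {L : List ℕ} (hL : L ∈ centV) : pL L (pt 0) = pt 0 := by
  rw [pL_pt (centT_lists L (by simp [hL])).1 (by omega), ← getR_eq,
    Nat.eq_of_beq_eq_true (allB_iff.1 centT_data.2.2.1 L hL)]

/-- Every centralising element is a product of three listed ones. -/
theorem centT_decomp {g : Equiv.Perm GolayPt} (hg : g ∈ centT) :
    ∃ A ∈ centW, ∃ B ∈ centV, ∃ C ∈ centFour, g = pL A * pL B * pL C := by
  obtain ⟨A, hA, eA⟩ := centT_step_zero hg
  have hg1 : (pL A)⁻¹ * g ∈ centT := mul_mem (inv_mem (centT_lists A (by simp [hA])).2.1) hg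
  have h1 : ((pL A)⁻¹ * g) (pt 0) = pt 0 := by
    show (pL A).symm (g (pt 0)) = pt 0
    rw [eA, Equiv.symm_apply_apply]
  obtain ⟨B, hB, eB⟩ := centT_step_two hg1 h1
  have hB0 : pL B (pt 0) = pt 0 := centT_fix_zero hB
  obtain ⟨C, hC, eC⟩ := centT_step_four (g := (pL B)⁻¹ * ((pL A)⁻¹ * g))
    (mul_mem (inv_mem (centT_lists B (by simp [hB])).2.1) hg1)
    (by show (pL B).symm (((pL A)⁻¹ * g) (pt 0)) = pt 0
        rw [h1]; conv_lhs => rw [← hB0, Equiv.symm_apply_apply])
    (by show (pL B).symm (((pL A)⁻¹ * g) (pt 2)) = pt 2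
        rw [eB, Equiv.symm_apply_apply])
  exact ⟨A, hA, B, hB, C, hC, by rw [← eC]; group⟩

theorem centT_transitive (i : ℕ) (hi : i < 24) : ∃ g ∈ centT, g (pt 0) = pt i := by
  have : i ∈ centW.map (getR · 0) := by rw [centT_data.2.1]; exact List.mem_range.2 hi
  obtain ⟨L, hL, e⟩ := List.mem_map.1 this
  exact ⟨_, (centT_lists L (by simp [hL])).2.1, by rw [pL_pt (centT_lists L (by simp [hL])).1 (by omega), ← getR_eq, e]⟩

theorem centT_fixes_sextet {g : Equiv.Perm GolayPt} (hg : g ∈ centT) : g • sexTbl.el 965 = sexTbl.el 965 := by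
  obtain ⟨A, hA, B, hB, C, hC, rfl⟩ := centT_decomp hg
  rw [mul_smul, mul_smul, (centT_lists C (by simp [hC])).2.2, (centT_lists B (by simp [hB])).2.2,
    (centT_lists A (by simp [hA])).2.2]

theorem card_centT : Nat.card centT = 7680 := by
  have c0 := card_inf_stabilizer_mul centT (pt 0)
  have c2 := card_inf_stabilizer_mul (centT ⊓ MulAction.stabilizer (Equiv.Perm GolayPt) (pt 0)) (pt 2)
  have hfour : Nat.card ↥(centT ⊓ MulAction.stabilizer (Equiv.Perm GolayPt) (pt 0) ⊓
      MulAction.stabilizer (Equiv.Perm GolayPt) (pt 2)) = 16 := by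
    rw [card_eq_length (l := centFour) (fun L hL => (centT_lists L (by simp [hL])).1) centT_data.2.2.2.2.2.1]
    · exact centT_data.2.2.2.2.2.2.1
    · intro g
      constructor
      · rintro ⟨⟨hg, h0⟩, h2⟩
        exact centT_step_four hg h0 h2
      · rintro ⟨L, hL, rfl⟩
        have := allB_iff.1 centT_data.2.2.2.2.1 L hL
        simp only [Bool.and_eq_true] at this
        have hv := (centT_lists L (by simp [hL])).1
        refine ⟨⟨(centT_lists L (by simp [hL])).2.1, ?_⟩, ?_⟩
        · show pL L (pt 0) = pt 0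
          rw [pL_pt hv (by omega), ← getR_eq, Nat.eq_of_beq_eq_true this.1]
        · show pL L (pt 2) = pt 2
          rw [pL_pt hv (by omega), ← getR_eq, Nat.eq_of_beq_eq_true this.2]
  have o2 : (MulAction.orbit ↥(centT ⊓ MulAction.stabilizer (Equiv.Perm GolayPt) (pt 0)) (pt 2)).ncard = 20 := by
    rw [orbit_ncard_eq (l := centV.map (getR · 2))]
    · rw [centT_data.2.2.2.1]; rfl
    · rw [centT_data.2.2.2.1]; decide
    · rw [centT_data.2.2.2.1]; decide
    · rintro g ⟨hg, h0⟩
      obtain ⟨L, hL, e⟩ := centT_step_two hg h0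
      exact ⟨_, List.mem_map_of_mem hL, by rw [e, pL_pt (centT_lists L (by simp [hL])).1 (by omega), getR_eq]⟩
    · intro a ha
      obtain ⟨L, hL, rfl⟩ := List.mem_map.1 ha
      exact ⟨_, ⟨(centT_lists L (by simp [hL])).2.1, centT_fix_zero hL⟩,
        by rw [pL_pt (centT_lists L (by simp [hL])).1 (by omega), getR_eq]⟩
  have o0 : (MulAction.orbit ↥centT (pt 0)).ncard = 24 := by
    rw [orbit_ncard_eq (l := List.range 24) (fun a ha => List.mem_range.1 ha) List.nodup_range, List.length_range]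
    · intro g _
      obtain ⟨a, ha, e⟩ := exists_pt (g (pt 0))
      exact ⟨a, List.mem_range.2 ha, e.symm⟩
    · exact fun a ha => centT_transitive a (List.mem_range.1 ha)
  rw [hfour, o2] at c2
  rw [← c2, o0] at c0
  omega

end CfsgLib.M24Cert
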