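import Cfsg.Agent.Lib.M24Cert.Single
import Cfsg.Agent.Lib.M24Cert.StructData
import Cfsg.Agent.Lib.M24Cert.SquareTable

/-!
# The stabiliser of a trio: its action on the three octads and on the seven refining sextets
-/

set_option autoImplicit false

namespace CfsgLib.M24Cert

open Cfsg CfsgLib.Golay

open scoped Pointwise Matrix

/-- The mask list of the sextet with a given vector. -/
def sxL (v : Fin 3 → ZMod 2) : List ℕ :=
  refineSex.getD ((v 0).val + 2 * (v 1).val + 4 * (v 2).val - 1) []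

/-- The sextet with a given vector. -/
def sxEl (v : Fin 3 → ZMod 2) : Finset (Finset GolayPt) := oset (sxL v)

/-- The octads of the standard trio. -/
def triOct (i : Fin 3) : Finset GolayPt := toSet (trioMasks.getD i.val 0)

/-- The positions of the six transvections. -/
def tvPos : Fin 6 → Fin 3 × Fin 3 := ![(0, 1), (0, 2), (1, 0), (1, 2), (2, 0), (2, 1)]

/-- The two swaps. -/
def swPerm : Fin 2 → Equiv.Perm (Fin 3) := ![Equiv.swap 0 1, Equiv.swap 1 2]

/-- The empty table. -/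
def noGen : GenT := ⟨[], 0, 0, 0⟩

/-- All the chosen generators. -/
def trioAllGens : List GenT := trioTransGens ++ trioSwapGens ++ trioSquareGens

theorem trio_basic : triTbl.obj 614 = trioMasks ∧ gensOk trioMasks trioAllGens = true ∧
    sqTableOk trioSquares = true ∧ genEnts trioSquares = trioSquareGens.map GenT.L ∧
    trioMasks.Nodup ∧ trioMasks.length = 3 ∧
    (∀ v : Fin 3 → ZMod 2, v ≠ 0 → strictB (sxL v) = true ∧ allB (fun n => Nat.ble (n + 1) 16777216) (sxL v) = true) ∧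
    (∀ v w : Fin 3 → ZMod 2, v ≠ 0 → w ≠ 0 → sxL v = sxL w → v = w) ∧
    (trioTransGens.length = 6 ∧ trioSwapGens.length = 2) := by
  refine ⟨?_, ?_, ?_, ?_, ?_, ?_, ?_, ?_, ?_⟩ <;> decide +kernel

theorem trio_trans_check : ∀ k : Fin 6,
    (∀ v : Fin 3 → ZMod 2, v ≠ 0 → act (trioTransGens.getD k.val noGen) (sxL v) =
      sxL (Matrix.transvection (tvPos k).1 (tvPos k).2 (1 : ZMod 2) *ᵥ v)) ∧
    ∀ i : Fin 3, (trioTransGens.getD k.val noGen).app (trioMasks.getD i.val 0) = trioMasks.getD i.val 0 := by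
  decide +kernel

theorem trio_swap_check : ∀ k : Fin 2,
    (∀ v : Fin 3 → ZMod 2, v ≠ 0 → act (trioSwapGens.getD k.val noGen) (sxL v) = sxL v) ∧
    ∀ i : Fin 3, (trioSwapGens.getD k.val noGen).app (trioMasks.getD i.val 0) =
      trioMasks.getD (swPerm k i).val 0 := by
  decide +kernel

theorem trio_square_check : ∀ k : Fin 6,
    (∀ v : Fin 3 → ZMod 2, v ≠ 0 → act (trioSquareGens.getD k.val noGen) (sxL v) = sxL v) ∧
    ∀ i : Fin 3, (trioSquareGens.getD k.val noGen).app (trioMasks.getD i.val 0) = trioMasks.getD i.val 0 := by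
  decide +kernel

theorem trioSquareGens_length : trioSquareGens.length = 6 := by decide +kernel

/-- The group generated by the chosen elements. -/
def trioGroup : Subgroup (Equiv.Perm GolayPt) := Subgroup.closure {g | ∃ G ∈ trioAllGens, pL G.L = g}

theorem gen_ok {G : GenT} (hG : G ∈ trioAllGens) : G.ok = true ∧ pL G.L ∈ trioGroup := by
  have h := trio_basic.2.1
  simp only [gensOk, allB_iff, Bool.and_eq_true, GenT.m24] at h
  exact ⟨(h G hG).1.1, Subgroup.subset_closure ⟨G, hG, rfl⟩⟩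

theorem trioGroup_le : trioGroup ≤ stabF (triTbl.el 614) := by
  rw [trioGroup, Subgroup.closure_le]
  rintro _ ⟨G, hG, rfl⟩
  rw [Tbl.el, trio_basic.1]
  exact gensOk_spec (trio_basic.1 ▸ triTbl.small 614) trio_basic.2.1 G hG

/-- The sextets are moved linearly. -/
def LinOn (g : Equiv.Perm GolayPt) (A : GL (Fin 3) (ZMod 2)) : Prop :=
  ∀ v : Fin 3 → ZMod 2, v ≠ 0 → g • sxEl v = sxEl ((A : Matrix (Fin 3) (Fin 3) (ZMod 2)) *ᵥ v)

/-- The octads are permuted. -/
def OctOn (g : Equiv.Perm GolayPt) (π : Equiv.Perm (Fin 3)) : Prop := ∀ i, g • triOct i = triOct (π i)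

theorem gl_mulVec_ne (A : GL (Fin 3) (ZMod 2)) {v : Fin 3 → ZMod 2} (hv : v ≠ 0) :
    (A : Matrix (Fin 3) (Fin 3) (ZMod 2)) *ᵥ v ≠ 0 := fun h => hv (by
  have := congrArg (fun w => ((A⁻¹ : GL (Fin 3) (ZMod 2)) : Matrix (Fin 3) (Fin 3) (ZMod 2)) *ᵥ w) h
  simpa [Matrix.mulVec_mulVec, ← Units.val_mul] using this)

theorem sxEl_inj {v w : Fin 3 → ZMod 2} (hv : v ≠ 0) (hw : w ≠ 0) (h : sxEl v = sxEl w) : v = w := by
  obtain ⟨-, -, -, -, -, -, hok, hinj, -⟩ := trio_basic
  have hs : ∀ {u}, u ≠ 0 → Small (sxL u) := fun {u} hu n hn => by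
    have := allB_iff.1 (hok u hu).2 n hn
    rw [Nat.ble_eq] at this
    norm_num; omega
  exact hinj v w hv hw (oset_inj (hs hv) (hs hw) (hok v hv).1 (hok w hw).1 h)

theorem triOct_injective : Function.Injective triOct := by
  intro i j h
  have hlt : ∀ i : Fin 3, trioMasks.getD i.val 0 < 2 ^ 24 := by decide +kernel
  have h1 := toSet_inj (hlt i) (hlt j) h
  obtain ⟨-, -, -, -, hnd, hlen, -⟩ := trio_basic
  rw [List.getD_eq_getElem _ _ (by omega), List.getD_eq_getElem _ _ (by omega)] at h1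
  exact Fin.ext ((hnd.getElem_inj_iff (hi := by omega) (hj := by omega)).1 h1)

theorem linOn_unique {g : Equiv.Perm GolayPt} {A B : GL (Fin 3) (ZMod 2)} (hA : LinOn g A) (hB : LinOn g B) :
    A = B := by
  refine Units.ext (Matrix.toLin'.injective (LinearMap.ext fun v => ?_))
  rw [Matrix.toLin'_apply, Matrix.toLin'_apply]
  by_cases hv : v = 0
  · simp [hv]
  · exact sxEl_inj (gl_mulVec_ne A hv) (gl_mulVec_ne B hv) ((hA v hv).symm.trans (hB v hv))

theorem octOn_unique {g : Equiv.Perm GolayPt} {a b : Equiv.Perm (Fin 3)} (ha : OctOn g a) (hb : OctOn g b) :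
    a = b :=
  Equiv.ext fun i => triOct_injective ((ha i).symm.trans (hb i))

theorem smul_sxEl {G : GenT} (hG : G.ok = true) {v w : Fin 3 → ZMod 2} (h : act G (sxL v) = sxL w) :
    pL G.L • sxEl v = sxEl w := by
  rw [sxEl, smul_oset hG, h]; rfl

theorem smul_triOct {G : GenT} (hG : G.ok = true) {i j : Fin 3}
    (h : G.app (trioMasks.getD i.val 0) = trioMasks.getD j.val 0) : pL G.L • triOct i = triOct j := by
  rw [triOct, smul_toSet_imgF (GenT.valid hG), ← GenT.app_eq hG, h]; rfl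

theorem trans_gen (k : Fin 6) : trioTransGens.getD k.val noGen ∈ trioAllGens := by
  have := trio_basic.2.2.2.2.2.2.2.2.1
  rw [List.getD_eq_getElem _ _ (by omega)]
  simp [trioAllGens]

theorem swap_gen (k : Fin 2) : trioSwapGens.getD k.val noGen ∈ trioAllGens := by
  have := trio_basic.2.2.2.2.2.2.2.2.2
  rw [List.getD_eq_getElem _ _ (by omega)]
  simp [trioAllGens]

theorem square_gen (k : Fin 6) : trioSquareGens.getD k.val noGen ∈ trioAllGens := by
  have := trioSquareGens_length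
  rw [List.getD_eq_getElem _ _ (by omega)]
  simp [trioAllGens]

/-- The matrix of a transvection as a unit. -/
def tvUnit (i j : Fin 3) (h : i ≠ j) : GL (Fin 3) (ZMod 2) where
  val := Matrix.transvection i j (1 : ZMod 2)
  inv := Matrix.transvection i j (-1 : ZMod 2)
  val_inv := by rw [Matrix.transvection_mul_transvection_same _ _ h, add_neg_cancel, Matrix.transvection_zero]
  inv_val := by rw [Matrix.transvection_mul_transvection_same _ _ h, neg_add_cancel, Matrix.transvection_zero]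

theorem tvPos_ne : ∀ k, (tvPos k).1 ≠ (tvPos k).2 := by decide

theorem trans_on (k : Fin 6) :
    LinOn (pL (trioTransGens.getD k.val noGen).L) (tvUnit _ _ (tvPos_ne k)) ∧
      OctOn (pL (trioTransGens.getD k.val noGen).L) 1 :=
  ⟨fun v hv => smul_sxEl (gen_ok (trans_gen k)).1 ((trio_trans_check k).1 v hv),
    fun i => smul_triOct (gen_ok (trans_gen k)).1 ((trio_trans_check k).2 i)⟩

theorem swap_on (k : Fin 2) :
    LinOn (pL (trioSwapGens.getD k.val noGen).L) 1 ∧ OctOn (pL (trioSwapGens.getD k.val noGen).L) (swPerm k) :=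
  ⟨fun v hv => by rw [smul_sxEl (gen_ok (swap_gen k)).1 ((trio_swap_check k).1 v hv)]; simp,
    fun i => smul_triOct (gen_ok (swap_gen k)).1 ((trio_swap_check k).2 i)⟩

theorem square_on (k : Fin 6) :
    LinOn (pL (trioSquareGens.getD k.val noGen).L) 1 ∧ OctOn (pL (trioSquareGens.getD k.val noGen).L) 1 :=
  ⟨fun v hv => by rw [smul_sxEl (gen_ok (square_gen k)).1 ((trio_square_check k).1 v hv)]; simp,
    fun i => smul_triOct (gen_ok (square_gen k)).1 ((trio_square_check k).2 i)⟩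

theorem exists_on {g : Equiv.Perm GolayPt} (hg : g ∈ trioGroup) :
    ∃ p : GL (Fin 3) (ZMod 2) × Equiv.Perm (Fin 3), LinOn g p.1 ∧ OctOn g p.2 := by
  induction hg using Subgroup.closure_induction with
  | mem x hx =>
    obtain ⟨G, hG, rfl⟩ := hx
    simp only [trioAllGens, List.mem_append] at hG
    rcases hG with (hG | hG) | hG <;> obtain ⟨k, hk, rfl⟩ := List.mem_iff_getElem.1 hG
    · have hk6 : k < 6 := trio_basic.2.2.2.2.2.2.2.2.1 ▸ hk
      refine ⟨(tvUnit _ _ (tvPos_ne ⟨k, hk6⟩), 1), ?_⟩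
      rw [← List.getD_eq_getElem _ noGen hk]
      exact trans_on ⟨k, hk6⟩
    · have hk2 : k < 2 := trio_basic.2.2.2.2.2.2.2.2.2 ▸ hk
      refine ⟨(1, swPerm ⟨k, hk2⟩), ?_⟩
      rw [← List.getD_eq_getElem _ noGen hk]
      exact swap_on ⟨k, hk2⟩
    · refine ⟨(1, 1), ?_⟩
      rw [← List.getD_eq_getElem _ noGen hk]
      exact square_on ⟨k, trioSquareGens_length ▸ hk⟩
  | one => exact ⟨(1, 1), fun v _ => by simp, fun i => by simp⟩
  | mul x y _ _ hx hy =>
    obtain ⟨⟨A, a⟩, hA, ha⟩ := hx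
    obtain ⟨⟨B, b⟩, hB, hb⟩ := hy
    refine ⟨(A * B, a * b), fun v hv => ?_, fun i => by rw [mul_smul, hb, ha]; rfl⟩
    rw [mul_smul, hB v hv, hA _ (gl_mulVec_ne B hv), Matrix.mulVec_mulVec, Units.val_mul]
  | inv x _ hx =>
    obtain ⟨⟨A, a⟩, hA, ha⟩ := hx
    refine ⟨(A⁻¹, a⁻¹), fun v hv => ?_, fun i => ?_⟩
    · rw [inv_smul_eq_iff, hA _ (gl_mulVec_ne A⁻¹ hv), Matrix.mulVec_mulVec, ← Units.val_mul, mul_inv_cancel,
        Units.val_one, Matrix.one_mulVec]
    · rw [inv_smul_eq_iff, ha, show a (a⁻¹ i) = i from a.apply_symm_apply i]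

/-- The image of an element in `GL(3,2) × S₃`. -/
noncomputable def trioImg (g : ↥trioGroup) : GL (Fin 3) (ZMod 2) × Equiv.Perm (Fin 3) :=
  Classical.choose (exists_on g.2)

theorem trioImg_eq {g : ↥trioGroup} {A : GL (Fin 3) (ZMod 2)} {π : Equiv.Perm (Fin 3)} (hA : LinOn g.1 A)
    (hπ : OctOn g.1 π) : trioImg g = (A, π) :=
  Prod.ext (linOn_unique (Classical.choose_spec (exists_on g.2)).1 hA)
    (octOn_unique (Classical.choose_spec (exists_on g.2)).2 hπ)

/-- The homomorphism to `GL(3,2) × S₃`. -/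
noncomputable def trioHom : ↥trioGroup →* GL (Fin 3) (ZMod 2) × Equiv.Perm (Fin 3) where
  toFun := trioImg
  map_one' := trioImg_eq (fun v _ => by simp) fun i => by simp
  map_mul' x y := by
    obtain ⟨hA, ha⟩ := Classical.choose_spec (exists_on x.2)
    obtain ⟨hB, hb⟩ := Classical.choose_spec (exists_on y.2)
    refine trioImg_eq (fun v hv => ?_) fun i => ?_
    · show (x.1 * y.1) • sxEl v = _
      rw [mul_smul, hB v hv, hA _ (gl_mulVec_ne _ hv), Matrix.mulVec_mulVec]
      rfl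
    · show (x.1 * y.1) • triOct i = _
      rw [mul_smul, hb, ha]
      rfl

theorem trioHom_surjective : Function.Surjective trioHom := by
  rw [← MonoidHom.range_eq_top, eq_top_iff]
  rintro ⟨A, π⟩ -
  have hA : ∀ A : GL (Fin 3) (ZMod 2), (A, (1 : Equiv.Perm (Fin 3))) ∈ trioHom.range := by
    intro A
    have hdet : (A : Matrix (Fin 3) (Fin 3) (ZMod 2)).det ≠ 0 :=
      (Matrix.isUnit_iff_isUnit_det _ |>.1 A.isUnit).ne_zero
    obtain ⟨g, hg, hgr⟩ := Matrix.diagonal_transvection_induction_of_det_ne_zero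
      (fun M => ∃ g : GL (Fin 3) (ZMod 2), (g : Matrix (Fin 3) (Fin 3) (ZMod 2)) = M ∧
        (g, (1 : Equiv.Perm (Fin 3))) ∈ trioHom.range) _ hdet
      (fun D hD => ⟨1, by
        rw [Matrix.det_diagonal, Finset.prod_ne_zero_iff] at hD
        rw [Units.val_one, ← Matrix.diagonal_one]
        congr 1
        funext i
        exact ((by decide : ∀ a : ZMod 2, a ≠ 0 → a = 1) _ (hD i (Finset.mem_univ i))).symm, one_mem _⟩)
      (fun t => by
        rcases (by decide : ∀ a : ZMod 2, a = 0 ∨ a = 1) t.c with hc | hc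
        · exact ⟨1, by simp [Matrix.TransvectionStruct.toMatrix, hc], one_mem _⟩
        · obtain ⟨k, hk⟩ := (by decide : ∀ i j : Fin 3, i ≠ j → ∃ k, tvPos k = (i, j)) t.i t.j t.hij
          refine ⟨tvUnit _ _ (tvPos_ne k), ?_, ⟨⟨_, (gen_ok (trans_gen k)).2⟩, ?_⟩⟩
          · show Matrix.transvection (tvPos k).1 (tvPos k).2 (1 : ZMod 2) = t.toMatrix
            rw [hk, Matrix.TransvectionStruct.toMatrix, hc]
          · exact trioImg_eq (trans_on k).1 (trans_on k).2)
      (fun B C _ _ ⟨b, hb, hbr⟩ ⟨c, hc, hcr⟩ => ⟨b * c, by rw [Units.val_mul, hb, hc], by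
        simpa using mul_mem hbr hcr⟩)
    rwa [Units.ext hg] at hgr
  have hπ : ∀ π : Equiv.Perm (Fin 3), ((1 : GL (Fin 3) (ZMod 2)), π) ∈ trioHom.range := by
    intro π
    let R : Subgroup (Equiv.Perm (Fin 3)) :=
      trioHom.range.comap (MonoidHom.inr (GL (Fin 3) (ZMod 2)) (Equiv.Perm (Fin 3)))
    have hsw : ∀ j : Fin 2, Equiv.swap j.castSucc j.succ ∈ R := by
      intro j
      refine ⟨⟨_, (gen_ok (swap_gen j)).2⟩, ?_⟩
      have e : Equiv.swap j.castSucc j.succ = swPerm j := by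
        revert j; decide
      rw [e]
      exact trioImg_eq (swap_on j).1 (swap_on j).2
    have hx : π ∈ Submonoid.closure (Set.range fun i : Fin 2 => Equiv.swap i.castSucc i.succ) := by
      rw [Equiv.Perm.mclosure_swap_castSucc_succ]; trivial
    exact (Submonoid.closure_le (S := R.toSubmonoid)).2 (by rintro _ ⟨j, rfl⟩; exact hsw j) hx
  simpa using mul_mem (hA A) (hπ π)

theorem card_target : Nat.card (GL (Fin 3) (ZMod 2) × Equiv.Perm (Fin 3)) = 1008 := by
  rw [Nat.card_prod, Matrix.card_GL_field, Nat.card_perm, Nat.card_eq_fintype_card (α := Fin 3)]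
  decide

theorem card_stab_trio {T : Finset (Finset GolayPt)} (hT : T ∈ trios) :
    Nat.card ↥(MulAction.stabilizer M24 T) = 64512 := by
  have h := (MulAction.stabilizer M24 T).card_mul_index
  rw [MulAction.index_stabilizer, orbit_group triTbl_closed (X₀ := triTbl.el 614)
    (fun Y hY => trios_transitive (trios_eq ▸ hY)) (trios_eq ▸ hT), Tbl.ncard_range triTbl_sorted, card_M24] at h
  rw [show triTbl.N = 3795 from rfl] at h
  omega

theorem card_stabF_trio : Nat.card ↥(stabF (triTbl.el 614)) = 64512 := by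
  rw [← card_stab_trio (triTbl_mem 614 (by decide))]
  refine Nat.card_congr ⟨fun g => ⟨⟨g.1, (mem_stabF.1 g.2).1⟩, (mem_stabF.1 g.2).2⟩,
    fun g => ⟨g.1.1, mem_stabF.2 ⟨g.1.2, g.2⟩⟩, fun g => rfl, fun g => rfl⟩

theorem trioGroup_facts : trioGroup = stabF (triTbl.el 614) ∧ Nat.card ↥trioHom.ker = 64 ∧
    ∀ x ∈ trioHom.ker, x * x = 1 := by
  obtain ⟨hmem, hcard, hsq⟩ := sqGroup_spec trio_basic.2.2.1
  have hsub : sqGroup trioSquares ≤ trioGroup := sqGroup_le _ fun L hL => by
    rw [trio_basic.2.2.2.1] at hL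
    obtain ⟨G, hG, rfl⟩ := List.mem_map.1 hL
    exact (gen_ok (by simp [trioAllGens, hG])).2
  have hker : (sqGroup trioSquares).subgroupOf trioGroup ≤ trioHom.ker := by
    have hle : sqGroup trioSquares ≤ trioHom.ker.map trioGroup.subtype := sqGroup_le _ fun L hL => by
      rw [trio_basic.2.2.2.1] at hL
      obtain ⟨G, hG, rfl⟩ := List.mem_map.1 hL
      obtain ⟨k, hk, rfl⟩ := List.mem_iff_getElem.1 hG
      refine ⟨⟨_, (gen_ok (List.mem_append_right _ (List.getElem_mem hk))).2⟩, ?_, rfl⟩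
      have := square_on ⟨k, trioSquareGens_length ▸ hk⟩
      rw [List.getD_eq_getElem _ _ hk] at this
      exact trioImg_eq this.1 this.2
    intro x hx
    obtain ⟨y, hy, e⟩ := hle hx
    rwa [← Subtype.ext e]
  have h64 : 64 ≤ Nat.card ↥trioHom.ker := by
    rw [← hcard, ← Nat.card_congr (Subgroup.subgroupOfEquivOfLe hsub).toEquiv]
    exact Subgroup.card_le_of_le hker
  have hcount := trioHom.ker.card_mul_index
  rw [Subgroup.index_ker, MonoidHom.range_eq_top_of_surjective _ trioHom_surjective, Subgroup.card_top, card_target] at hcount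
  have hup := Subgroup.card_le_of_le trioGroup_le
  rw [card_stabF_trio] at hup
  have arith : ∀ a b : ℕ, 64 ≤ a → a * 1008 = b → b ≤ 64512 → a = 64 ∧ 64512 ≤ b := by
    intro a b h1 h2 h3; omega
  obtain ⟨hk, hge⟩ := arith _ _ h64 hcount hup
  refine ⟨Subgroup.eq_of_le_of_card_ge trioGroup_le (le_of_eq_of_le card_stabF_trio hge), hk, fun x hx => ?_⟩
  have heq : (sqGroup trioSquares).subgroupOf trioGroup = trioHom.ker :=
    Subgroup.eq_of_le_of_card_ge hker (by rw [hk, Nat.card_congr (Subgroup.subgroupOfEquivOfLe hsub).toEquiv, hcard])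
  rw [← heq, Subgroup.mem_subgroupOf] at hx
  exact Subtype.ext (hsq _ hx)

end CfsgLib.M24Cert
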