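import Cfsg.Agent.Lib.M24Cert.Fast

/-!
# Running through the cosets of point stabilisers, elements as functions on numbers
-/

set_option autoImplicit false

namespace CfsgLib.M24Cert

open Cfsg CfsgLib.Golay

open scoped Pointwise

/-- A predicate on all products below a chain, as functions on numbers. -/
noncomputable def enumAll (P : (ℕ → ℕ) → Bool) (ls : List Level) : (ℕ → ℕ) → Bool :=
  List.rec (motive := fun _ => (ℕ → ℕ) → Bool) (fun f => P f)
    (fun l _ ih f => allB (fun r => ih fun i => f (getR r i)) l.reps) ls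

theorem enumAll_spec {P : (ℕ → ℕ) → Bool} : ∀ {fixed : List ℕ} {ls : List Level} {f : ℕ → ℕ},
    chainOk 24 fixed ls = true → RepsMem ptEquiv M24 ls → enumAll P ls f = true →
    ∀ L ∈ chainEnum ls, ∃ h : ℕ → ℕ, P h = true ∧ ∀ i < 24, h i = f (getR L i)
  | _, [], f, _, _, hP, L, hL => by
    rw [chainEnum, List.mem_singleton] at hL
    subst hL
    refine ⟨f, hP, fun i hi => ?_⟩
    rw [getR_eq, List.getD_eq_getElem _ _ (by simpa using hi), List.getElem_range]
  | fixed, l :: ls, f, hok, hmem, hP, L, hL => by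
    obtain ⟨-, -, -, -, hrec⟩ := level_facts ptEquiv M24 hok hmem
    have hrec' := fun m (hm : m ∈ ls) => hmem m (List.mem_cons_of_mem _ hm)
    obtain ⟨r, hr, hL⟩ := List.mem_flatMap.1 hL
    obtain ⟨L', hL', rfl⟩ := List.mem_map.1 hL
    have hP' : allB (fun r => enumAll P ls fun i => f (getR r i)) l.reps = true := hP
    obtain ⟨h, h1, h2⟩ := enumAll_spec hrec hrec' (allB_iff.1 hP' r hr) L' hL'
    refine ⟨h, h1, fun i hi => ?_⟩
    have hlen : i < L'.length := by rw [(validL_iff.1 (chainEnum_mem M24 hrec hrec' L' hL').1).1]; exact hi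
    rw [h2 i hi]
    congr 1
    rw [getR_eq r, getR_eq L', getR_eq, compL]
    simp [List.getD_eq_getElem?_getD, hlen]

/-- A check on the coset of a point stabiliser through a list of images. -/
noncomputable def cosetAll (P : (ℕ → ℕ) → Bool) (k : ℕ) (A : List ℕ) : Bool :=
  enumAll P (m24ChainLevels.drop k) fun i => getR A i

/-- A function on numbers describes a permutation of the points. -/
def Desc (g : Equiv.Perm GolayPt) (h : ℕ → ℕ) : Prop := ∀ i < 24, h i < 24 ∧ g (pt i) = pt (h i)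

theorem coset_spec {P : (ℕ → ℕ) → Bool} {k : ℕ} {fixed A : List ℕ}
    (hf : (m24ChainLevels.take k).map (·.base) = fixed) (hok : chainOk 24 fixed (m24ChainLevels.drop k) = true)
    (hA : m24Test A = true) (hP : cosetAll P k A = true) {g : Equiv.Perm GolayPt} (hg : g ∈ M24)
    (hfix : ∀ i ∈ fixed, i < 24 ∧ g (pt i) = pt (getR A i)) :
    ∃ h : ℕ → ℕ, P h = true ∧ Desc g h := by
  have hAv := valid_of_m24Test hA
  obtain ⟨L, hL, hLv, e⟩ := mem_fixList hf hok (mul_mem (inv_mem (mem_M24_of_test hA)) hg) fun i hi => by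
    obtain ⟨hi24, hgi⟩ := hfix i hi
    show (permOf ptEquiv A)⁻¹ (g (pt i)) = pt i
    rw [hgi, getR_eq, ← pL_pt hAv hi24]
    simp
  obtain ⟨h, h1, h2⟩ := enumAll_spec hok (m24Chain_drop_reps k) hP L hL
  have hg' : g = pL A * pL L := by rw [← e]; simp
  refine ⟨h, h1, fun i hi => ?_⟩
  rw [h2 i hi, getR_eq, getR_eq, hg', Equiv.Perm.mul_apply, pL_pt hLv hi, pL_pt hAv (validL_getD_lt hLv hi)]
  exact ⟨validL_getD_lt hAv (validL_getD_lt hLv hi), rfl⟩

theorem exists_pt (q : GolayPt) : ∃ i < 24, pt i = q := ⟨_, (ptEquiv q).isLt, pt_ptEquiv q⟩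

theorem pt_inj {i j : ℕ} (hi : i < 24) (hj : j < 24) (e : pt i = pt j) : i = j := by
  rw [← ptEquiv_pt hi, ← ptEquiv_pt hj, e]

theorem Desc.fixed_card {g : Equiv.Perm GolayPt} {h : ℕ → ℕ} (hd : Desc g h) :
    (Finset.univ.filter fun p => g p = p).card = countLt (fun i => Nat.beq (h i) i) 24 := by
  rw [countLt_eq]
  refine (Finset.card_bij (fun i _ => pt i) ?_ ?_ ?_).symm
  · intro i hi
    simp only [Finset.mem_filter, Finset.mem_range] at hi
    simp only [Finset.mem_filter, Finset.mem_univ, true_and]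
    rw [(hd i hi.1).2, Nat.eq_of_beq_eq_true hi.2]
  · intro a ha b hb e
    simp only [Finset.mem_filter, Finset.mem_range] at ha hb
    exact pt_inj ha.1 hb.1 e
  · intro q hq
    obtain ⟨i, hi, rfl⟩ := exists_pt q
    simp only [Finset.mem_filter, Finset.mem_univ, true_and] at hq
    rw [(hd i hi).2] at hq
    refine ⟨i, ?_, rfl⟩
    simp only [Finset.mem_filter, Finset.mem_range, Nat.beq_eq]
    exact ⟨hi, pt_inj (hd i hi).1 hi hq⟩

/-- An iterate. -/
noncomputable def iterN (h : ℕ → ℕ) (n : ℕ) (i : ℕ) : ℕ := Nat.rec (motive := fun _ => ℕ) i (fun _ ih => h ih) n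

theorem Desc.pow {g : Equiv.Perm GolayPt} {h : ℕ → ℕ} (hd : Desc g h) : ∀ n, Desc (g ^ n) (iterN h n)
  | 0 => fun i hi => ⟨hi, by simp [iterN]⟩
  | n + 1 => fun i hi => by
    obtain ⟨h1, h2⟩ := Desc.pow hd n i hi
    refine ⟨(hd _ h1).1, ?_⟩
    rw [pow_succ', Equiv.Perm.mul_apply, h2, (hd _ h1).2]
    rfl

theorem Desc.eq_one {g : Equiv.Perm GolayPt} {h : ℕ → ℕ} (hd : Desc g h) (e : g = 1) :
    allLt (fun i => Nat.beq (h i) i) 24 = true := by
  have key : ∀ n, n ≤ 24 → allLt (fun i => Nat.beq (h i) i) n = true := by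
    intro n
    induction n with
    | zero => exact fun _ => rfl
    | succ n ih =>
      intro hn
      show (Nat.beq (h n) n && allLt _ n) = true
      obtain ⟨h1, h2⟩ := hd n (by omega)
      subst e
      rw [ih (by omega), show h n = n from (pt_inj (show n < 24 by omega) h1 h2).symm, Nat.beq_refl]
      rfl
  exact key 24 le_rfl

/-- The permutation list given is conjugated to the described element by the other one. -/
noncomputable def conjB (h : ℕ → ℕ) (k T : List ℕ) : Bool :=
  allLt (fun i => Nat.beq (getR k (getR T i)) (h (getR k i))) 24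

theorem Desc.conj {g : Equiv.Perm GolayPt} {h : ℕ → ℕ} (hd : Desc g h) {k T : List ℕ} (hk : validL 24 k = true)
    (hT : validL 24 T = true) (hb : conjB h k T = true) : g = pL k * pL T * (pL k)⁻¹ := by
  refine eq_mul_inv_iff_mul_eq.2 (Equiv.ext fun q => ?_)
  obtain ⟨i, hi, rfl⟩ := exists_pt q
  have hb' : getR k (getR T i) = h (getR k i) := Nat.eq_of_beq_eq_true (allLt_spec hb i hi)
  rw [getR_eq, getR_eq, getR_eq] at hb'
  rw [Equiv.Perm.mul_apply, Equiv.Perm.mul_apply, pL_pt hk hi, (hd _ (validL_getD_lt hk hi)).2, pL_pt hT hi,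
    pL_pt hk (validL_getD_lt hT hi), ← hb']

theorem desc_pL {L : List ℕ} (hL : validL 24 L = true) : Desc (pL L) (getR L) := fun i hi => by
  rw [getR_eq]; exact ⟨validL_getD_lt hL hi, pL_pt hL hi⟩

/-- A fast image of a mask. -/
noncomputable def imgR (L : List ℕ) : ℕ → ℕ :=
  List.rec (motive := fun _ => ℕ → ℕ) (fun _ => 0)
    (fun a _ ih n => Nat.lor (cond (Nat.beq (n % 2) 1) (2 ^ a) 0) (ih (n / 2))) L

theorem imgR_eq : ∀ (L : List ℕ) (n : ℕ), imgR L n = imgF L n
  | [], _ => rfl
  | a :: L, n => by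
    show Nat.lor (cond (Nat.beq (n % 2) 1) (2 ^ a) 0) (imgR L (n / 2)) = _
    rw [imgR_eq L, imgF]
    refine congrArg (fun x : ℕ => x ||| imgF L (n / 2)) ?_
    cases h : Nat.beq (n % 2) 1 with
    | true => rw [Nat.eq_of_beq_eq_true h]; rfl
    | false =>
      have hne : n % 2 ≠ 1 := fun e => by rw [e] at h; exact Bool.noConfusion h
      rw [show n % 2 = 0 by omega]; rfl

/-- A fast test that a permutation preserves the code. -/
noncomputable def m24B (L : List ℕ) : Bool := validL 24 L && allB (fun b => inCodeT (imgR L b)) golayBasis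

theorem mem_M24_of_m24B {L : List ℕ} (h : m24B L = true) : validL 24 L = true ∧ pL L ∈ M24 := by
  simp only [m24B, Bool.and_eq_true] at h
  refine ⟨h.1, mem_M24_of_basis _ fun b hb => ?_⟩
  rw [smul_toSet_imgF h.1, ← imgR_eq]
  exact mem_supports.2 ⟨_, mem_golayList_of_inCodeT (allB_iff.1 h.2 b hb), rfl⟩

end CfsgLib.M24Cert
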