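import Cfsg.Agent.Lib.M24Cert.OrbitData
import Cfsg.Agent.Lib.M24Cert.Objects
import Cfsg.Agent.Lib.M24Cert.Enum
import Cfsg.Agent.Lib.Golay.CodeDual
import Cfsg.Agent.Lib.Golay.Dodecad

/-!
# Invariant submodules of binary words on the 24 points
-/

set_option autoImplicit false

namespace CfsgLib.M24Cert

open Cfsg CfsgLib.Golay

open scoped Pointwise symmDiff

/-- The action on words. -/
def actW (g : Equiv.Perm GolayPt) (w : GolayPt → ZMod 2) : GolayPt → ZMod 2 := fun p => w (g.symm p)

/-- The word of a set. -/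
def indW (s : Finset GolayPt) : GolayPt → ZMod 2 := fun p => if p ∈ s then 1 else 0

theorem toWord_eq_indW (n : ℕ) : toWord n = indW (toSet n) := by
  ext p
  simp only [toWord, indW, mem_toSet]

theorem indW_support (w : GolayPt → ZMod 2) : indW (support₂ w) = w := by
  ext p
  simp only [indW, support₂, Finset.mem_filter, Finset.mem_univ, true_and]
  have h : ∀ x : ZMod 2, (if x ≠ 0 then 1 else 0) = x := by decide
  exact h (w p)

theorem support_indW (s : Finset GolayPt) : support₂ (indW s) = s := by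
  ext p
  by_cases h : p ∈ s <;> simp [support₂, indW, h]

theorem actW_indW (g : Equiv.Perm GolayPt) (s : Finset GolayPt) : actW g (indW s) = indW (g • s) := by
  ext p
  have h := Finset.smul_mem_smul_finset_iff (s := s) (b := g.symm p) g
  rw [Equiv.Perm.smul_def, Equiv.apply_symm_apply] at h
  simp only [actW, indW, h]

theorem actW_mul (g h : Equiv.Perm GolayPt) (w : GolayPt → ZMod 2) : actW (g * h) w = actW g (actW h w) := rfl

theorem actW_one (w : GolayPt → ZMod 2) : actW 1 w = w := rfl

theorem actW_add (g : Equiv.Perm GolayPt) (v w : GolayPt → ZMod 2) : actW g (v + w) = actW g v + actW g w := rfl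

theorem actW_sub (g : Equiv.Perm GolayPt) (v w : GolayPt → ZMod 2) : actW g (v - w) = actW g v - actW g w := rfl

theorem actW_code {g : Equiv.Perm GolayPt} (hg : g ∈ M24) {w : GolayPt → ZMod 2} (hw : w ∈ golayCode) :
    actW g w ∈ golayCode := by
  have h : support₂ w ∈ supports (golayCode : Set (GolayPt → ZMod 2)) := ⟨w, hw, rfl⟩
  obtain ⟨v, hv, he⟩ := supports_smul hg h
  rw [← indW_support w, actW_indW, ← he, indW_support]
  exact hv

theorem actW_code_iff {g : Equiv.Perm GolayPt} (hg : g ∈ M24) {w : GolayPt → ZMod 2} :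
    actW g w ∈ golayCode ↔ w ∈ golayCode := by
  refine ⟨fun h => ?_, actW_code hg⟩
  have := actW_code (inv_mem hg) h
  rwa [← actW_mul, inv_mul_cancel, actW_one] at this

/-- The inner product of words. -/
def dotW (v w : GolayPt → ZMod 2) : ZMod 2 := ∑ p, v p * w p

theorem dotW_actW (g : Equiv.Perm GolayPt) (v w : GolayPt → ZMod 2) : dotW (actW g v) (actW g w) = dotW v w :=
  Equiv.sum_comp g.symm fun p => v p * w p

theorem dotW_add_left (u v w : GolayPt → ZMod 2) : dotW (u + v) w = dotW u w + dotW v w := by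
  simp only [dotW, Pi.add_apply, add_mul, Finset.sum_add_distrib]

theorem dotW_add_right (u v w : GolayPt → ZMod 2) : dotW u (v + w) = dotW u v + dotW u w := by
  simp only [dotW, Pi.add_apply, mul_add, Finset.sum_add_distrib]

theorem code_self_orth {v w : GolayPt → ZMod 2} (hv : v ∈ golayCode) (hw : w ∈ golayCode) : dotW v w = 0 := by
  obtain ⟨n, hn, rfl⟩ := mem_golayCode.1 hv
  obtain ⟨m, hm, rfl⟩ := mem_golayCode.1 hw
  rw [dotW, sum_toWord, parity_comm]
  refine orth_span (fun b hb => ?_) _ hn
  rw [parity_comm]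
  exact orth_span (fun c hc => basis_self_orth b hb c hc) m hm

theorem mem_code_of_orth {w : GolayPt → ZMod 2} (h : ∀ b ∈ golayBasis, dotW w (toWord b) = 0) : w ∈ golayCode := by
  obtain ⟨n, hn, hs⟩ := exists_mask (support₂ w)
  have e : toWord n = w := by rw [toWord_eq_indW, hs, indW_support]
  refine mem_golayCode.2 ⟨n, mem_of_orth hn fun b hb => ?_, e⟩
  have := h b hb
  rwa [← e, dotW, sum_toWord] at this

theorem code_le_of_basis {W : Submodule (ZMod 2) (GolayPt → ZMod 2)} (h : ∀ b ∈ golayBasis, toWord b ∈ W) :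
    golayCode ≤ W := by
  intro w hw
  obtain ⟨n, hn, rfl⟩ := mem_golayCode.1 hw
  refine spanList_induction (P := fun n => toWord n ∈ W) (toWord_zero ▸ zero_mem _) ?_ n hn
  intro b hb m hm
  rw [toWord_xor]
  exact add_mem (h b hb) hm

/-- Invariance under the group of the code. -/
def InvW (W : Submodule (ZMod 2) (GolayPt → ZMod 2)) : Prop := ∀ g ∈ M24, ∀ w ∈ W, actW g w ∈ W

theorem code_le_of_octad {W : Submodule (ZMod 2) (GolayPt → ZMod 2)} (hW : InvW W) {o : Finset GolayPt}
    (ho : o ∈ octads) (h : indW o ∈ W) : golayCode ≤ W := by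
  refine code_le_of_basis fun b hb => ?_
  have h8 : ∀ b ∈ golayBasis, bitCount b = 8 := by decide +kernel
  obtain ⟨g, hg, rfl⟩ := octads_transitive ho
  obtain ⟨k, hk, hkb⟩ := octads_transitive (mem_wordsOfWeight.2 ⟨b, mem_spanList_self hb, h8 b hb, rfl⟩ : toSet b ∈ octads)
  have := hW (k * g⁻¹) (mul_mem hk (inv_mem hg)) _ h
  rwa [actW_indW, mul_smul, inv_smul_smul, hkb, ← toWord_eq_indW] at this

theorem module_values : isOctB (5279 ^^^ 10558) = true ∧ isOctB 10558 = true ∧ isOctB 15777 = true ∧
    inCodeT (340831 ^^^ 15777) = true ∧ bc (340831 ^^^ 15777) = 12 ∧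
    allSpan (fun n => !Nat.beq (bc n) 24 || Nat.beq n 16777215) golayBasis 0 = true ∧
    allSpan (fun n => !Nat.beq (bc n) 0 || Nat.beq n 0) golayBasis 0 = true ∧
    allSpan (fun n => !Nat.beq (bc n) 16 || Nat.beq (bc (n ^^^ 16777215)) 8) golayBasis 0 = true := by
  refine ⟨?_, ?_, ?_, ?_, ?_, ?_, ?_, ?_⟩ <;> decide +kernel

theorem one_eq_toWord : (fun _ : GolayPt => (1 : ZMod 2)) = toWord 16777215 := funext fun p => (allOnes_word p).symm

theorem one_mem_code : (fun _ : GolayPt => (1 : ZMod 2)) ∈ golayCode := by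
  rw [one_eq_toWord]
  exact mem_golayCode.2 ⟨_, mem_golayList_of_inCode (by decide +kernel), rfl⟩

theorem word_cases {w : GolayPt → ZMod 2} (hw : w ∈ golayCode) :
    w = 0 ∨ (w = fun _ => (1 : ZMod 2)) ∨ (∃ o ∈ octads, w = indW o) ∨
      (∃ o ∈ octads, w = (fun _ => (1 : ZMod 2)) + indW o) ∨ ∃ d ∈ dodecads, w = indW d := by
  obtain ⟨n, hn, rfl⟩ := mem_golayCode.1 hw
  obtain ⟨-, -, -, -, -, h24, h0, h16⟩ := module_values
  rcases golay_weights n hn with h | h | h | h | h
  · have := forall_golayList h0 n hn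
    rw [← bitCount_eq_bc, h] at this
    simp only [Nat.beq_refl, Bool.not_true, Bool.false_or, Nat.beq_eq] at this
    exact Or.inl (by rw [this, toWord_zero])
  · exact Or.inr (Or.inr (Or.inl ⟨toSet n, mem_wordsOfWeight.2 ⟨n, hn, h, rfl⟩, toWord_eq_indW n⟩))
  · exact Or.inr (Or.inr (Or.inr (Or.inr ⟨toSet n, mem_wordsOfWeight.2 ⟨n, hn, h, rfl⟩, toWord_eq_indW n⟩)))
  · have := forall_golayList h16 n hn
    rw [← bitCount_eq_bc, h] at this
    simp only [Nat.beq_refl, Bool.not_true, Bool.false_or, Nat.beq_eq] at this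
    refine Or.inr (Or.inr (Or.inr (Or.inl ⟨toSet (n ^^^ 16777215), mem_wordsOfWeight.2
      ⟨_, xor_mem_spanList hn (mem_golayList_of_inCode (by decide +kernel)), by rw [bitCount_eq_bc]; exact this, rfl⟩, ?_⟩)))
    rw [← toWord_eq_indW, one_eq_toWord, ← toWord_xor, Nat.xor_comm n, ← Nat.xor_assoc, Nat.xor_self, Nat.zero_xor]
  · have := forall_golayList h24 n hn
    rw [← bitCount_eq_bc, h] at this
    simp only [Nat.beq_refl, Bool.not_true, Bool.false_or, Nat.beq_eq] at this
    exact Or.inr (Or.inl (by rw [this, one_eq_toWord]))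

/-- The line of the constant word. -/
def lineW : Submodule (ZMod 2) (GolayPt → ZMod 2) := Submodule.span (ZMod 2) {fun _ => (1 : ZMod 2)}

theorem inv_code_cases {W : Submodule (ZMod 2) (GolayPt → ZMod 2)} (hW : InvW W) :
    golayCode ≤ W ∨ ∀ w ∈ W, w ∈ golayCode → w = 0 ∨ w = fun _ => (1 : ZMod 2) := by
  by_contra hc
  rw [not_or] at hc
  obtain ⟨hnot, hc⟩ := hc
  refine hc fun w hwW hwC => ?_
  obtain ⟨h1, h2, h3, h4, h5, -⟩ := module_values
  rcases word_cases hwC with h | h | ⟨o, ho, rfl⟩ | ⟨o, ho, rfl⟩ | ⟨d, hd, rfl⟩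
  · exact Or.inl h
  · exact Or.inr h
  · exact absurd (code_le_of_octad hW ho hwW) hnot
  · refine absurd ?_ hnot
    obtain ⟨g, hg, rfl⟩ := octads_transitive ho
    obtain ⟨k, hk, hk'⟩ := octads_transitive (isOctB_spec h2)
    have e0 := hW g⁻¹ (inv_mem hg) _ hwW
    rw [actW_add, actW_indW, inv_smul_smul] at e0
    have e1 := hW k hk _ e0
    rw [actW_add, actW_indW, hk'] at e1
    have e := add_mem e0 e1
    change (fun _ : GolayPt => (1 : ZMod 2)) + indW (toSet baseOctad) + ((fun _ : GolayPt => (1 : ZMod 2)) + indW (toSet 10558)) ∈ W at e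
    rw [add_add_add_comm, ← toWord_eq_indW, ← toWord_eq_indW, ← toWord_xor, CharTwo.add_self_eq_zero, zero_add,
      toWord_eq_indW] at e
    exact code_le_of_octad hW (isOctB_spec h1) e
  · refine absurd ?_ hnot
    obtain ⟨g, hg, rfl⟩ := dodecads_transitive hd
    have hd' : toSet (340831 ^^^ 15777) ∈ dodecads :=
      mem_wordsOfWeight.2 ⟨_, mem_golayList_of_inCodeT h4, by rw [bitCount_eq_bc]; exact h5, rfl⟩
    obtain ⟨k, hk, hk'⟩ := dodecads_transitive hd'
    have e0 := hW g⁻¹ (inv_mem hg) _ hwW
    rw [actW_indW, inv_smul_smul] at e0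
    have e1 := hW k hk _ e0
    rw [actW_indW, hk'] at e1
    have e := add_mem e0 e1
    rw [← toWord_eq_indW, ← toWord_eq_indW, toWord_xor, ← add_assoc, show baseDodecad = 340831 from rfl,
      CharTwo.add_self_eq_zero, zero_add, toWord_eq_indW] at e
    exact code_le_of_octad hW (isOctB_spec h3) e

/-- The words of even weight are reached modulo the code. -/
theorem even_mem_sup {W : Submodule (ZMod 2) (GolayPt → ZMod 2)} (hW : InvW W) (hnot : ¬ W ≤ golayCode)
    {e : GolayPt → ZMod 2} (he : ∑ p, e p = 0) : e ∈ W ⊔ golayCode := by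
  by_contra hne
  obtain ⟨f, hfe, hf⟩ := Submodule.exists_dual_map_eq_bot_of_notMem hne inferInstance
  set v : GolayPt → ZMod 2 := fun p => f (Pi.single p 1) with hv
  have hfv : ∀ x, f x = dotW x v := fun x => by
    conv_lhs => rw [show x = ∑ p, x p • (Pi.single p 1 : GolayPt → ZMod 2) by
      ext q; simp [Finset.sum_apply, Pi.single_apply]]
    simp [dotW, hv]
  let Z : Submodule (ZMod 2) (GolayPt → ZMod 2) :=
    { carrier := {z | ∀ x ∈ W ⊔ golayCode, dotW x z = 0}
      zero_mem' := fun x _ => by simp [dotW]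
      add_mem' := fun {a b} ha hb x hx => by rw [dotW_add_right, ha x hx, hb x hx, add_zero]
      smul_mem' := fun c a ha x hx => by
        show dotW x (c • a) = 0
        have : dotW x (c • a) = c * dotW x a := by
          simp only [dotW, Pi.smul_apply, smul_eq_mul, Finset.mul_sum]
          exact Finset.sum_congr rfl fun p _ => by ring
        rw [this, ha x hx, mul_zero] }
  have hZ : InvW Z := fun g hg z hz x hx => by
    have hx' : actW g⁻¹ x ∈ W ⊔ golayCode := by
      rw [Submodule.mem_sup] at hx ⊢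
      obtain ⟨a, ha, b, hb, rfl⟩ := hx
      exact ⟨_, hW _ (inv_mem hg) a ha, _, actW_code (inv_mem hg) hb, rfl⟩
    rw [← dotW_actW g⁻¹, ← actW_mul, inv_mul_cancel, actW_one]
    exact hz _ hx'
  have hvZ : v ∈ Z := fun x hx => by
    rw [← hfv]
    have : f x ∈ (W ⊔ golayCode).map f := Submodule.mem_map_of_mem hx
    rwa [hf, Submodule.mem_bot] at this
  have hvC : v ∈ golayCode := mem_code_of_orth fun b hb => by
    have h := hvZ (toWord b) (Submodule.mem_sup_right (mem_golayCode.2 ⟨b, mem_spanList_self hb, rfl⟩))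
    rw [dotW] at h ⊢
    rw [← h]
    exact Finset.sum_congr rfl fun p _ => mul_comm _ _
  rcases inv_code_cases hZ with hC | hC
  · refine hnot fun x hx => mem_code_of_orth fun b hb => ?_
    exact hC (mem_golayCode.2 ⟨b, mem_spanList_self hb, rfl⟩) x (Submodule.mem_sup_left hx)
  · refine hfe ?_
    rw [hfv]
    rcases hC v hvZ hvC with h | h <;> rw [h] <;> simp [dotW, he]

theorem indW_pair {a b : GolayPt} (h : a ≠ b) : indW {a, b} = Pi.single a 1 + Pi.single b 1 := by
  ext p
  simp only [indW, Finset.mem_insert, Finset.mem_singleton, Pi.add_apply, Pi.single_apply]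
  rcases eq_or_ne p a with rfl | ha
  · simp [h]
  · rcases eq_or_ne p b with rfl | hb
    · simp [ha]
    · simp [ha, hb]

theorem even_of_pairs {W : Submodule (ZMod 2) (GolayPt → ZMod 2)}
    (h : ∀ a b : GolayPt, a ≠ b → indW {a, b} ∈ W) {e : GolayPt → ZMod 2} (he : ∑ p, e p = 0) : e ∈ W := by
  have key : e = ∑ p, e p • ((Pi.single p 1 : GolayPt → ZMod 2) + Pi.single none 1) := by
    simp only [smul_add, Finset.sum_add_distrib, ← Finset.sum_smul, he, zero_smul, add_zero]
    ext q; simp [Finset.sum_apply, Pi.single_apply]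
  rw [key]
  refine Submodule.sum_mem _ fun p _ => Submodule.smul_mem _ _ ?_
  rcases eq_or_ne p none with rfl | hp
  · rw [CharTwo.add_self_eq_zero]; exact zero_mem _
  · rw [← indW_pair hp]; exact h p none hp

/-- An invariant module outside the code contains all words of even weight. -/
theorem even_le {W : Submodule (ZMod 2) (GolayPt → ZMod 2)} (hW : InvW W) (hnot : ¬ W ≤ golayCode)
    {e : GolayPt → ZMod 2} (he : ∑ p, e p = 0) : e ∈ W := by
  rcases inv_code_cases hW with hC | hC
  · have := even_mem_sup hW hnot he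
    rwa [sup_eq_left.2 hC] at this
  suffices hp : ∀ a b : GolayPt, a ≠ b → indW {a, b} ∈ W ∨ indW {a, b} + (fun _ => (1 : ZMod 2)) ∈ W by
    refine even_of_pairs (fun a b hab => ?_) he
    by_cases hex : ∃ c d : GolayPt, c ≠ d ∧ indW {c, d} ∈ W
    · obtain ⟨c, d, hcd, hW'⟩ := hex
      obtain ⟨g, hg, e0, e1⟩ := M24_map_two hcd hab
      have := hW g hg _ hW'
      rw [actW_indW] at this
      convert this using 2
      simp [Finset.smul_finset_insert, Finset.smul_finset_singleton, Equiv.Perm.smul_def, e0, e1]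
    · obtain ⟨c, -, hc⟩ := Finset.exists_mem_notMem_of_card_lt_card (s := ({a, b} : Finset GolayPt)) (t := Finset.univ)
        (by rw [Finset.card_pair hab]; decide)
      simp only [Finset.mem_insert, Finset.mem_singleton, not_or] at hc
      have h1 := (hp a c (Ne.symm hc.1)).resolve_left fun h => hex ⟨a, c, Ne.symm hc.1, h⟩
      have h2 := (hp c b hc.2).resolve_left fun h => hex ⟨c, b, hc.2, h⟩
      have := add_mem h1 h2
      rw [add_add_add_comm, CharTwo.add_self_eq_zero, add_zero, indW_pair (Ne.symm hc.1), indW_pair hc.2,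
        add_assoc, ← add_assoc (Pi.single c 1), CharTwo.add_self_eq_zero, zero_add, ← indW_pair hab] at this
      exact this
  intro a b hab
  have hpar : ∑ p, indW {a, b} p = 0 := by
    rw [indW_pair hab]; simp [Finset.sum_add_distrib]; decide
  obtain ⟨w, hw, c, hc, hwc⟩ := Submodule.mem_sup.1 (even_mem_sup hW hnot hpar)
  suffices c = 0 ∨ c = fun _ => (1 : ZMod 2) by
    rcases this with rfl | rfl
    · exact Or.inl (by rw [← hwc, add_zero]; exact hw)
    · refine Or.inr ?_
      rw [← hwc, add_assoc, CharTwo.add_self_eq_zero, add_zero]; exact hw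
  have hfix : ∀ g ∈ M24, g a = a → g b = b → actW g c = c := by
    intro g hg ha hb
    have hge : actW g (indW {a, b}) = indW {a, b} := by
      rw [actW_indW]
      congr 1
      simp [Finset.smul_finset_insert, Finset.smul_finset_singleton, Equiv.Perm.smul_def, ha, hb]
    have hsum := congrArg (actW g) hwc
    rw [actW_add, hge, ← hwc] at hsum
    have hd : actW g c + c ∈ W := by
      have e : actW g c + c = actW g w + w := by
        have h2 : (actW g w + actW g c) + (actW g c + w) = (w + c) + (actW g c + w) := by rw [hsum]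
        have h4 : ∀ x y z u : GolayPt → ZMod 2, (x + y) + (y + z) = x + z := fun x y z _ => by
          rw [add_assoc, ← add_assoc y, CharTwo.add_self_eq_zero, zero_add]
        rw [h4 _ _ _ 0] at h2
        rw [h2, add_comm (actW g c) w, ← add_assoc, show (w + c) + w = c by rw [add_comm w c, add_assoc, CharTwo.add_self_eq_zero, add_zero], add_comm]
      rw [e]; exact add_mem (hW g hg w hw) hw
    rcases hC _ hd (add_mem (actW_code hg hc) hc) with h | h
    · have h' := congrArg (· + c) h
      simpa [add_assoc, CharTwo.add_self_eq_zero] using h'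
    · have h' := congrFun h a
      simp only [Pi.add_apply, actW] at h'
      rw [show g.symm a = a from g.injective (by rw [Equiv.apply_symm_apply, ha]), CharTwo.add_self_eq_zero] at h'
      exact absurd h' zero_ne_one
  have hconst : ∀ p q, p ∉ ({a, b} : Finset GolayPt) → q ∉ ({a, b} : Finset GolayPt) → c p = c q := by
    intro p q hp hq
    simp only [Finset.mem_insert, Finset.mem_singleton, not_or] at hp hq
    obtain ⟨g, hg, e0, e1, e2⟩ := M24_map_three hab (Ne.symm hp.1) (Ne.symm hp.2) hab (Ne.symm hq.1) (Ne.symm hq.2)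
    have := congrFun (hfix g hg e0 e1) q
    rwa [actW, show g.symm q = p from g.injective (by rw [Equiv.apply_symm_apply, e2])] at this
  obtain ⟨p, -, hp⟩ := Finset.exists_mem_notMem_of_card_lt_card (s := ({a, b} : Finset GolayPt)) (t := Finset.univ)
    (by rw [Finset.card_pair hab]; decide)
  obtain ⟨n, hn, rfl⟩ := mem_golayCode.1 hc
  have hcard : (toSet n).card ≤ 2 ∨ 22 ≤ (toSet n).card := by
    have hz : ∀ x : ZMod 2, x = 0 ∨ x = 1 := by decide
    have h2 : ({a, b} : Finset GolayPt).card = 2 := Finset.card_pair hab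
    rcases hz (toWord n p) with h | h
    · left
      refine h2 ▸ Finset.card_le_card fun q hq => ?_
      by_contra hqn
      have := hconst p q hp hqn
      rw [h, toWord_eq_indW, indW, if_pos hq] at this
      exact zero_ne_one this
    · right
      have hsub : Finset.univ \ ({a, b} : Finset GolayPt) ⊆ toSet n := fun q hq => by
        simp only [Finset.mem_sdiff, Finset.mem_univ, true_and] at hq
        by_contra hqn
        have := hconst p q hp hq
        rw [h, toWord_eq_indW, indW, if_neg hqn] at this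
        exact one_ne_zero this
      have := Finset.card_le_card hsub
      rw [Finset.card_univ_sdiff, h2] at this
      have h24 : Fintype.card GolayPt = 24 := by decide
      omega
  rw [card_toSet] at hcard
  rcases word_cases hc with h | h | ⟨o, ho, h⟩ | ⟨o, ho, h⟩ | ⟨d, hd, h⟩
  · exact Or.inl h
  · exact Or.inr h
  · exfalso
    have : toSet n = o := by rw [← support_indW o, ← h, support_toWord]
    have h8 : (toSet n).card = 8 := this ▸ ho.2
    rw [card_toSet] at h8; omega
  · exfalso
    obtain ⟨m, hm, hm8, hmo⟩ := mem_wordsOfWeight.1 ho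
    have e : toSet n = toSet (16777215 ^^^ m) := by
      rw [← support_toWord, ← support_toWord, toWord_xor, h, ← one_eq_toWord, toWord_eq_indW m, hmo]
    have k16 := forall_golayList (P := fun m => !Nat.beq (bc m) 8 || Nat.beq (bc (16777215 ^^^ m)) 16)
      (by decide +kernel) m hm
    rw [← bitCount_eq_bc, hm8] at k16
    simp only [Nat.beq_refl, Bool.not_true, Bool.false_or, Nat.beq_eq] at k16
    have h16 : bitCount n = 16 := by rw [← card_toSet, e, card_toSet_bc]; exact k16
    omega
  · exfalso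
    have : toSet n = d := by rw [← support_indW d, ← h, support_toWord]
    have h12 : (toSet n).card = 12 := this ▸ hd.2
    rw [card_toSet] at h12; omega

theorem invariant_classification {W : Submodule (ZMod 2) (GolayPt → ZMod 2)} (hW : InvW W) :
    W = ⊥ ∨ W = lineW ∨ W = golayCode ∨ (W : Set (GolayPt → ZMod 2)) = {w | ∑ p, w p = 0} ∨ W = ⊤ := by
  have hz : ∀ x : ZMod 2, x = 0 ∨ x = 1 := by decide
  by_cases hle : W ≤ golayCode
  · rcases inv_code_cases hW with h | h
    · exact Or.inr (Or.inr (Or.inl (le_antisymm hle h)))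
    · by_cases h1 : (fun _ : GolayPt => (1 : ZMod 2)) ∈ W
      · refine Or.inr (Or.inl (le_antisymm (fun w hw => ?_) ((Submodule.span_singleton_le_iff_mem _ _).2 h1)))
        rcases h w hw (hle hw) with rfl | rfl
        · exact zero_mem _
        · exact Submodule.subset_span rfl
      · refine Or.inl ((Submodule.eq_bot_iff W).2 fun w hw => ?_)
        rcases h w hw (hle hw) with h' | rfl
        · exact h'
        · exact absurd hw h1
  · by_cases hodd : ∃ w ∈ W, ∑ p, w p = 1
    · obtain ⟨w, hw, hw1⟩ := hodd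
      refine Or.inr (Or.inr (Or.inr (Or.inr (eq_top_iff.2 fun v _ => ?_))))
      rcases hz (∑ p, v p) with h | h
      · exact even_le hW hle h
      · have := even_le hW hle (e := v + w) (by
          simp [Finset.sum_add_distrib, h, hw1]; decide)
        have := add_mem this hw
        rwa [add_assoc, CharTwo.add_self_eq_zero, add_zero] at this
    · refine Or.inr (Or.inr (Or.inr (Or.inl (Set.ext fun w => ⟨fun hw => ?_, fun h => even_le hW hle h⟩))))
      exact (hz _).resolve_right fun h => hodd ⟨w, hw, h⟩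

/-- A certificate that the differences of the generators on the code span it. -/
noncomputable def spanB (gens : List GenT) (cert : List (List ℕ)) : Bool :=
  allB GenT.m24 gens && allLt (fun j =>
    allB (fun k => Nat.ble (k / 12 + 1) gens.length) (cert.getD j []) &&
    Nat.beq ((cert.getD j []).foldr (fun k acc =>
      Nat.xor (Nat.xor ((gens.getD (k / 12) ⟨[], 0, 0, 0⟩).app (golayBasis.getD (k % 12) 0)) (golayBasis.getD (k % 12) 0)) acc) 0)
      (golayBasis.getD j 0)) 12

theorem spanB_spec {gens : List GenT} {cert : List (List ℕ)} (h : spanB gens cert = true) {w : GolayPt → ZMod 2}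
    (hw : ∀ G ∈ gens, actW (pL G.L) w - w ∈ golayCode) : w ∈ golayCode := by
  simp only [spanB, Bool.and_eq_true, allB_iff] at h
  obtain ⟨hm, hall⟩ := h
  refine mem_code_of_orth fun b hb => ?_
  obtain ⟨j, hj, rfl⟩ := List.mem_iff_getElem.1 hb
  have hlen : golayBasis.length = 12 := by decide
  have hj' := allLt_spec hall j (by omega)
  simp only [Bool.and_eq_true, allB_iff, Nat.ble_eq] at hj'
  rw [← List.getD_eq_getElem _ 0 hj, ← Nat.eq_of_beq_eq_true hj'.2]
  have hks := hj'.1
  generalize cert.getD j [] = l at hks ⊢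
  induction l with
  | nil => simp [dotW, toWord_zero]
  | cons k l ih =>
    rw [List.foldr_cons]
    show dotW w (toWord ((_ ^^^ _) ^^^ _)) = 0
    rw [toWord_xor, toWord_xor, dotW_add_right, dotW_add_right, ih fun x hx => hks x (List.mem_cons_of_mem _ hx)]
    have hk := hks k List.mem_cons_self
    have hkl : k / 12 < gens.length := by omega
    have hkb : k % 12 < golayBasis.length := by rw [hlen]; omega
    rw [List.getD_eq_getElem _ _ hkl, List.getD_eq_getElem _ _ hkb, add_zero]
    set G := gens[k / 12]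
    set c := golayBasis[k % 12]
    have hG := hm G (List.getElem_mem hkl)
    have hok : G.ok = true := by simp only [GenT.m24, Bool.and_eq_true] at hG; exact hG.1
    have hc : toWord c ∈ golayCode := mem_golayCode.2 ⟨c, mem_spanList_self (List.getElem_mem hkb), rfl⟩
    have e : toWord (G.app c) = actW (pL G.L) (toWord c) := by
      rw [toWord_eq_indW, toWord_eq_indW, actW_indW, smul_toSet_imgF (GenT.valid hok), GenT.app_eq hok]
    rw [e]
    have hd := code_self_orth (hw G (List.getElem_mem hkl)) (actW_code (GenT.mem_M24 hG) hc)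
    rw [sub_eq_add_neg, ZModModule.neg_eq_self, dotW_add_left, dotW_actW] at hd
    rw [add_comm]; exact hd

theorem span_certs : spanB stabOctGens [[2, 6, 8, 12, 14], [0, 2, 3, 8, 10, 14], [5, 6, 7, 8, 12, 14],
      [0, 1, 2, 3, 4, 5, 8, 10, 14], [0, 1, 3, 5, 6, 12], [7, 8], [0, 1, 2, 3, 4, 6, 8, 10, 12, 14],
      [1, 2, 3, 4, 6, 12, 14], [1, 2, 3, 4, 6, 7, 8, 10, 12, 14], [0, 1, 3, 4, 5, 6, 10], [5, 8, 10],
      [1, 2, 3, 4, 5, 6, 12, 14]] = true ∧
    spanB stabDodGens [[1, 6, 7, 9, 13], [3, 5, 7, 9, 12], [2, 4, 6, 7, 9, 13], [1, 2, 8, 12, 13],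
      [2, 3, 5, 7, 8, 9, 13], [1, 2, 5, 8], [1, 2, 4, 8, 12, 13], [1, 3, 5, 6, 12], [4, 6, 12, 13],
      [2, 4, 6, 7, 8, 12], [0, 1, 2, 8, 12, 13], [1, 2, 6, 8, 12, 13]] = true ∧
    allB (fun G => Nat.beq (G.app 5279) 5279) stabOctGens = true ∧
    allB (fun G => Nat.beq (G.app 340831) 340831) stabDodGens = true := by
  refine ⟨?_, ?_, ?_, ?_⟩ <;> decide +kernel

/-- The stabiliser of a code word fixes no class outside the code. -/
theorem stab_word_moves {u : GolayPt → ZMod 2} (hu : u ∈ golayCode) {w : GolayPt → ZMod 2} (hw : w ∉ golayCode) :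
    ∃ σ ∈ M24, actW σ u = u ∧ actW σ w - w ∉ golayCode := by
  obtain ⟨hs, hd, hso, hdo⟩ := span_certs
  obtain ⟨gens, cert, hcert, g, hg, hfix⟩ : ∃ (gens : List GenT) (cert : List (List ℕ)), spanB gens cert = true ∧
      ∃ g ∈ M24, ∀ G ∈ gens, actW (pL G.L) (actW g⁻¹ u) = actW g⁻¹ u := by
    have fixed : ∀ {gens : List GenT} {n : ℕ}, allB GenT.m24 gens = true →
        allB (fun G => Nat.beq (G.app n) n) gens = true → ∀ G ∈ gens, actW (pL G.L) (indW (toSet n)) = indW (toSet n) := by
      intro gens n hm hf G hG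
      have hG' := allB_iff.1 hm G hG
      have hok : G.ok = true := by simp only [GenT.m24, Bool.and_eq_true] at hG'; exact hG'.1
      rw [actW_indW, smul_toSet_imgF (GenT.valid hok), ← GenT.app_eq hok, Nat.eq_of_beq_eq_true (allB_iff.1 hf G hG)]
    have hms : allB GenT.m24 stabOctGens = true := by simp only [spanB, Bool.and_eq_true] at hs; exact hs.1
    have hmd : allB GenT.m24 stabDodGens = true := by simp only [spanB, Bool.and_eq_true] at hd; exact hd.1
    rcases word_cases hu with rfl | rfl | ⟨o, ho, rfl⟩ | ⟨o, ho, rfl⟩ | ⟨d, hdd, rfl⟩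
    · exact ⟨_, _, hs, 1, one_mem _, fun G _ => rfl⟩
    · exact ⟨_, _, hs, 1, one_mem _, fun G _ => rfl⟩
    · obtain ⟨g, hg, rfl⟩ := octads_transitive ho
      refine ⟨_, _, hs, g, hg, fun G hG => ?_⟩
      rw [actW_indW g⁻¹, inv_smul_smul]
      exact fixed hms hso G hG
    · obtain ⟨g, hg, rfl⟩ := octads_transitive ho
      refine ⟨_, _, hs, g, hg, fun G hG => ?_⟩
      rw [actW_add g⁻¹, actW_indW g⁻¹, inv_smul_smul, actW_add]
      exact congrArg₂ (· + ·) rfl (fixed hms hso G hG)
    · obtain ⟨g, hg, rfl⟩ := dodecads_transitive hdd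
      refine ⟨_, _, hd, g, hg, fun G hG => ?_⟩
      rw [actW_indW g⁻¹, inv_smul_smul]
      exact fixed hmd hdo G hG
  by_contra hc
  have hm : allB GenT.m24 gens = true := by simp only [spanB, Bool.and_eq_true] at hcert; exact hcert.1
  refine hw ((actW_code_iff (inv_mem hg)).1 (spanB_spec hcert fun G hG => ?_))
  by_contra hn
  refine hc ⟨g * pL G.L * g⁻¹, mul_mem (mul_mem hg (GenT.mem_M24 (allB_iff.1 hm G hG))) (inv_mem hg), ?_, fun hmem => hn ?_⟩
  · rw [actW_mul, actW_mul, hfix G hG, ← actW_mul, mul_inv_cancel, actW_one]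
  · have := actW_code (inv_mem hg) hmem
    rw [actW_sub, ← actW_mul, ← mul_assoc, ← mul_assoc, inv_mul_cancel, one_mul, actW_mul] at this
    exact this

end CfsgLib.M24Cert
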