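import Cfsg.Agent.Lib.M24Cert.Transport

/-!
# Pairs and triples of points against a fixed pair or triple
-/

set_option autoImplicit false

namespace CfsgLib.M24Cert

open Cfsg CfsgLib.Golay

open scoped Pointwise

/-- The octads through the first three points. -/
def octsThree : List ℕ := [5279, 45159, 140167, 459847, 551943, 622863, 786999, 1065303, 1116327, 2183687, 2263063,
  3416079, 4196943, 4505735, 5902343, 6292775, 8536111, 8657159, 9471495, 11010247, 12656663]

/-- The octads through the first four points. -/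
def octsFour : List ℕ := [5279, 622863, 3416079, 4196943, 8536111]

/-- Some listed octad contains the points of the mask. -/
noncomputable def inSome (L : List ℕ) (x : ℕ) : Bool := anyB (fun o => Nat.beq (Nat.land o x) x) L

theorem octsThree_ok : allB isOctB octsThree = true ∧
    allLt (fun i => !Nat.beq (Nat.land (one octTbl i) 7) 7 || memB (one octTbl i) octsThree) octTbl.N = true := by
  refine ⟨?_, ?_⟩ <;> decide +kernel

theorem octsFour_ok : allB isOctB octsFour = true ∧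
    allLt (fun i => !Nat.beq (Nat.land (one octTbl i) 15) 15 || memB (one octTbl i) octsFour) octTbl.N = true := by
  refine ⟨?_, ?_⟩ <;> decide +kernel

theorem toSet_subset_iff {x o : ℕ} (hx : x < 2 ^ 24) : toSet x ⊆ toSet o ↔ o &&& x = x := by
  rw [← Finset.inter_eq_right, ← toSet_and]
  exact ⟨fun h => toSet_inj (lt_of_le_of_lt Nat.and_le_right hx) hx h, fun h => by rw [h]⟩

theorem inSome_iff {L : List ℕ} {m : ℕ} (hL : allB isOctB L = true ∧
    allLt (fun i => !Nat.beq (Nat.land (one octTbl i) m) m || memB (one octTbl i) L) octTbl.N = true)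
    (hm : m < 2 ^ 24) {n : ℕ} (hn : n < 2 ^ 24) :
    (∃ o ∈ octads, toSet m ∪ toSet n ⊆ o) ↔ inSome L (m ||| n) = true := by
  rw [inSome, anyB_iff]
  constructor
  · rintro ⟨o, ho, hsub⟩
    obtain ⟨i, hi, rfl⟩ := octads_complete.index ho
    rw [← toSet_or, toSet_subset_iff (Nat.or_lt_two_pow hm hn)] at hsub
    have h2 : toSet m ⊆ toSet (one octTbl i) := by
      rw [← toSet_subset_iff (Nat.or_lt_two_pow hm hn), toSet_or] at hsub
      exact Finset.subset_union_left.trans hsub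
    rw [toSet_subset_iff hm] at h2
    have := allLt_spec hL.2 i hi
    simp only [Bool.or_eq_true, Bool.not_eq_true', memB_iff] at this
    refine ⟨_, this.resolve_left fun h => ?_, Nat.beq_eq.mpr hsub⟩
    rw [show Nat.land (one octTbl i) m = m from h2, Nat.beq_refl] at h
    exact Bool.noConfusion h
  · rintro ⟨o, ho, h⟩
    refine ⟨toSet o, isOctB_spec (allB_iff.1 hL.1 o ho), ?_⟩
    rw [← toSet_or, toSet_subset_iff (Nat.or_lt_two_pow hm hn)]
    exact Nat.eq_of_beq_eq_true h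

theorem one_lt (t : Tbl) (i : ℕ) (hk : t.k = 1) : one t i < 2 ^ 24 :=
  t.small i _ (by rw [obj_one hk]; exact List.mem_cons_self)

theorem disjoint_mask {m n : ℕ} (hm : m < 2 ^ 24) : Disjoint (toSet m) (toSet n) ↔ bc (Nat.land m n) = 0 := by
  rw [Finset.disjoint_iff_inter_eq_empty, ← Finset.card_eq_zero, card_inter_mask]

theorem triple_forests : fixOk [7] threeOnTriplesGens = true ∧
    classesOk tripTbl threeOnTriplesGens threeOnTriplesAux (fun _ => true)
      (fun n => 2 * bc (Nat.land 7 n) + cond (inSome octsThree (7 ||| n)) 1 0)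
      [(7, 0), (5, 1), (3, 7), (1, 44), (0, 19)] = true ∧
    countLt (fun i => Nat.beq (bc (Nat.land 7 (one tripTbl i))) 0 && inSome octsThree (7 ||| one tripTbl i)) tripTbl.N = 210 ∧
    countLt (fun i => Nat.beq (bc (Nat.land 7 (one tripTbl i))) 0 && !inSome octsThree (7 ||| one tripTbl i)) tripTbl.N = 1120 ∧
    countLt (fun i => Nat.beq (bc (Nat.land 7 (one tripTbl i))) 1) tripTbl.N = 630 ∧
    countLt (fun i => Nat.beq (bc (Nat.land 7 (one tripTbl i))) 2) tripTbl.N = 63 ∧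
    allLt (fun i => Nat.beq (bc (Nat.land 7 (one tripTbl i))) 0 || inSome octsThree (7 ||| one tripTbl i)) tripTbl.N = true ∧
    [0, 1, 7, 19, 44].map (one tripTbl) = [7, 11, 25, 56, 152] := by
  refine ⟨?_, ?_, ?_, ?_, ?_, ?_, ?_, ?_⟩ <;> decide +kernel

theorem pair_forests : fixOk [3] twoOnPairsGens = true ∧
    pairTbl.forestOk twoOnPairsGens twoOnPairsAux (fun i => Nat.beq (bc (Nat.land 3 (one pairTbl i))) 1) [1] = true ∧
    pairTbl.forestOk twoOnPairsGens twoOnPairsAux (fun i => Nat.beq (bc (Nat.land 3 (one pairTbl i))) 0) [5] = true ∧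
    countLt (fun i => Nat.beq (bc (Nat.land 3 (one pairTbl i))) 1) pairTbl.N = 44 ∧
    countLt (fun i => Nat.beq (bc (Nat.land 3 (one pairTbl i))) 0) pairTbl.N = 231 ∧
    [0, 1, 5].map (one pairTbl) = [3, 5, 12] := by
  refine ⟨?_, ?_, ?_, ?_, ?_, ?_⟩ <;> decide +kernel

theorem quad_forest : fixOk [1, 2, 12] quadOnPairsGens = true ∧
    classesOk pairTbl quadOnPairsGens quadOnPairsAux (fun n => Nat.beq (Nat.land n 3) 0)
      (fun n => 2 * bc (Nat.land 12 n) + cond (inSome octsFour (15 ||| n)) 1 0)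
      [(5, 5), (3, 8), (1, 25), (0, 14)] = true ∧
    countLt (fun i => Nat.beq (Nat.land (one pairTbl i) 3) 0 && Nat.beq (bc (Nat.land 12 (one pairTbl i))) 0 &&
      inSome octsFour (15 ||| one pairTbl i)) pairTbl.N = 30 ∧
    countLt (fun i => Nat.beq (Nat.land (one pairTbl i) 3) 0 && Nat.beq (bc (Nat.land 12 (one pairTbl i))) 0 &&
      !inSome octsFour (15 ||| one pairTbl i)) pairTbl.N = 160 := by
  refine ⟨?_, ?_, ?_, ?_⟩ <;> decide +kernel

theorem pair_base_eq : toSet 3 = {pt 0, pt 1} ∧ toSet 12 = {pt 2, pt 3} ∧ toSet 7 = {pt 0, pt 1, pt 2} ∧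
    toSet 15 = {pt 0, pt 1} ∪ toSet 12 ∧ pt 0 ≠ pt 1 ∧ pt 0 ≠ pt 2 ∧ pt 1 ≠ pt 2 ∧
    pt 0 ≠ pt 3 ∧ pt 1 ≠ pt 3 ∧ pt 2 ≠ pt 3 := by
  refine ⟨?_, ?_, ?_, ?_, ?_, ?_, ?_, ?_, ?_, ?_⟩ <;> decide +kernel

theorem pair_map {s : Finset GolayPt} (hs : s.card = 2) : ∃ g ∈ M24, g • toSet 3 = s := by
  obtain ⟨a, b, hab, rfl⟩ := Finset.card_eq_two.1 hs
  obtain ⟨g, hg, ea, eb⟩ := M24_map_two pair_base_eq.2.2.2.2.1 hab
  exact ⟨g, hg, by rw [pair_base_eq.1]; simp [Finset.smul_finset_insert, Finset.smul_finset_singleton,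
    Equiv.Perm.smul_def, ea, eb]⟩

theorem triple_map {s : Finset GolayPt} (hs : s.card = 3) : ∃ g ∈ M24, g • toSet 7 = s := by
  obtain ⟨a, b, c, hab, hac, hbc, rfl⟩ := Finset.card_eq_three.1 hs
  obtain ⟨-, -, e7, -, h01, h02, h12, -⟩ := pair_base_eq
  obtain ⟨g, hg, ea, eb, ec⟩ := M24_map_three h01 h02 h12 hab hac hbc
  exact ⟨g, hg, by rw [e7]; simp [Finset.smul_finset_insert, Finset.smul_finset_singleton,
    Equiv.Perm.smul_def, ea, eb, ec]⟩

theorem card_smul_iff (g : Equiv.Perm GolayPt) (U : Finset GolayPt) (k : ℕ) : (g • U).card = k ↔ U.card = k := by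
  rw [Finset.card_smul_finset]

theorem in_octad_smul {g : Equiv.Perm GolayPt} (hg : g ∈ M24) (A : Finset GolayPt) :
    (∃ o ∈ octads, g • A ⊆ o) ↔ ∃ o ∈ octads, A ⊆ o := by
  constructor
  · rintro ⟨o, ho, h⟩
    refine ⟨g⁻¹ • o, octads_smul (inv_mem hg) ho, ?_⟩
    rw [← inv_smul_smul g A]
    exact Finset.smul_finset_subset_smul_finset h
  · rintro ⟨o, ho, h⟩
    exact ⟨g • o, octads_smul hg ho, Finset.smul_finset_subset_smul_finset h⟩

theorem disjoint_smul (g : Equiv.Perm GolayPt) (A B : Finset GolayPt) : Disjoint (g • A) (g • B) ↔ Disjoint A B := by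
  rw [Finset.disjoint_iff_inter_eq_empty, Finset.disjoint_iff_inter_eq_empty, ← Finset.smul_finset_inter,
    Finset.smul_finset_eq_empty]

end CfsgLib.M24Cert
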