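import Cfsg.Agent.Lib.M24Cert.ClassFacts
import Cfsg.Agent.Lib.M24Cert.SmallSets
import Cfsg.Agent.Lib.Golay.Dodecad

/-!
# The base size of the Mathieu group of degree 24; fixed points in the action of degree 12 of the small one
-/

set_option autoImplicit false

namespace CfsgLib.M24Cert.BaseElusive

open Cfsg CfsgLib.Golay CfsgLib.M24Cert

open scoped Pointwise

theorem exists_fixing (B : Finset GolayPt) (hB : B.card ≤ 6) : ∃ g ∈ M24, g ≠ 1 ∧ ∀ b ∈ B, g b = b := by
  classical
  let f : M24 → (B ↪ GolayPt) := fun g => (Function.Embedding.subtype _).trans g.val.toEmbedding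
  have hlt : Nat.card (B ↪ GolayPt) < Nat.card M24 := by
    rw [Nat.card_eq_fintype_card, Fintype.card_embedding_eq, card_M24, show Fintype.card GolayPt = 24 by decide,
      Fintype.card_coe]
    have : B.card = 0 ∨ B.card = 1 ∨ B.card = 2 ∨ B.card = 3 ∨ B.card = 4 ∨ B.card = 5 ∨ B.card = 6 := by omega
    rcases this with h | h | h | h | h | h | h <;> rw [h] <;> decide
  obtain ⟨g, h, hne, heq⟩ : ∃ g h : M24, g ≠ h ∧ f g = f h := by
    by_contra hno
    push Not at hno
    exact absurd (Nat.card_le_card_of_injective f fun a b hab => by_contra fun hn => hno a b hn hab)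
      (not_le.mpr hlt)
  refine ⟨(h : Equiv.Perm GolayPt)⁻¹ * g, mul_mem (inv_mem h.2) g.2, fun e => hne ?_, fun b hb => ?_⟩
  · exact Subtype.ext (inv_mul_eq_one.mp e).symm
  · have := DFunLike.congr_fun heq ⟨b, hb⟩
    show (h : Equiv.Perm GolayPt)⁻¹ ((g : Equiv.Perm GolayPt) b) = b
    rw [Equiv.Perm.inv_eq_iff_eq]
    exact this

theorem exists_base : ∃ B : Finset GolayPt, B.card = 7 ∧ ∀ g ∈ M24, (∀ b ∈ B, g b = b) → g = 1 := by
  refine ⟨([0, 1, 2, 3, 4, 12, 5].map pt).toFinset, ?_, fun g hg hfix => eq_one_of_base hg fun q hq => ?_⟩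
  · rw [List.toFinset_card_of_nodup, List.length_map]
    · rfl
    · exact List.Nodup.map_on (fun a ha b hb e => pt_inj (by simp at ha; omega) (by simp at hb; omega) e) (by decide)
  · obtain ⟨i, hi, rfl⟩ := exists_pt q
    refine hfix _ (List.mem_toFinset.mpr (List.mem_map_of_mem ?_))
    rwa [ptEquiv_pt hi] at hq

/-- No dodecad fixed by the element contains the points of the mask. -/
noncomputable def noDodB (G : GenT) (F : ℕ) : Bool :=
  Nat.beq (countSpan (fun n => Nat.beq (bc n) 12 && Nat.beq (G.app n) n && Nat.beq (Nat.land n F) F) golayBasis 0) 0 &&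
    decide (F < 2 ^ 24) && allLt (fun i => decide (getR G.L i = i ↔ F.testBit i = true)) 24

theorem checks : noDodB elU (2 ^ 6 + 2 ^ 9 + 2 ^ 11 + 2 ^ 13 + 2 ^ 18 + 2 ^ 20 + 2 ^ 21 + 2 ^ 22) = true ∧
    noDodB elD 287 = true := by
  refine ⟨?_, ?_⟩ <;> decide +kernel

theorem exists_fixed_outside {G : GenT} (hG : G.m24 = true) {F : ℕ} (hF : noDodB G F = true)
    {u : Equiv.Perm GolayPt} (hu : u ∈ M24) {d : Finset GolayPt} (hd : d ∈ dodecads)
    (hfix : (u * pL G.L * u⁻¹) • d = d) : ∃ x, x ∉ d ∧ (u * pL G.L * u⁻¹) x = x := by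
  simp only [noDodB, Bool.and_eq_true, decide_eq_true_eq, Nat.beq_eq] at hF
  obtain ⟨⟨hc, hFlt⟩, hm⟩ := hF
  by_contra hno
  push Not at hno
  have hv := GenT.valid' hG
  have hd' : u⁻¹ • d ∈ dodecads := wordsOfWeight_smul (inv_mem hu) hd
  obtain ⟨n, hn, h12, he⟩ := mem_wordsOfWeight.1 hd'
  have hfix' : pL G.L • toSet n = toSet n := by
    rw [he]
    rw [mul_smul, mul_smul] at hfix
    exact eq_inv_smul_iff.2 hfix
  rw [smul_toSet_imgF hv.2, ← GenT.app_eq hv.1] at hfix'
  have happ : G.app n = n :=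
    toSet_inj (by rw [GenT.app_eq hv.1]; exact imgF_lt hv.2 n) (golayList_lt n hn) hfix'
  have hsub : toSet F ⊆ toSet n := by
    intro q hq
    obtain ⟨i, hi, rfl⟩ := exists_pt q
    rw [pt_mem_toSet hi] at hq
    have h1 : getR G.L i = i := (of_decide_eq_true (allLt_spec hm i hi)).2 hq
    have h3 : pL G.L (pt i) = pt i := by
      obtain ⟨-, h3⟩ := desc_pL hv.2 i hi
      rw [h3, h1]
    have h4 : (u * pL G.L * u⁻¹) (u (pt i)) = u (pt i) := by
      simp [h3]
    have h5 : u (pt i) ∈ d := by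
      by_contra hni
      exact hno _ hni h4
    rw [he, Finset.mem_inv_smul_finset_iff]
    exact h5
  rw [toSet_subset_iff hFlt] at hsub
  have hpos : 0 < golayList.countP
      (fun m => Nat.beq (bc m) 12 && Nat.beq (G.app m) m && Nat.beq (Nat.land m F) F) :=
    List.countP_pos_iff.2 ⟨n, hn, by
      simp only [Bool.and_eq_true, Nat.beq_eq]
      exact ⟨⟨by rw [← bitCount_eq_bc]; exact h12, happ⟩, hsub⟩⟩
  rw [countP_golayList, hc] at hpos
  exact lt_irrefl 0 hpos

/-- The action of the small group outside the dodecad is elusive. -/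
theorem elusive {g : Equiv.Perm GolayPt} (hg : g ∈ Spor.M11) (hord : (orderOf g).Prime) :
    ∃ x : GolayPt, x ∉ Spor.squareDodecad ∧ g x = x := by
  obtain ⟨⟨hgM, hgd⟩, hg0⟩ := (by simpa [Spor.M11, Spor.M12, Subgroup.mem_inf] using hg :
    (g ∈ M24 ∧ g ∈ MulAction.stabilizer (Equiv.Perm GolayPt) Spor.squareDodecad) ∧
      g (some 0) = some 0)
  rw [MulAction.mem_stabilizer_iff, squareDodecad_eq] at hgd
  rw [squareDodecad_eq]
  have h0 : ∃ p, g p = p := ⟨_, hg0⟩
  have hd : toSet baseDodecad ∈ dodecads := baseDodecad_mem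
  obtain ⟨-, -, -, -, hU, hD, -⟩ := certs_ok
  by_cases h2 : orderOf g = 2
  · obtain ⟨u, hu, ⟨-, h⟩ | ⟨e, -⟩⟩ := inv_cases hgM h2
    · obtain ⟨p, hp⟩ := h0
      exact absurd hp (fixed_card_zero_iff.1 h p)
    · rw [e] at hgd ⊢
      exact exists_fixed_outside hU checks.1 hu hd hgd
  by_cases h3 : orderOf g = 3
  · obtain ⟨u, hu, ⟨e, -⟩ | ⟨-, h⟩⟩ := three_cases hgM h3
    · rw [e] at hgd ⊢
      exact exists_fixed_outside hD checks.2 hu hd hgd
    · obtain ⟨p, hp⟩ := h0
      exact absurd hp (fixed_card_zero_iff.1 h p)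
  classical
  have hinv : ∀ x, x ∉ toSet baseDodecad ↔ g x ∉ toSet baseDodecad := fun x => by
    conv_rhs => rw [← hgd]
    exact not_congr (by rw [← Equiv.Perm.smul_def]; exact (Finset.smul_mem_smul_finset_iff g).symm)
  haveI := Fact.mk hord
  have hcard : ¬ orderOf g ∣ Fintype.card {x // x ∉ toSet baseDodecad} := by
    rw [show Fintype.card {x // x ∉ toSet baseDodecad} = 12 by decide +kernel]
    intro h
    have := Nat.le_of_dvd (by norm_num) h
    interval_cases horder : orderOf g <;> simp_all (config := { decide := true })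
  have hpow : (g.subtypePerm (p := fun x => x ∉ toSet baseDodecad) (fun x => (hinv x).symm)) ^ orderOf g ^ 1 = 1 := by
    ext ⟨x, hx⟩
    simp [Equiv.Perm.subtypePerm_pow, pow_orderOf_eq_one]
  obtain ⟨⟨x, hx⟩, hfx⟩ := Equiv.Perm.exists_fixed_point_of_prime hcard hpow
  exact ⟨x, hx, congrArg Subtype.val hfx⟩

end CfsgLib.M24Cert.BaseElusive
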