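import Cfsg.Agent.Lib.M24Cert.Enum
import Cfsg.Agent.Lib.M24Cert.ElemData

/-!
# The classes of elements of orders two, three and seven
-/

set_option autoImplicit false

namespace CfsgLib.M24Cert

open Cfsg CfsgLib.Golay

open scoped Pointwise

/-- The cube of the representative of order seven. -/
def elRcube : List ℕ := [3, 4, 12, 7, 0, 18, 21, 2, 14, 5, 10, 8, 1, 9, 17, 11, 19, 6, 23, 13, 20, 15, 22, 16]

theorem fix5_few : cosetAll (fun h => allLt (fun i => Nat.beq (h i) i) 24 ||
    Nat.ble (countLt (fun i => Nat.beq (h i) i) 24) 8) 5 (List.range 24) = true ∧ m24Test (List.range 24) = true := by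
  refine ⟨?_, ?_⟩ <;> decide +kernel

theorem certs_ok : allB m24B certTwo = true ∧ allB m24B certThree = true ∧ allB m24B certSeven = true ∧
    elT.m24 = true ∧ elU.m24 = true ∧ elD.m24 = true ∧ elE.m24 = true ∧ elR.m24 = true ∧ m24B elRcube = true ∧
    compL elR.L (compL elR.L elR.L) = elRcube := by
  refine ⟨?_, ?_, ?_, ?_, ?_, ?_, ?_, ?_, ?_, ?_⟩ <;> decide +kernel

theorem coset_lists : m24Test cosetTwo = true ∧ m24Test cosetThree = true ∧ m24Test cosetSeven = true ∧
    [0, 1, 2, 3].map (getR cosetTwo) = [1, 0, 3, 2] ∧ [0, 1, 2, 3].map (getR cosetThree) = [1, 2, 0, 4] ∧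
    [0, 1, 2, 3].map (getR cosetSeven) = [1, 2, 3, 4] := by
  refine ⟨?_, ?_, ?_, ?_, ?_, ?_⟩ <;> decide +kernel

theorem two_check : cosetAll (fun h => !allLt (fun i => Nat.beq (h (h i)) i) 24 ||
    anyB (fun k => conjB h k elT.L || conjB h k elU.L) certTwo) 4 cosetTwo = true := by
  decide +kernel

theorem three_check : cosetAll (fun h => !allLt (fun i => Nat.beq (h (h (h i))) i) 24 ||
    anyB (fun k => conjB h k elD.L || conjB h k elE.L) certThree) 4 cosetThree = true := by
  decide +kernel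

theorem seven_check : cosetAll (fun h => !allLt (fun i => Nat.beq (iterN h 7 i) i) 24 ||
    anyB (fun k => conjB h k elR.L || conjB h k elRcube) certSeven) 4 cosetSeven = true := by
  decide +kernel

theorem m24_fixed_conj {g k : Equiv.Perm GolayPt} :
    (Finset.univ.filter fun p => (k * g * k⁻¹) p = p).card = (Finset.univ.filter fun p => g p = p).card := by
  refine (Finset.card_equiv k fun p => ?_).symm
  simp only [Finset.mem_filter, Finset.mem_univ, true_and]
  show g p = p ↔ k (g (k.symm (k p))) = k p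
  rw [Equiv.symm_apply_apply]
  exact k.injective.eq_iff.symm

theorem conj_at (k g : Equiv.Perm GolayPt) {x y : GolayPt} {i j : ℕ} (hx : k x = pt i) (hy : k y = pt j)
    (h : g x = y) : (k * g * k⁻¹) (pt i) = pt j := by
  rw [← hx]
  show k (g (k.symm (k x))) = pt j
  rw [Equiv.symm_apply_apply, h, hy]

theorem fixed_le_eight {g : Equiv.Perm GolayPt} (hg : g ∈ M24) (hne : g ≠ 1) :
    (Finset.univ.filter fun p => g p = p).card ≤ 8 := by
  by_contra hc
  set F := Finset.univ.filter fun p => g p = p with hF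
  obtain ⟨s, hs, hs5⟩ := Finset.exists_subset_card_eq (show 5 ≤ F.card by omega)
  obtain ⟨y⟩ : Nonempty (Fin 5 ≃ {p // p ∈ s}) := ⟨(s.equivFinOfCardEq hs5).symm⟩
  obtain ⟨k, hk, hke⟩ := M24_exists_map (k := 5) le_rfl ⟨fun i => (y i).val, fun i j e => y.injective (Subtype.ext e)⟩
    ⟨fun i : Fin 5 => pt i.val, fun i j e => Fin.ext (pt_inj (by omega) (by omega) e)⟩
  have hfix : ∀ i ∈ [0, 1, 2, 3, 4], i < 24 ∧ (k * g * k⁻¹) (pt i) = pt (getR (List.range 24) i) := by
    intro i hi
    have hi5 : i < 5 := by simp only [List.mem_cons, List.not_mem_nil, or_false] at hi; omega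
    refine ⟨by omega, ?_⟩
    have e1 : k (y ⟨i, hi5⟩).val = pt i := hke ⟨i, hi5⟩
    have e2 : g (y ⟨i, hi5⟩).val = (y ⟨i, hi5⟩).val := (Finset.mem_filter.1 (hs (y ⟨i, hi5⟩).2)).2
    rw [getR_eq, List.getD_eq_getElem _ _ (show i < (List.range 24).length by simp; omega), List.getElem_range]
    exact conj_at k g e1 e1 e2
  obtain ⟨h, hP, hd⟩ := coset_spec (k := 5) (fixed := [0, 1, 2, 3, 4]) (by decide +kernel) (by decide +kernel)
    fix5_few.2 fix5_few.1 (mul_mem (mul_mem hk hg) (inv_mem hk)) hfix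
  rw [← m24_fixed_conj (k := k), hd.fixed_card] at hc
  simp only [Bool.or_eq_true, Nat.ble_eq] at hP
  refine hne (conj_eq_one_iff.1 (Equiv.ext fun q => ?_ : k * g * k⁻¹ = 1))
  obtain ⟨i, hi, rfl⟩ := exists_pt q
  rcases hP with hP | hP
  · rw [(hd i hi).2, Nat.eq_of_beq_eq_true (allLt_spec hP i hi)]; rfl
  · omega

theorem exists_moved {g : Equiv.Perm GolayPt} (hg : g ∈ M24) (hne : g ≠ 1) {t : Finset GolayPt} (ht : t.card ≤ 15) :
    ∃ p ∉ t, g p ≠ p := by
  by_contra hc
  have hsub : Finset.univ \ t ⊆ Finset.univ.filter fun p => g p = p := fun p hp => by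
    simp only [Finset.mem_sdiff, Finset.mem_univ, true_and] at hp
    simp only [Finset.mem_filter, Finset.mem_univ, true_and]
    by_contra hgp
    exact hc ⟨p, hp, hgp⟩
  have h1 := Finset.card_le_card hsub
  have h2 := fixed_le_eight hg hne
  rw [Finset.card_univ_sdiff] at h1
  have h24 : Fintype.card GolayPt = 24 := by decide
  omega

/-- Normalise an element by four points and compare with the coset check. -/
theorem normal_four {g : Equiv.Perm GolayPt} (hg : g ∈ M24) {A : List ℕ} (hA : m24Test A = true)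
    {a b c d : GolayPt} (hab : a ≠ b) (hac : a ≠ c) (had : a ≠ d) (hbc : b ≠ c) (hbd : b ≠ d) (hcd : c ≠ d)
    {P : (ℕ → ℕ) → Bool} (hP : cosetAll P 4 A = true)
    (himg : ∀ k : Equiv.Perm GolayPt, k a = pt 0 → k b = pt 1 → k c = pt 2 → k d = pt 3 → k ∈ M24 →
      ∀ i ∈ [0, 1, 2, 3], (k * g * k⁻¹) (pt i) = pt (getR A i)) :
    ∃ k ∈ M24, ∃ h, P h = true ∧ Desc (k * g * k⁻¹) h := by
  have hne : ∀ i j : ℕ, i < 4 → j < 4 → i ≠ j → pt i ≠ pt j := fun i j hi hj hij e =>
    hij (pt_inj (by omega) (by omega) e)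
  obtain ⟨k, hk, e0, e1, e2, e3⟩ := M24_map_four hab hac had hbc hbd hcd
    (hne 0 1 (by omega) (by omega) (by omega)) (hne 0 2 (by omega) (by omega) (by omega))
    (hne 0 3 (by omega) (by omega) (by omega)) (hne 1 2 (by omega) (by omega) (by omega))
    (hne 1 3 (by omega) (by omega) (by omega)) (hne 2 3 (by omega) (by omega) (by omega))
  obtain ⟨h, h1, h2⟩ := coset_spec (k := 4) (fixed := [0, 1, 2, 3]) (by decide +kernel) (by decide +kernel) hA hP
    (mul_mem (mul_mem hk hg) (inv_mem hk)) fun i hi =>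
      ⟨by simp only [List.mem_cons, List.not_mem_nil, or_false] at hi; omega, himg k e0 e1 e2 e3 hk i hi⟩
  exact ⟨k, hk, h, h1, h2⟩

theorem order_allLt {g : Equiv.Perm GolayPt} {h : ℕ → ℕ} (hd : Desc g h) {n : ℕ} (e : g ^ n = 1) :
    allLt (fun i => Nat.beq (iterN h n i) i) 24 = true := (hd.pow n).eq_one e

theorem conj_from_check {g k : Equiv.Perm GolayPt} (hk : k ∈ M24) {h : ℕ → ℕ} (hd : Desc (k * g * k⁻¹) h)
    {cert : List (List ℕ)} (hcert : allB m24B cert = true) {S T : List ℕ} (hS : validL 24 S = true)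
    (hT : validL 24 T = true) (hb : anyB (fun c => conjB h c S || conjB h c T) cert = true) :
    ∃ u ∈ M24, g = u * pL S * u⁻¹ ∨ g = u * pL T * u⁻¹ := by
  obtain ⟨c, hc, hcb⟩ := anyB_iff.1 hb
  obtain ⟨hcv, hcm⟩ := mem_M24_of_m24B (allB_iff.1 hcert c hc)
  refine ⟨k⁻¹ * pL c, mul_mem (inv_mem hk) hcm, ?_⟩
  rcases Bool.or_eq_true _ _ |>.mp hcb with hb | hb
  · left
    calc g = k⁻¹ * (k * g * k⁻¹) * k := by group
      _ = _ := by rw [hd.conj hcv hS hb]; group
  · right
    calc g = k⁻¹ * (k * g * k⁻¹) * k := by group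
      _ = _ := by rw [hd.conj hcv hT hb]; group

/-- Every involution is conjugate to one of the two representatives. -/
theorem inv_class {g : Equiv.Perm GolayPt} (hg : g ∈ M24) (ho : orderOf g = 2) :
    ∃ u ∈ M24, g = u * pL elT.L * u⁻¹ ∨ g = u * pL elU.L * u⁻¹ := by
  have hg2 : g ^ 2 = 1 := by rw [← ho]; exact pow_orderOf_eq_one g
  have hne : g ≠ 1 := fun e => by rw [e, orderOf_one] at ho; omega
  have happ : ∀ x, g (g x) = x := fun x => by
    rw [← Equiv.Perm.mul_apply, ← sq, hg2]; rfl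
  obtain ⟨p, -, hp⟩ := exists_moved hg hne (t := ∅) (by simp)
  obtain ⟨q, hq, hgq⟩ := exists_moved hg hne (t := {p, g p}) (Finset.card_le_two.trans (by omega))
  simp only [Finset.mem_insert, Finset.mem_singleton, not_or] at hq
  obtain ⟨hA, -, -, hA0, -, -⟩ := coset_lists
  simp only [List.map_cons, List.map_nil, List.cons.injEq, and_true] at hA0
  obtain ⟨a0, a1, a2, a3⟩ := hA0
  obtain ⟨k, hk, h, hP, hd⟩ := normal_four hg hA (a := p) (b := g p) (c := q) (d := g q) (Ne.symm hp)
    (Ne.symm hq.1) (fun e => hq.2 (by rw [e, happ])) (Ne.symm hq.2) (fun e => hq.1 (g.injective e).symm)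
    (Ne.symm hgq) two_check fun k e0 e1 e2 e3 _ i hi => by
      simp only [List.mem_cons, List.not_mem_nil, or_false] at hi
      rcases hi with rfl | rfl | rfl | rfl
      · rw [a0]; exact conj_at k g e0 e1 rfl
      · rw [a1]; exact conj_at k g e1 e0 (happ p)
      · rw [a2]; exact conj_at k g e2 e3 rfl
      · rw [a3]; exact conj_at k g e3 e2 (happ q)
  simp only [Bool.or_eq_true, Bool.not_eq_true'] at hP
  have h2 := order_allLt hd (n := 2) (by rw [conj_pow, hg2]; group)
  refine conj_from_check hk hd certs_ok.1 (GenT.valid ?_) (GenT.valid ?_) (hP.resolve_left fun e => ?_)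
  · have := certs_ok.2.2.2.1; simp only [GenT.m24, Bool.and_eq_true] at this; exact this.1
  · have := certs_ok.2.2.2.2.1; simp only [GenT.m24, Bool.and_eq_true] at this; exact this.1
  · exact Bool.noConfusion (e.symm.trans h2)

/-- Every element of order three is conjugate to one of the two representatives. -/
theorem three_class {g : Equiv.Perm GolayPt} (hg : g ∈ M24) (ho : orderOf g = 3) :
    ∃ u ∈ M24, g = u * pL elD.L * u⁻¹ ∨ g = u * pL elE.L * u⁻¹ := by
  have hg3 : g ^ 3 = 1 := by rw [← ho]; exact pow_orderOf_eq_one g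
  have hne : g ≠ 1 := fun e => by rw [e, orderOf_one] at ho; omega
  have happ : ∀ x, g (g (g x)) = x := fun x => by
    rw [← Equiv.Perm.mul_apply, ← Equiv.Perm.mul_apply, show g * g * g = g ^ 3 by rw [pow_succ, pow_two], hg3]; rfl
  obtain ⟨p, -, hp⟩ := exists_moved hg hne (t := ∅) (by simp)
  obtain ⟨q, hq, hgq⟩ := exists_moved hg hne (t := {p, g p, g (g p)}) (Finset.card_le_three.trans (by omega))
  simp only [Finset.mem_insert, Finset.mem_singleton, not_or] at hq
  obtain ⟨-, hA, -, -, hA0, -⟩ := coset_lists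
  simp only [List.map_cons, List.map_nil, List.cons.injEq, and_true] at hA0
  obtain ⟨a0, a1, a2, a3⟩ := hA0
  obtain ⟨k, hk, e0, e1, e2, e3, e4⟩ : ∃ k ∈ M24, k p = pt 0 ∧ k (g p) = pt 1 ∧ k (g (g p)) = pt 2 ∧ k q = pt 3 ∧
      k (g q) = pt 4 := by
    have hl : [p, g p, g (g p), q, g q].Nodup := by
      simp only [List.nodup_cons, List.mem_cons, List.not_mem_nil, or_false, not_or, List.nodup_nil, and_true,
        not_false_iff]
      refine ⟨⟨Ne.symm hp, fun e => hp ?_, Ne.symm hq.1, fun e => hq.2.2 ?_⟩,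
        ⟨fun e => hp (g.injective e).symm, Ne.symm hq.2.1, fun e => hq.1 (g.injective e).symm⟩,
        ⟨Ne.symm hq.2.2, fun e => hq.2.1 (g.injective e).symm⟩, Ne.symm hgq⟩
      · conv_lhs => rw [e, happ]
      · rw [e]; exact (happ q).symm
    obtain ⟨k, hk, hke⟩ := M24_exists_map (k := 5) le_rfl
      ⟨fun i : Fin 5 => [p, g p, g (g p), q, g q].get ⟨i.val, i.isLt⟩,
        fun i j e => Fin.ext (Fin.ext_iff.1 ((List.nodup_iff_injective_get.1 hl) e))⟩
      ⟨fun i : Fin 5 => pt i.val, fun i j e => Fin.ext (pt_inj (by omega) (by omega) e)⟩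
    exact ⟨k, hk, hke 0, hke 1, hke 2, hke 3, hke 4⟩
  obtain ⟨h, hP, hd⟩ := coset_spec (k := 4) (fixed := [0, 1, 2, 3]) (by decide +kernel) (by decide +kernel) hA
    three_check (mul_mem (mul_mem hk hg) (inv_mem hk)) fun i hi => by
      simp only [List.mem_cons, List.not_mem_nil, or_false] at hi
      refine ⟨by omega, ?_⟩
      rcases hi with rfl | rfl | rfl | rfl
      · rw [a0]; exact conj_at k g e0 e1 rfl
      · rw [a1]; exact conj_at k g e1 e2 rfl
      · rw [a2]; exact conj_at k g e2 e0 (happ p)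
      · rw [a3]; exact conj_at k g e3 e4 rfl
  simp only [Bool.or_eq_true, Bool.not_eq_true'] at hP
  have h3 := order_allLt hd (n := 3) (by rw [conj_pow, hg3]; group)
  refine conj_from_check hk hd certs_ok.2.1 (GenT.valid ?_) (GenT.valid ?_) (hP.resolve_left fun e => ?_)
  · have := certs_ok.2.2.2.2.2.1; simp only [GenT.m24, Bool.and_eq_true] at this; exact this.1
  · have := certs_ok.2.2.2.2.2.2.1; simp only [GenT.m24, Bool.and_eq_true] at this; exact this.1
  · exact Bool.noConfusion (e.symm.trans h3)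

/-- Every element of order seven is conjugate to the representative or to its cube. -/
theorem seven_class {g : Equiv.Perm GolayPt} (hg : g ∈ M24) (ho : orderOf g = 7) :
    ∃ u ∈ M24, g = u * pL elR.L * u⁻¹ ∨ g = u * pL elR.L ^ 3 * u⁻¹ := by
  have hg7 : g ^ 7 = 1 := by rw [← ho]; exact pow_orderOf_eq_one g
  have hne : g ≠ 1 := fun e => by rw [e, orderOf_one] at ho; omega
  obtain ⟨p, -, hp⟩ := exists_moved hg hne (t := ∅) (by simp)
  have hper : ∀ j, 0 < j → j < 7 → (g ^ j) p ≠ p := by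
    intro j hj0 hj e
    have hinv : ∀ j < 7, 0 < j → ∃ m < 7, j * m % 7 = 1 := by decide
    obtain ⟨m, -, hm⟩ := hinv j hj hj0
    have hfix : ∀ m, ((g ^ j) ^ m) p = p := fun m => by
      induction m with
      | zero => rfl
      | succ m ih => rw [pow_succ, Equiv.Perm.mul_apply, e, ih]
    have h1 := hfix m
    rw [← pow_mul, ← pow_mod_orderOf g (j * m), ho, hm, pow_one] at h1
    exact hp h1
  obtain ⟨k, hk, hke⟩ := M24_exists_map (k := 5) le_rfl
    ⟨fun i : Fin 5 => (g ^ i.val) p, fun i j e => by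
      by_contra hij
      have key : ∀ a b : ℕ, a < b → b < 5 → (g ^ a) p ≠ (g ^ b) p := fun a b hab hb e => by
        rw [show b = a + (b - a) by omega, pow_add, Equiv.Perm.mul_apply] at e
        exact hper (b - a) (by omega) (by omega) ((g ^ a).injective e).symm
      rcases Nat.lt_trichotomy i.val j.val with h | h | h
      · exact key _ _ h j.isLt e
      · exact hij (Fin.ext h)
      · exact key _ _ h i.isLt e.symm⟩
    ⟨fun i : Fin 5 => pt i.val, fun i j e => Fin.ext (pt_inj (by omega) (by omega) e)⟩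
  have hk' : ∀ (i : ℕ), i < 5 → k ((g ^ i) p) = pt i := fun i hi => hke ⟨i, hi⟩
  obtain ⟨-, -, hA, -, -, hA0⟩ := coset_lists
  obtain ⟨h, hP, hd⟩ := coset_spec (k := 4) (fixed := [0, 1, 2, 3]) (by decide +kernel) (by decide +kernel) hA
    seven_check (mul_mem (mul_mem hk hg) (inv_mem hk)) fun i hi => by
      simp only [List.mem_cons, List.not_mem_nil, or_false] at hi
      refine ⟨by omega, ?_⟩
      rw [show getR cosetSeven i = i + 1 by
        simp only [List.map_cons, List.map_nil, List.cons.injEq, and_true] at hA0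
        rcases hi with rfl | rfl | rfl | rfl <;> simp [hA0]]
      exact conj_at k g (hk' i (by omega)) (hk' (i + 1) (by omega)) (by rw [pow_succ', Equiv.Perm.mul_apply])
  simp only [Bool.or_eq_true, Bool.not_eq_true'] at hP
  have h7 := order_allLt hd (n := 7) (by rw [conj_pow, hg7]; group)
  have hR : validL 24 elR.L = true := by
    have := certs_ok.2.2.2.2.2.2.2.1; simp only [GenT.m24, Bool.and_eq_true] at this; exact GenT.valid this.1
  have hR3 : pL elRcube = pL elR.L ^ 3 := by
    rw [← certs_ok.2.2.2.2.2.2.2.2.2, pL_compL hR (validL_compL hR hR), pL_compL hR hR,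
      pow_succ, pow_two, mul_assoc]
  rw [← hR3]
  exact conj_from_check hk hd certs_ok.2.2.1 hR (mem_M24_of_m24B certs_ok.2.2.2.2.2.2.2.2.1).1
    (hP.resolve_left fun e => Bool.noConfusion (e.symm.trans h7))

end CfsgLib.M24Cert
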