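import Cfsg.Agent.Lib.M24Cert.Single

/-!
# Suborbits in tables, maximal stabilisers, and transport of counts
-/

set_option autoImplicit false

namespace CfsgLib.M24Cert

open Cfsg CfsgLib.Golay

open scoped Pointwise

theorem ncard_smul_iff (g : Equiv.Perm GolayPt) (P Q : Finset GolayPt → Prop) (h : ∀ U, P (g • U) ↔ Q U) :
    {U : Finset GolayPt | P U}.ncard = {U : Finset GolayPt | Q U}.ncard := by
  rw [← Set.ncard_image_of_injective {U : Finset GolayPt | Q U} (MulAction.injective g)]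
  congr 1
  ext U
  refine ⟨fun hU => ⟨g⁻¹ • U, ?_, smul_inv_smul g U⟩, ?_⟩
  · show Q _
    rw [← h, smul_inv_smul]
    exact hU
  · rintro ⟨V, hV, rfl⟩
    exact (h V).2 hV

theorem octads_smul_iff {g : Equiv.Perm GolayPt} (hg : g ∈ M24) (o : Finset GolayPt) :
    g • o ∈ octads ↔ o ∈ octads :=
  ⟨fun h => inv_smul_smul g o ▸ octads_smul (inv_mem hg) h, octads_smul hg⟩

theorem dodecads_smul_iff {g : Equiv.Perm GolayPt} (hg : g ∈ M24) (o : Finset GolayPt) :
    g • o ∈ dodecads ↔ o ∈ dodecads :=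
  ⟨fun h => inv_smul_smul g o ▸ dodecads_smul (inv_mem hg) h, dodecads_smul hg⟩

theorem isCoatom_stabilizer_smul {G β : Type*} [Group G] [MulAction G β] (g : G) {x : β}
    (h : IsCoatom (MulAction.stabilizer G x)) : IsCoatom (MulAction.stabilizer G (g • x)) := by
  rw [MulAction.stabilizer_smul_eq_stabilizer_map_conj]
  exact ((MulAut.conj g).mapSubgroup.isCoatom_iff _).2 h

/-- Suborbits of a table, transported to any of its families, and maximality of the stabiliser. -/
theorem tbl_rank {t : Tbl} {hint : List ℕ} (hs : t.sortedOk = true) (hc : t.closedOk m24Tabs hint = true)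
    {B : List ℕ} (hB : Small B) (hBs : strictB B = true) {gens : List GenT} (hg : gensOk B gens = true)
    {aux rest cs : List ℕ} {r₀ : ℕ}
    (hf : t.forestOk gens aux (fun _ => true) (r₀ :: rest) = true) (hr : rootsOk t B (r₀ :: rest) = true)
    (hobj : t.obj r₀ = B)
    (hcs : rest.map (fun r => countLt (fun i => Nat.beq (posCodeL B (t.obj i)) (posCodeL B (t.obj r))) t.N) = cs)
    (hnd : cs.Nodup) (hne : ∀ c ∈ cs, c ≠ 1) (hN : 1 < t.N)
    (hdiv : ∀ s ∈ subSums cs, (1 + s) ∣ t.N → s = 0 ∨ 1 + s = t.N)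
    (htr : ∀ Y ∈ t.range, ∃ g ∈ M24, g • oset B = Y) {A : Finset (Finset GolayPt)} (hA : A ∈ t.range) :
    ∃ g ∈ M24, g • oset B = A ∧
      (∀ r ∈ rest, g • t.el r ∈ t.range ∧
        (MulAction.orbit ↥(MulAction.stabilizer M24 A) (g • t.el r)).ncard =
          countLt (fun i => Nat.beq (posCodeL B (t.obj i)) (posCodeL B (t.obj r))) t.N) ∧
      (∀ X, X ∈ t.range ↔ X = A ∨ ∃ r ∈ rest, X ∈ MulAction.orbit ↥(MulAction.stabilizer M24 A) (g • t.el r)) ∧
      IsCoatom (MulAction.stabilizer M24 A) := by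
  obtain ⟨g, hgm, rfl⟩ := htr A hA
  obtain ⟨h1, h2⟩ := orbit_sizes hs hc hB hBs hg hf hr hgm
  simp only [← orbit_eq] at h1 h2
  have hself : g • t.el r₀ = g • oset B := by rw [Tbl.el, hobj]
  have hiff : ∀ X, X ∈ t.range ↔
      X = g • oset B ∨ ∃ r ∈ rest, X ∈ MulAction.orbit ↥(MulAction.stabilizer M24 (g • oset B)) (g • t.el r) := by
    intro X
    rw [h2 X, List.exists_mem_cons_iff]
    refine or_congr_left ⟨?_, fun e => by rw [hself, e]; exact MulAction.mem_orbit_self _⟩
    rw [hself]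
    rintro ⟨k, rfl⟩
    exact k.2
  have horb : MulAction.orbit M24 (g • oset B) = t.range := orbit_group hc htr hA
  refine ⟨g, hgm, rfl, fun r hr' => h1 r (List.mem_cons_of_mem _ hr'), hiff, ?_⟩
  refine isCoatom_of_suborbits (g • oset B) (rest.map fun r => g • t.el r) cs ?_ hnd hne ?_
    (by rw [horb, Tbl.ncard_range hs]; exact hN) (by rw [horb, Tbl.ncard_range hs]; exact hdiv)
  · rw [← hcs, List.map_map]
    exact List.map_congr_left fun r hr' => (h1 r (List.mem_cons_of_mem _ hr')).2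
  · rw [horb]
    intro y hy
    rcases (hiff y).1 hy with e | ⟨r, hr', hm⟩
    · exact Or.inl e
    · exact Or.inr ⟨_, List.mem_map_of_mem hr', hm⟩

/-- The orbit of the stabiliser of a point set on an invariant class of a complete table. -/
theorem Complete.orbit_class {t : Tbl} {S : Set (Finset GolayPt)} (h : Complete t S) {m : ℕ}
    {gens : List GenT} (hg : fixOk [m] gens = true) {aux : List ℕ} {r : ℕ} {Pb : ℕ → Bool}
    (hf : t.forestOk gens aux (fun i => Pb (one t i)) [r] = true) (hr : r < t.N) (hrb : Pb (one t r) = true)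
    (Q : Finset GolayPt → Prop) (hP : ∀ i < t.N, Q (toSet (one t i)) ↔ Pb (one t i) = true)
    (hQ : ∀ g ∈ M24, g • toSet m = toSet m → ∀ U ∈ S, Q U → g • U ∈ S ∧ Q (g • U)) :
    MulAction.orbit ↥(MulAction.stabilizer M24 (toSet m)) (toSet (one t r)) = {U | U ∈ S ∧ Q U} ∧
      (MulAction.orbit ↥(MulAction.stabilizer M24 (toSet m)) (toSet (one t r))).ncard =
        countLt (fun i => Pb (one t i)) t.N := by
  have heq : MulAction.orbit ↥(MulAction.stabilizer M24 (toSet m)) (toSet (one t r)) = {U | U ∈ S ∧ Q U} := by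
    apply Set.Subset.antisymm
    · rintro _ ⟨⟨⟨g, hgm⟩, hfix⟩, rfl⟩
      exact hQ g hgm hfix _ (h.sound r hr) ((hP r hr).2 hrb)
    · rintro U ⟨hU, hQU⟩
      obtain ⟨g, hgm, e⟩ := h.conj hf (H := fixMasks [m]) (fixOk_spec hg) (h.sound r hr) hU
        (fun i hi e => by rw [h.inj hi hr e]; exact hrb) (fun i hi e => (hP i hi).1 (e ▸ hQU))
      obtain ⟨h24, hfix⟩ := mem_fixMasks.1 hgm
      exact ⟨⟨⟨g, h24⟩, hfix m List.mem_cons_self⟩, e⟩
  refine ⟨heq, ?_⟩
  rw [heq, h.count Q Pb hP]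

/-- The forests of all classes of a key on the selected part of a table. -/
noncomputable def classesOk (t : Tbl) (gens : List GenT) (aux : List ℕ) (sel : ℕ → Bool) (key : ℕ → ℕ)
    (cl : List (ℕ × ℕ)) : Bool :=
  allB (fun c => t.forestOk gens aux (fun i => sel (one t i) && Nat.beq (key (one t i)) c.1) [c.2]) cl &&
    allLt (fun i => !sel (one t i) || memB (key (one t i)) (cl.map Prod.fst)) t.N

/-- Two selected members with the same key are conjugate. -/
theorem Complete.conj_key {t : Tbl} {S : Set (Finset GolayPt)} (h : Complete t S) {gens : List GenT}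
    {aux : List ℕ} {sel : ℕ → Bool} {key : ℕ → ℕ} {cl : List (ℕ × ℕ)}
    (hc : classesOk t gens aux sel key cl = true) {H : Subgroup (Equiv.Perm GolayPt)}
    (hg : ∀ G ∈ gens, pL G.L ∈ H) {s s' : Finset GolayPt} (hs : s ∈ S) (hs' : s' ∈ S)
    (hk : ∀ i < t.N, ∀ j < t.N, toSet (one t i) = s → toSet (one t j) = s' →
      sel (one t i) = true ∧ sel (one t j) = true ∧ key (one t i) = key (one t j)) :
    ∃ g ∈ H, g • s = s' := by
  obtain ⟨i, hi, ei⟩ := h.index hs
  obtain ⟨j, hj, ej⟩ := h.index hs'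
  obtain ⟨h1, h2, h3⟩ := hk i hi j hj ei ej
  simp only [classesOk, Bool.and_eq_true, allB_iff] at hc
  obtain ⟨hf, hall⟩ := hc
  have hi' := allLt_spec hall i hi
  simp only [h1, Bool.not_true, Bool.false_or, memB_iff, List.mem_map] at hi'
  obtain ⟨c, hc, ec⟩ := hi'
  exact h.conj (Pb := fun n => sel n && Nat.beq (key n) c.1) (hf c hc) hg hs hs'
    (fun a ha e => by
      rw [h.inj ha hi (e.trans ei.symm), Bool.and_eq_true, Nat.beq_eq]
      exact ⟨h1, ec.symm⟩)
    (fun a ha e => by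
      rw [h.inj ha hj (e.trans ej.symm), Bool.and_eq_true, Nat.beq_eq]
      exact ⟨h2, h3.symm.trans ec.symm⟩)

end CfsgLib.M24Cert
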