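import Cfsg.Agent.Lib.M24Cert.Modules
import Cfsg.Agent.Lib.M24Cert.Pairs
import Cfsg.Agent.Lib.M24Cert.CodeAutData

/-!
# Linear maps of the code that respect the orbits modulo the constant word
-/

set_option autoImplicit false

namespace CfsgLib.M24Cert

open Cfsg CfsgLib.Golay

open scoped Pointwise symmDiff

/-- Equal up to the constant word. -/
def UpOne (a b : GolayPt → ZMod 2) : Prop := a = b ∨ a = b + fun _ => (1 : ZMod 2)

theorem one_add_one : ((fun _ : GolayPt => (1 : ZMod 2)) + fun _ => 1) = 0 := CharTwo.add_self_eq_zero _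

theorem upOne_iff {a b : GolayPt → ZMod 2} : UpOne a b ↔ a + b = 0 ∨ a + b = fun _ => (1 : ZMod 2) := by
  refine or_congr ⟨fun h => ?_, fun h => ?_⟩ ⟨fun h => ?_, fun h => ?_⟩
  · rw [h, CharTwo.add_self_eq_zero]
  · calc a = a + b + b := by rw [add_assoc, CharTwo.add_self_eq_zero, add_zero]
      _ = b := by rw [h, zero_add]
  · rw [h, add_comm b, add_assoc, CharTwo.add_self_eq_zero, add_zero]
  · rw [← h, add_comm a b, ← add_assoc, CharTwo.add_self_eq_zero, zero_add]

theorem UpOne.refl (a : GolayPt → ZMod 2) : UpOne a a := Or.inl rfl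

theorem UpOne.symm {a b : GolayPt → ZMod 2} (h : UpOne a b) : UpOne b a := by
  rw [upOne_iff, add_comm] at h; exact upOne_iff.2 h

theorem UpOne.trans {a b c : GolayPt → ZMod 2} (h : UpOne a b) (h' : UpOne b c) : UpOne a c := by
  rcases h with rfl | rfl <;> rcases h' with rfl | rfl
  · exact Or.inl rfl
  · exact Or.inr rfl
  · exact Or.inr rfl
  · exact Or.inl (by rw [add_assoc, one_add_one, add_zero])

theorem UpOne.add {a b c d : GolayPt → ZMod 2} (h : UpOne a b) (h' : UpOne c d) : UpOne (a + c) (b + d) := by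
  rcases h with rfl | rfl <;> rcases h' with rfl | rfl
  · exact Or.inl rfl
  · exact Or.inr (by rw [add_assoc])
  · exact Or.inr (by rw [add_right_comm])
  · exact Or.inl (by rw [add_add_add_comm, one_add_one, add_zero])

theorem UpOne.actW {a b : GolayPt → ZMod 2} (g : Equiv.Perm GolayPt) (h : UpOne a b) :
    UpOne (actW g a) (actW g b) := by
  rcases h with rfl | rfl
  · exact Or.inl rfl
  · exact Or.inr rfl

/-- The type of a weight: trivial, octad-like or dodecad-like. -/
def tyN (k : ℕ) : ℕ := cond (Nat.beq k 0 || Nat.beq k 24) 0 (cond (Nat.beq k 8 || Nat.beq k 16) 1 2)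

/-- The type of a word. -/
def tyW (w : GolayPt → ZMod 2) : ℕ := tyN (support₂ w).card

theorem tyW_toWord (n : ℕ) : tyW (toWord n) = tyN (bc n) := by rw [tyW, support_toWord, card_toSet_bc]

theorem tyW_actW (g : Equiv.Perm GolayPt) (w : GolayPt → ZMod 2) : tyW (actW g w) = tyW w := by
  have e : support₂ (actW g w) = g • support₂ w := by
    conv_lhs => rw [← indW_support w, actW_indW, support_indW]
  rw [tyW, tyW, e, Finset.card_smul_finset]

theorem tyW_upOne {a b : GolayPt → ZMod 2} (hb : b ∈ golayCode) (h : UpOne a b) : tyW a = tyW b := by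
  rcases h with rfl | rfl
  · rfl
  · obtain ⟨n, hn, rfl⟩ := mem_golayCode.1 hb
    rw [one_eq_toWord, ← toWord_xor, tyW_toWord, tyW_toWord]
    exact Nat.eq_of_beq_eq_true (forall_golayList (P := fun n => Nat.beq (tyN (bc (n ^^^ 16777215))) (tyN (bc n)))
      (by decide +kernel) n hn)

theorem indW_code {o : Finset GolayPt} (ho : o ∈ octads) : indW o ∈ golayCode := by
  obtain ⟨n, hn, -, rfl⟩ := mem_wordsOfWeight.1 ho
  exact mem_golayCode.2 ⟨n, hn, toWord_eq_indW n⟩

theorem octad_upOne_inj {o o' : Finset GolayPt} (ho : o ∈ octads) (ho' : o' ∈ octads)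
    (h : UpOne (indW o) (indW o')) : o = o' := by
  rcases h with h | h
  · rw [← support_indW o, h, support_indW]
  · exfalso
    obtain ⟨n, hn, h8, rfl⟩ := mem_wordsOfWeight.1 ho'
    have e : o = toSet (n ^^^ 16777215) := by
      rw [← support_indW o, h, ← toWord_eq_indW, one_eq_toWord, ← toWord_xor, support_toWord]
    have k := forall_golayList (P := fun n => !Nat.beq (bc n) 8 || Nat.beq (bc (n ^^^ 16777215)) 16)
      (by decide +kernel) n hn
    rw [← bitCount_eq_bc, h8] at k
    simp only [Nat.beq_refl, Bool.not_true, Bool.false_or, Nat.beq_eq] at k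
    have h1 : o.card = 8 := ho.2
    rw [e, card_toSet_bc, k] at h1
    omega

/-- A map of words that respects the orbits modulo the constant word. -/
structure Resp (f : (GolayPt → ZMod 2) → GolayPt → ZMod 2) : Prop where
  add : ∀ a ∈ golayCode, ∀ b ∈ golayCode, UpOne (f (a + b)) (f a + f b)
  one : UpOne (f fun _ => 1) fun _ => 1
  inj : ∀ a ∈ golayCode, ∀ b ∈ golayCode, UpOne (f a) (f b) → UpOne a b
  orb : ∀ c ∈ golayCode, ∃ σ ∈ M24, UpOne (f c) (actW σ c)

variable {f : (GolayPt → ZMod 2) → GolayPt → ZMod 2}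

theorem Resp.code (hf : Resp f) {c : GolayPt → ZMod 2} (hc : c ∈ golayCode) : f c ∈ golayCode := by
  obtain ⟨σ, hσ, h | h⟩ := hf.orb c hc <;> rw [h]
  · exact actW_code hσ hc
  · exact add_mem (actW_code hσ hc) one_mem_code

theorem Resp.ty (hf : Resp f) {c : GolayPt → ZMod 2} (hc : c ∈ golayCode) : tyW (f c) = tyW c := by
  obtain ⟨σ, hσ, h⟩ := hf.orb c hc
  rw [tyW_upOne (actW_code hσ hc) h, tyW_actW]

theorem Resp.comp (hf : Resp f) {g : Equiv.Perm GolayPt} (hg : g ∈ M24) : Resp fun w => actW g (f w) where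
  add a ha b hb := (hf.add a ha b hb).actW g
  one := hf.one.actW g
  inj a ha b hb h := hf.inj a ha b hb (by
    have := h.actW g⁻¹
    rwa [← actW_mul, ← actW_mul, inv_mul_cancel, actW_one, actW_one] at this)
  orb c hc := by
    obtain ⟨σ, hσ, h⟩ := hf.orb c hc
    exact ⟨g * σ, mul_mem hg hσ, h.actW g⟩

theorem Resp.octad (hf : Resp f) {o : Finset GolayPt} (ho : o ∈ octads) :
    ∃ p ∈ octads, UpOne (f (indW o)) (indW p) := by
  obtain ⟨σ, hσ, h⟩ := hf.orb _ (indW_code ho)
  exact ⟨σ • o, octads_smul hσ ho, by rwa [actW_indW] at h⟩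

/-- The octads of like type against two words. -/
def likeSet (a b : Finset GolayPt) : Set (Finset GolayPt) :=
  {z | z ∈ octads ∧ tyW (indW z + indW a) = 1 ∧ tyW (indW z + indW b) = 1}

theorem Resp.ty_pair (hf : Resp f) {o o' p p' : Finset GolayPt} (ho : o ∈ octads) (ho' : o' ∈ octads)
    (hp : p ∈ octads) (hp' : p' ∈ octads) (h : UpOne (f (indW o)) (indW p)) (h' : UpOne (f (indW o')) (indW p')) :
    tyW (indW o + indW o') = tyW (indW p + indW p') := by
  rw [← hf.ty (add_mem (indW_code ho) (indW_code ho'))]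
  exact tyW_upOne (add_mem (indW_code hp) (indW_code hp')) ((hf.add _ (indW_code ho) _ (indW_code ho')).trans (h.add h'))

theorem Resp.like (hf : Resp f) {o o' p p' : Finset GolayPt} (ho : o ∈ octads) (ho' : o' ∈ octads)
    (hp : p ∈ octads) (hp' : p' ∈ octads) (h : UpOne (f (indW o)) (indW p)) (h' : UpOne (f (indW o')) (indW p')) :
    (likeSet o o').ncard = (likeSet p p').ncard := by
  classical
  choose! img himg himgR using fun z (hz : z ∈ octads) => hf.octad hz
  have hinj : Set.InjOn img octads := fun a ha b hb e => octad_upOne_inj ha hb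
    (hf.inj _ (indW_code ha) _ (indW_code hb) ((himgR a ha).trans (e ▸ (himgR b hb).symm)))
  have hsurj : img '' octads = octads := Set.eq_of_subset_of_ncard_le (by rintro _ ⟨z, hz, rfl⟩; exact himg z hz)
    (by rw [hinj.ncard_image]) (Set.toFinite _)
  have e : likeSet p p' = img '' likeSet o o' := by
    ext z
    constructor
    · rintro ⟨hz, h1, h2⟩
      rw [← hsurj] at hz
      obtain ⟨y, hy, rfl⟩ := hz
      exact ⟨y, ⟨hy, (hf.ty_pair hy ho (himg y hy) hp (himgR y hy) h).trans h1,
        (hf.ty_pair hy ho' (himg y hy) hp' (himgR y hy) h').trans h2⟩, rfl⟩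
    · rintro ⟨y, ⟨hy, h1, h2⟩, rfl⟩
      exact ⟨himg y hy, (hf.ty_pair hy ho (himg y hy) hp (himgR y hy) h).symm.trans h1,
        (hf.ty_pair hy ho' (himg y hy) hp' (himgR y hy) h').symm.trans h2⟩
  rw [e, (hinj.mono fun z hz => hz.1).ncard_image]

/-- The count of octads of like type, on masks. -/
noncomputable def likeN (a b : ℕ) : ℕ := countLt (fun i =>
  let n := (octTbl.obj i).headD 0
  Nat.beq (tyN (bc (Nat.xor n a))) 1 && Nat.beq (tyN (bc (Nat.xor n b))) 1) octTbl.N

theorem likeN_eq (a b : ℕ) : (likeSet (toSet a) (toSet b)).ncard = likeN a b := by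
  rw [← Set.ncard_image_of_injective _ Finset.singleton_injective]
  have e : (fun z : Finset GolayPt => ({z} : Finset (Finset GolayPt))) '' likeSet (toSet a) (toSet b) =
      {X | X ∈ octTbl.range ∧ ∀ z ∈ X, tyW (indW z + indW (toSet a)) = 1 ∧ tyW (indW z + indW (toSet b)) = 1} := by
    rw [octTbl_range]
    ext X
    constructor
    · rintro ⟨z, ⟨hz, h1, h2⟩, rfl⟩
      exact ⟨⟨z, hz, rfl⟩, fun y hy => by rw [Finset.mem_singleton] at hy; subst hy; exact ⟨h1, h2⟩⟩
    · rintro ⟨⟨z, hz, rfl⟩, hX⟩
      exact ⟨z, ⟨hz, hX z (Finset.mem_singleton_self z)⟩, rfl⟩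
  rw [e]
  refine Tbl.ncard_filter octTbl_sorted _ _ fun i hi => ?_
  obtain ⟨n, hn⟩ := List.length_eq_one_iff.1 (length_fields 1 (chunkAt octTbl.data (24 * octTbl.k) i))
  have hobj : octTbl.obj i = [n] := hn
  simp only [Tbl.el, hobj, oset, List.map_cons, List.map_nil, List.toFinset_cons, List.toFinset_nil,
    insert_empty_eq, Finset.mem_singleton, forall_eq, List.headD_cons, Bool.and_eq_true, Nat.beq_eq]
  rw [← toWord_eq_indW, ← toWord_eq_indW, ← toWord_eq_indW, ← toWord_xor, ← toWord_xor, tyW_toWord, tyW_toWord]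
  rfl

theorem like_values : likeN baseOctad 1009728 ≠ likeN baseOctad 10558 ∧
    tyN (bc (Nat.xor baseOctad 1009728)) = 1 ∧ tyN (bc (Nat.xor baseOctad 10558)) = 1 ∧
    tyN (bc (Nat.xor baseOctad 31554)) = 2 ∧ tyN (bc (Nat.xor baseOctad 5279)) = 0 := by
  refine ⟨?_, ?_, ?_, ?_, ?_⟩ <;> decide +kernel

/-- The intersection size follows from type and count. -/
theorem inter_invariant {o o' : Finset GolayPt} (ho : o ∈ octads) (ho' : o' ∈ octads) :
    tyW (indW o + indW o') = tyN (bc (Nat.xor baseOctad (secondOctad (o ∩ o').card))) ∧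
      (likeSet o o').ncard = likeN baseOctad (secondOctad (o ∩ o').card) := by
  obtain ⟨-, ⟨g, hg, e1, e2⟩, -⟩ := octad_pair ho ho'
  set b := secondOctad (o ∩ o').card
  have hty : ∀ z w : Finset GolayPt, tyW (indW (g • z) + indW (g • w)) = tyW (indW z + indW w) := fun z w => by
    rw [← actW_indW, ← actW_indW, ← actW_add, tyW_actW]
  constructor
  · rw [← e1, ← e2, hty, ← toWord_eq_indW, ← toWord_eq_indW, ← toWord_xor, tyW_toWord]
    rfl
  · rw [← e1, ← e2, ← likeN_eq]
    have e : likeSet (g • toSet baseOctad) (g • toSet b) = (fun z => g • z) '' likeSet (toSet baseOctad) (toSet b) := by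
      ext z
      constructor
      · rintro ⟨hz, h1, h2⟩
        exact ⟨g⁻¹ • z, ⟨octads_smul (inv_mem hg) hz, by rw [← hty, smul_inv_smul]; exact h1,
          by rw [← hty, smul_inv_smul]; exact h2⟩, smul_inv_smul g z⟩
      · rintro ⟨y, ⟨hy, h1, h2⟩, rfl⟩
        exact ⟨octads_smul hg hy, (hty _ _).trans h1, (hty _ _).trans h2⟩
    rw [e, Set.ncard_image_of_injective _ (MulAction.injective g)]

theorem Resp.inter (hf : Resp f) {o o' p p' : Finset GolayPt} (ho : o ∈ octads) (ho' : o' ∈ octads)
    (hp : p ∈ octads) (hp' : p' ∈ octads) (h : UpOne (f (indW o)) (indW p)) (h' : UpOne (f (indW o')) (indW p')) :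
    (o ∩ o').card = (p ∩ p').card := by
  obtain ⟨t1, n1⟩ := inter_invariant ho ho'
  obtain ⟨t2, n2⟩ := inter_invariant hp hp'
  have ht := hf.ty_pair ho ho' hp hp' h h'
  have hn := hf.like ho ho' hp hp' h h'
  rw [t1, t2] at ht
  rw [n1, n2] at hn
  obtain ⟨v0, v1, v2, v3, v4⟩ := like_values
  rcases (octad_pair ho ho').1 with a | a | a | a <;> rcases (octad_pair hp hp').1 with b | b | b | b <;>
    simp only [a, b, secondOctad] at ht hn ⊢ <;>
    first
    | (exfalso; omega)
    | exact absurd hn v0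
    | exact absurd hn.symm v0

/-- The octad of a word of octad type, as a mask. -/
def octOf (s : ℕ) : ℕ := cond (Nat.beq (bc s) 8) s (Nat.xor s 16777215)

/-- The intersection with the octad of a word of octad type. -/
def interB (c s : ℕ) : ℕ := cond (Nat.beq (tyN (bc s)) 1) (bc (Nat.land c (octOf s))) 100

/-- The comparison of two octads against a word. -/
def keyB (c b s : ℕ) : Bool :=
  Nat.beq (tyN (bc (Nat.xor c s))) (tyN (bc (Nat.xor b s))) && Nat.beq (interB c s) (interB b s)

/-- The mask of a combination of the steps. -/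
def comboMask (t : List ℕ) : ℕ := t.foldr (fun i acc => Nat.xor ((codeSteps.getD i (0, 0, [])).2.1) acc) 0

/-- The generators at each step. -/
def codeGens : ℕ → List GenT
  | 1 => codeGens1
  | 2 => codeGens2
  | 3 => codeGens3
  | _ => []

/-- The forests at each step. -/
def codeForest : ℕ → List ℕ
  | 1 => codeForest1
  | 2 => codeForest2
  | 3 => codeForest3
  | _ => []

/-- The check of one step. -/
noncomputable def codeStepOk (k : ℕ) : Bool :=
  let st := codeSteps.getD k (0, 0, [])
  let ms := st.2.2.map comboMask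
  Nat.ble (st.1 + 1) octTbl.N && eqB (octTbl.obj st.1) [st.2.1] && isOctB st.2.1 &&
    allB (fun t => allB (fun i => Nat.ble (i + 1) k) t) st.2.2 &&
    allB (fun G => G.m24 && allLt (fun j => let p := (codeSteps.getD j (0, 0, [])).2.1; Nat.beq (G.app p) p) k) (codeGens k) &&
    allLt (fun j => inCodeT (codeSteps.getD j (0, 0, [])).2.1) k &&
    octTbl.forestOk (codeGens k) (codeForest k)
      (fun i => let c := (octTbl.obj i).headD 0; allB (fun m => keyB c st.2.1 m) ms) [st.1]

theorem code_steps_ok : allLt (fun k => Nat.beq k 0 || codeStepOk k) 11 = true := by decide +kernel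

/-- The first octads are fixed up to the constant word. -/
def FixedUpTo (f : (GolayPt → ZMod 2) → GolayPt → ZMod 2) (k : ℕ) : Prop :=
  ∀ j < k, UpOne (f (toWord (codeSteps.getD j (0, 0, [])).2.1)) (toWord (codeSteps.getD j (0, 0, [])).2.1)

theorem combo_fixed (hf : Resp f) {k : ℕ} (hfix : FixedUpTo f k)
    (hcode : allLt (fun j => inCodeT (codeSteps.getD j (0, 0, [])).2.1) k = true) :
    ∀ {t : List ℕ}, (∀ i ∈ t, i < k) →
      toWord (comboMask t) ∈ golayCode ∧ UpOne (f (toWord (comboMask t))) (toWord (comboMask t))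
  | [], _ => by
    refine ⟨?_, ?_⟩
    · show toWord 0 ∈ _; rw [toWord_zero]; exact zero_mem _
    · show UpOne (f (toWord 0)) (toWord 0)
      rw [toWord_zero]
      have h := hf.add 0 (zero_mem _) 0 (zero_mem _)
      rw [add_zero, CharTwo.add_self_eq_zero] at h
      exact h
  | i :: t, ht => by
    obtain ⟨h1, h2⟩ := combo_fixed hf hfix hcode (fun j hj => ht j (List.mem_cons_of_mem _ hj))
    set b := (codeSteps.getD i (0, 0, [])).2.1 with hb
    have hbc : toWord b ∈ golayCode :=
      mem_golayCode.2 ⟨b, mem_golayList_of_inCodeT (allLt_spec hcode i (ht i List.mem_cons_self)), rfl⟩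
    show toWord (b ^^^ comboMask t) ∈ _ ∧ _
    have e : toWord (comboMask (i :: t)) = toWord b + toWord (comboMask t) := toWord_xor b (comboMask t)
    rw [e, toWord_xor]
    exact ⟨add_mem hbc h1, (hf.add _ hbc _ h1).trans ((hfix i (ht i List.mem_cons_self)).add h2)⟩

theorem code_step (hf : Resp f) {k : ℕ} (hk : 0 < k) (hk' : k < 11) (hfix : FixedUpTo f k) :
    ∃ g ∈ M24, FixedUpTo (fun w => actW g (f w)) (k + 1) := by
  have hall := allLt_spec code_steps_ok k hk'
  simp only [Bool.or_eq_true, Nat.beq_eq] at hall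
  have h := hall.resolve_left (by omega)
  set st := codeSteps.getD k (0, 0, []) with hst
  simp only [codeStepOk, ← hst, Bool.and_eq_true, Nat.ble_eq] at h
  obtain ⟨⟨⟨⟨⟨⟨hlt, hobj⟩, hoct⟩, hcombo⟩, hgens⟩, hcode⟩, hforest⟩ := h
  have hb : toSet st.2.1 ∈ octads := isOctB_spec hoct
  obtain ⟨p, hp, hpR⟩ := hf.octad hb
  have hp' : ({p} : Finset (Finset GolayPt)) ∈ octTbl.range := by rw [octTbl_range]; exact ⟨p, hp, rfl⟩
  obtain ⟨i, hi, hie⟩ := hp'
  obtain ⟨c, hc⟩ := List.length_eq_one_iff.1 (length_fields 1 (chunkAt octTbl.data (24 * octTbl.k) i))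
  have hobji : octTbl.obj i = [c] := hc
  have hcp : toSet c = p := by
    rw [Tbl.el, hobji] at hie
    simpa [oset] using hie
  subst hcp
  simp only [allB_iff, Nat.ble_eq] at hcombo
  have hP : allB (fun m => keyB ((octTbl.obj i).headD 0) st.2.1 m) (st.2.2.map comboMask) = true := by
    rw [allB_iff]
    intro m hm
    obtain ⟨t, ht, rfl⟩ := List.mem_map.1 hm
    obtain ⟨hsC, hsR⟩ := combo_fixed hf hfix hcode (t := t) fun j hj => by have := hcombo t ht j hj; omega
    simp only [hobji, List.headD_cons, keyB, Bool.and_eq_true, Nat.beq_eq]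
    set s := comboMask t
    have hcC := indW_code hp
    have hbC := indW_code hb
    rw [← toWord_eq_indW] at hcC hbC
    have hpR' : UpOne (f (toWord st.2.1)) (toWord c) := by rw [toWord_eq_indW, toWord_eq_indW]; exact hpR
    constructor
    · rw [← tyW_toWord, ← tyW_toWord]
      show tyW (toWord (c ^^^ s)) = tyW (toWord (st.2.1 ^^^ s))
      rw [toWord_xor, toWord_xor, ← hf.ty (add_mem hbC hsC)]
      exact (tyW_upOne (add_mem hcC hsC) ((hf.add _ hbC _ hsC).trans (hpR'.add hsR))).symm
    · simp only [interB]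
      cases hs1 : Nat.beq (tyN (bc s)) 1 with
      | false => rfl
      | true =>
        simp only [cond_true]
        obtain ⟨n, hn, hne⟩ := mem_golayCode.1 hsC
        have hso : toSet (octOf s) ∈ octads ∧ UpOne (toWord s) (indW (toSet (octOf s))) := by
          have key := forall_golayList (P := fun n => !Nat.beq (tyN (bc n)) 1 || isOctB (octOf n)) (by decide +kernel)
          have hkey : !Nat.beq (tyN (bc n)) 1 || isOctB (octOf n) := key n hn
          have hns : toSet n = toSet s := by rw [← support_toWord, hne, support_toWord]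
          have hbcn : bc n = bc s := by rw [← card_toSet_bc, hns, card_toSet_bc]
          rw [hbcn, hs1] at hkey
          have ho : isOctB (octOf n) = true := by simpa using hkey
          have hR : UpOne (toWord n) (toWord (octOf n)) := by
            rw [octOf]
            cases Nat.beq (bc n) 8 with
            | true => exact Or.inl rfl
            | false =>
              refine Or.inr ?_
              show toWord n = toWord (n ^^^ 16777215) + fun _ => 1
              rw [toWord_xor, ← one_eq_toWord, add_assoc, one_add_one, add_zero]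
          have hoo : toSet (octOf s) = toSet (octOf n) := by
            simp only [octOf, hbcn]
            cases Nat.beq (bc s) 8 with
            | true => exact hns.symm
            | false =>
              show toSet (s ^^^ 16777215) = toSet (n ^^^ 16777215)
              rw [toSet_xor, toSet_xor, hns]
          rw [hne] at hR
          refine ⟨hoo ▸ isOctB_spec ho, ?_⟩
          rw [hoo, ← toWord_eq_indW]
          exact hR
        have hfo : UpOne (f (indW (toSet (octOf s)))) (indW (toSet (octOf s))) := by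
          rcases hso.2.symm with e | e
          · rw [e]; exact hsR
          · rw [e]
            exact ((hf.add _ hsC _ one_mem_code).trans (hsR.add hf.one))
        have := hf.inter hb hso.1 hp hso.1 hpR hfo
        rw [← toSet_and, ← toSet_and, card_toSet_bc, card_toSet_bc] at this
        exact this.symm
  obtain ⟨r, hr, g, hg, he⟩ := Tbl.forest_spec hforest
    (M24 ⊓ ⨅ j : Fin k, MulAction.stabilizer (Equiv.Perm GolayPt) (toSet (codeSteps.getD j.val (0, 0, [])).2.1)) (fun G hG => by
      have h := allB_iff.1 hgens G hG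
      simp only [Bool.and_eq_true] at h
      refine Subgroup.mem_inf.2 ⟨GenT.mem_M24 h.1, Subgroup.mem_iInf.2 fun j => ?_⟩
      have hok : G.ok = true := by have := h.1; simp only [GenT.m24, Bool.and_eq_true] at this; exact this.1
      show pL G.L • _ = _
      rw [smul_toSet_imgF (GenT.valid hok), ← GenT.app_eq hok, Nat.eq_of_beq_eq_true (allLt_spec h.2 j.val j.isLt)]) i hi hP
  rw [List.mem_singleton] at hr
  subst hr
  obtain ⟨hgm, hgf⟩ := Subgroup.mem_inf.1 hg
  have hgb : g • toSet st.2.1 = toSet c := by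
    rw [Tbl.el, eqB_eq hobj, Tbl.el, hobji] at he
    simpa [oset, Finset.smul_finset_singleton] using he
  refine ⟨g⁻¹, inv_mem hgm, fun j hj => ?_⟩
  rcases Nat.lt_succ_iff_lt_or_eq.1 hj with hj | rfl
  · refine ((hfix j hj).actW g⁻¹).trans (Or.inl ?_)
    rw [toWord_eq_indW, actW_indW, inv_smul_eq_iff.2 (show toSet _ = g • toSet _ from (Subgroup.mem_iInf.1 hgf ⟨j, hj⟩).symm)]
  · rw [← hst]
    refine (UpOne.actW g⁻¹ (show UpOne (f (toWord st.2.1)) (toWord c) from ?_)).trans (Or.inl ?_)
    · rw [toWord_eq_indW, toWord_eq_indW]; exact hpR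
    · rw [toWord_eq_indW, actW_indW, ← hgb, inv_smul_smul, toWord_eq_indW]

theorem code_span_ok : allLt (fun j =>
    allB (fun i => Nat.ble (i + 1) 12) (codeSpan.getD j []) &&
    Nat.beq ((codeSpan.getD j []).foldr (fun i acc => Nat.xor (cond (Nat.ble (i + 1) 11) (codeSteps.getD i (0, 0, [])).2.1 16777215) acc) 0)
      (golayBasis.getD j 0)) 12 = true ∧ allLt (fun j => inCodeT (codeSteps.getD j (0, 0, [])).2.1) 11 = true := by
  refine ⟨?_, ?_⟩ <;> decide +kernel

theorem fixed_all (hf : Resp f) (hfix : FixedUpTo f 11) {c : GolayPt → ZMod 2} (hc : c ∈ golayCode) : UpOne (f c) c := by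
  let S : Submodule (ZMod 2) (GolayPt → ZMod 2) :=
    { carrier := {w | w ∈ golayCode ∧ UpOne (f w) w}
      zero_mem' := ⟨zero_mem _, by
        have h := hf.add 0 (zero_mem _) 0 (zero_mem _)
        rwa [add_zero, CharTwo.add_self_eq_zero] at h⟩
      add_mem' := fun {a b} ha hb => ⟨add_mem ha.1 hb.1, (hf.add a ha.1 b hb.1).trans (ha.2.add hb.2)⟩
      smul_mem' := fun r a ha => by
        rcases (show ∀ r : ZMod 2, r = 0 ∨ r = 1 by decide) r with rfl | rfl
        · rw [zero_smul]
          refine ⟨zero_mem _, ?_⟩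
          have h := hf.add 0 (zero_mem _) 0 (zero_mem _)
          rwa [add_zero, CharTwo.add_self_eq_zero] at h
        · rwa [one_smul] }
  refine (code_le_of_basis (W := S) (fun b hb => ?_) hc).2
  obtain ⟨j, hj, rfl⟩ := List.mem_iff_getElem.1 hb
  have hlen : golayBasis.length = 12 := by decide
  have hjc := allLt_spec code_span_ok.1 j (by omega)
  simp only [Bool.and_eq_true, allB_iff, Nat.ble_eq] at hjc
  rw [← List.getD_eq_getElem _ 0 hj, ← Nat.eq_of_beq_eq_true hjc.2]
  have hks := hjc.1
  generalize codeSpan.getD j [] = l at hks ⊢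
  induction l with
  | nil => rw [List.foldr_nil, toWord_zero]; exact zero_mem S
  | cons i l ih =>
    rw [List.foldr_cons]
    show toWord (_ ^^^ _) ∈ S
    rw [toWord_xor]
    refine add_mem ?_ (ih fun x hx => hks x (List.mem_cons_of_mem _ hx))
    cases hi : Nat.ble (i + 1) 11 with
    | true =>
      rw [Nat.ble_eq] at hi
      exact ⟨mem_golayCode.2 ⟨_, mem_golayList_of_inCodeT (allLt_spec code_span_ok.2 i (by omega)), rfl⟩, hfix i (by omega)⟩
    | false =>
      rw [cond_false, ← one_eq_toWord]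
      exact ⟨one_mem_code, hf.one⟩

/-- A map respecting the orbits is induced by an element of the group, up to the constant word. -/
theorem Resp.induced (hf : Resp f) : ∃ σ ∈ M24, ∀ c ∈ golayCode, UpOne (f c) (actW σ c) := by
  have h0 : ∃ g ∈ M24, FixedUpTo (fun w => actW g (f w)) 1 := by
    have hb0 : toSet (codeSteps.getD 0 (0, 0, [])).2.1 ∈ octads := isOctB_spec (by decide +kernel)
    obtain ⟨p, hp, hR⟩ := hf.octad hb0
    obtain ⟨a, ha, hae⟩ := octads_transitive hb0
    obtain ⟨b, hb, hbe⟩ := octads_transitive hp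
    refine ⟨a * b⁻¹, mul_mem ha (inv_mem hb), fun j hj => ?_⟩
    obtain rfl : j = 0 := by omega
    rw [toWord_eq_indW]
    refine (hR.actW _).trans (Or.inl ?_)
    rw [actW_indW, mul_smul, ← hbe, inv_smul_smul, hae]
  have key : ∀ k, 1 ≤ k → k ≤ 11 → ∃ g ∈ M24, FixedUpTo (fun w => actW g (f w)) k := by
    intro k h1 h11
    induction k, h1 using Nat.le_induction with
    | base => exact h0
    | succ k hk ih =>
      obtain ⟨g, hg, hfix⟩ := ih (by omega)
      obtain ⟨g', hg', hfix'⟩ := code_step (hf.comp hg) (k := k) (by omega) (by omega) hfix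
      exact ⟨g' * g, mul_mem hg' hg, hfix'⟩
  obtain ⟨g, hg, hfix⟩ := key 11 (by omega) le_rfl
  refine ⟨g⁻¹, inv_mem hg, fun c hc => ?_⟩
  have := (fixed_all (hf.comp hg) hfix hc).actW g⁻¹
  rwa [← actW_mul, inv_mul_cancel, actW_one] at this

end CfsgLib.M24Cert
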