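import Cfsg.Agent.Lib.M24Cert.Lists

/-!
# Primitives that the kernel evaluates quickly

The recursors are used directly and the small functions are looked up in packed numbers.
-/

set_option autoImplicit false

namespace CfsgLib.M24Cert

open Cfsg CfsgLib.Golay

/-- All numbers below `n` pass. -/
noncomputable def allLt (P : ℕ → Bool) (n : ℕ) : Bool :=
  Nat.rec (motive := fun _ => Bool) true (fun k ih => P k && ih) n

/-- The number of numbers below `n` that pass. -/
noncomputable def countLt (P : ℕ → Bool) (n : ℕ) : ℕ :=
  Nat.rec (motive := fun _ => ℕ) 0 (fun k ih => cond (P k) (ih + 1) ih) n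

theorem allLt_spec {P : ℕ → Bool} : ∀ {n : ℕ}, allLt P n = true → ∀ i < n, P i = true
  | 0, _, _, hi => absurd hi (Nat.not_lt_zero _)
  | n + 1, h, i, hi => by
    have h' : (P n && allLt P n) = true := h
    simp only [Bool.and_eq_true] at h'
    rcases Nat.lt_succ_iff_lt_or_eq.1 hi with hi | rfl
    · exact allLt_spec h'.2 i hi
    · exact h'.1

theorem countLt_eq {P : ℕ → Bool} : ∀ n : ℕ,
    countLt P n = ((Finset.range n).filter fun i => P i = true).card
  | 0 => rfl
  | n + 1 => by
    rw [show countLt P (n + 1) = cond (P n) (countLt P n + 1) (countLt P n) from rfl, countLt_eq n,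
      Finset.range_add_one, Finset.filter_insert]
    cases h : P n with
    | true => rw [if_pos rfl, Finset.card_insert_of_notMem (by simp)]; rfl
    | false => rw [if_neg (by simp)]; rfl

/-- Every member passes. -/
noncomputable def allB {α : Type} (P : α → Bool) (l : List α) : Bool :=
  List.rec (motive := fun _ => Bool) true (fun a _ ih => P a && ih) l

theorem allB_iff {α : Type} {P : α → Bool} : ∀ {l : List α}, allB P l = true ↔ ∀ x ∈ l, P x = true
  | [] => by simp [allB]
  | a :: l => by
    rw [show allB P (a :: l) = (P a && allB P l) from rfl, Bool.and_eq_true, allB_iff (l := l), List.forall_mem_cons]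

/-- Some member passes. -/
noncomputable def anyB {α : Type} (P : α → Bool) (l : List α) : Bool :=
  List.rec (motive := fun _ => Bool) false (fun a _ ih => P a || ih) l

theorem anyB_iff {α : Type} {P : α → Bool} : ∀ {l : List α}, anyB P l = true ↔ ∃ x ∈ l, P x = true
  | [] => by simp [anyB]
  | a :: l => by
    rw [show anyB P (a :: l) = (P a || anyB P l) from rfl, Bool.or_eq_true, anyB_iff (l := l)]
    simp

/-- Membership. -/
noncomputable def memB (n : ℕ) (l : List ℕ) : Bool := anyB (fun a => Nat.beq a n) l

theorem memB_iff {n : ℕ} {l : List ℕ} : memB n l = true ↔ n ∈ l := by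
  rw [memB, anyB_iff]
  constructor
  · rintro ⟨a, ha, he⟩; rwa [Nat.eq_of_beq_eq_true he] at ha
  · exact fun h => ⟨n, h, Nat.beq_refl n⟩

/-- Equality of lists. -/
noncomputable def eqB (l : List ℕ) : List ℕ → Bool :=
  List.rec (motive := fun _ => List ℕ → Bool) (fun m => List.rec (motive := fun _ => Bool) true (fun _ _ _ => false) m)
    (fun a _ ih m => List.rec (motive := fun _ => Bool) false (fun b m' _ => Nat.beq a b && ih m') m) l

theorem eqB_eq : ∀ {l m : List ℕ}, eqB l m = true → l = m
  | [], [], _ => rfl
  | [], _ :: _, h => Bool.noConfusion h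
  | _ :: _, [], h => Bool.noConfusion h
  | a :: l, b :: m, h => by
    have h' : (Nat.beq a b && eqB l m) = true := h
    simp only [Bool.and_eq_true] at h'
    rw [Nat.eq_of_beq_eq_true h'.1, eqB_eq h'.2]

/-- Look up in a list, with default zero. -/
noncomputable def getR (l : List ℕ) : ℕ → ℕ :=
  List.rec (motive := fun _ => ℕ → ℕ) (fun _ => 0) (fun a _ ih i => cond (Nat.beq i 0) a (ih (i - 1))) l

/-- The sum of the values on a list. -/
noncomputable def sumB (f : ℕ → ℕ) (l : List ℕ) : ℕ :=
  List.rec (motive := fun _ => ℕ) 0 (fun a _ ih => f a + ih) l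

theorem sumB_eq (f : ℕ → ℕ) : ∀ l : List ℕ, sumB f l = (l.map f).sum
  | [] => rfl
  | a :: l => by rw [show sumB f (a :: l) = f a + sumB f l from rfl, sumB_eq f l, List.map_cons, List.sum_cons]

/-! ### Bit counts -/

/-- The bit counts below 256, four bits each. -/
def popPacked : ℕ := 95125173855764218123276304889944061997689682402263585766959741291920687686033329201817409157123347502415384089435969498586180241031507595463600295898153685276653211633572815512294064538494957912327413386667662218713394765509704508661031522276467630197481635010039778342554499416459730172574551513689147646224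

/-- The bit count below `2 ^ 24`. -/
def bc (n : ℕ) : ℕ :=
  (popPacked >>> (4 * (n % 256))) % 16 + (popPacked >>> (4 * (n / 256 % 256))) % 16 +
    (popPacked >>> (4 * (n / 65536 % 256))) % 16

theorem pop_spec : allLt (fun k => Nat.beq ((popPacked >>> (4 * k)) % 16) ((List.range 8).filter fun i => k.testBit i).length) 256 = true := by
  decide +kernel

theorem bitCount_eq_bc (n : ℕ) : bitCount n = bc n := by
  have h := fun k (hk : k < 256) => Nat.eq_of_beq_eq_true (allLt_spec pop_spec k hk)
  have e : ∀ (m c : ℕ), ((List.range' c 8).filter fun i => m.testBit i).length =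
      ((List.range 8).filter fun i => (m / 2 ^ c % 256).testBit i).length := by
    intro m c
    rw [List.range'_eq_map_range, List.filter_map, List.length_map]
    refine congrArg List.length (List.filter_congr fun i hi => ?_)
    have hi' : i < 8 := List.mem_range.1 hi
    show m.testBit (c + i) = _
    rw [show (256 : ℕ) = 2 ^ 8 from rfl, Nat.testBit_mod_two_pow, Nat.testBit_div_two_pow]
    simp [hi', Nat.add_comm]
  have hsplit : List.range 24 = List.range' 0 8 ++ List.range' 8 8 ++ List.range' 16 8 := by decide
  rw [bitCount, hsplit, List.filter_append, List.filter_append, List.length_append, List.length_append, e, e, e,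
    bc, h _ (Nat.mod_lt _ (by omega)), h _ (Nat.mod_lt _ (by omega)), h _ (Nat.mod_lt _ (by omega))]
  norm_num

theorem card_toSet_bc (n : ℕ) : (toSet n).card = bc n := by rw [card_toSet, bitCount_eq_bc]

/-! ### Membership in the code -/

/-- The code words with given low six bits, packed. -/
def codeLow : ℕ := 239510434820274484582990021118980983058065035983932422742857089676379683193280701497805739257111506311983523676792601614103705453893104186446304275556025705311706521679889737507838043027650129569524445515896878743591137186693463246848865625044561441637378123989740741737084160787267541966105167481045864428001303886005048377488815857689393365140475677037785323422672783152808326207574393042981716014969628508671865993941298976958860366526160550257688123870806016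

/-- The code words with given bits six to eleven, packed. -/
def codeHigh : ℕ := 2170801978877056321206066550973645231370018518148737010460888627484320594131954417005307800194815298264957691227617220182861712980008484935104406725257219755645831506356463650249473718557211287114430814465724194914313158489264210233264328116331432912057880136939143465690909374580877009309300185414866380981791077099760077532401440591524037543454007497739766655759863206419661742301300073101175805721402921519000902489630112648558377488461552587503226534655688704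

/-- A fast membership test for the code. -/
def inCodeT (n : ℕ) : Bool :=
  Nat.beq ((codeLow >>> (24 * (n % 64))) % 16777216 ^^^ (codeHigh >>> (24 * (n / 64 % 64))) % 16777216) n

theorem codeT_spec : allLt (fun k => inCode ((codeLow >>> (24 * k)) % 16777216) &&
    inCode ((codeHigh >>> (24 * k)) % 16777216)) 64 = true := by decide +kernel

theorem mem_golayList_of_inCodeT {n : ℕ} (h : inCodeT n = true) : n ∈ golayList := by
  rw [← Nat.eq_of_beq_eq_true h]
  have h1 := allLt_spec codeT_spec (n % 64) (Nat.mod_lt _ (by omega))
  have h2 := allLt_spec codeT_spec (n / 64 % 64) (Nat.mod_lt _ (by omega))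
  simp only [Bool.and_eq_true] at h1 h2
  exact xor_mem_spanList (mem_golayList_of_inCode h1.1) (mem_golayList_of_inCode h2.2)

/-! ### Images of masks by lookup -/

/-- A permutation list with packed images of the three bytes. -/
structure GenT where
  /-- The list of images. -/
  L : List ℕ
  /-- Images of the low byte. -/
  T0 : ℕ
  /-- Images of the middle byte. -/
  T1 : ℕ
  /-- Images of the high byte. -/
  T2 : ℕ

/-- The image of a mask by lookup. -/
def GenT.app (G : GenT) (n : ℕ) : ℕ :=
  (G.T0 >>> (24 * (n % 256))) % 16777216 ||| (G.T1 >>> (24 * (n / 256 % 256))) % 16777216 |||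
    (G.T2 >>> (24 * (n / 65536 % 256))) % 16777216

/-- The check of one packed byte table. -/
noncomputable def byteOk (L : List ℕ) (c T : ℕ) : Bool :=
  Nat.beq (T % 16777216) 0 && allLt (fun j =>
    let v := (T >>> (24 * 2 ^ j)) % 16777216
    Nat.beq v (2 ^ getR L (8 * c + j)) &&
      allLt (fun r => Nat.beq ((T >>> (24 * (2 ^ j + r))) % 16777216) (v ||| (T >>> (24 * r)) % 16777216)) (2 ^ j)) 8

theorem getR_eq : ∀ (l : List ℕ) (i : ℕ), getR l i = l.getD i 0
  | [], i => by cases i <;> rfl
  | a :: l, 0 => rfl
  | a :: l, i + 1 => by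
    rw [show getR (a :: l) (i + 1) = getR l i from rfl, getR_eq l i, List.getD_cons_succ]

theorem byteOk_spec {L : List ℕ} {c T : ℕ} (h : byteOk L c T = true) :
    ∀ b < 256, ∀ x, ((T >>> (24 * b)) % 16777216).testBit x = true ↔
      ∃ j < 8, b.testBit j = true ∧ L.getD (8 * c + j) 0 = x := by
  simp only [byteOk, Bool.and_eq_true] at h
  obtain ⟨h0, hrec⟩ := h
  suffices ∀ k ≤ 8, ∀ b < 2 ^ k, ∀ x, ((T >>> (24 * b)) % 16777216).testBit x = true ↔
      ∃ j < 8, b.testBit j = true ∧ L.getD (8 * c + j) 0 = x from fun b hb => this 8 le_rfl b hb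
  intro k
  induction k with
  | zero =>
    intro _ b hb x
    obtain rfl : b = 0 := by omega
    rw [Nat.mul_zero, Nat.shiftRight_zero, Nat.eq_of_beq_eq_true h0]
    simp
  | succ k ih =>
    intro hk b hb x
    by_cases hlt : b < 2 ^ k
    · exact ih (by omega) b hlt x
    obtain ⟨r, hr, rfl⟩ : ∃ r < 2 ^ k, b = 2 ^ k + r := ⟨b - 2 ^ k, by rw [Nat.pow_succ] at hb; omega, by omega⟩
    have hj := allLt_spec hrec k (by omega)
    simp only [Bool.and_eq_true] at hj
    rw [Nat.eq_of_beq_eq_true (allLt_spec hj.2 r hr), Nat.testBit_lor, Bool.or_eq_true,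
      ih (by omega) r hr x, Nat.eq_of_beq_eq_true hj.1, getR_eq, Nat.testBit_two_pow, decide_eq_true_eq]
    constructor
    · rintro (e | ⟨j, hj8, hb', hx⟩)
      · exact ⟨k, by omega, by rw [Nat.testBit_two_pow_add_eq, Nat.testBit_lt_two_pow hr]; rfl, e⟩
      · have hjk : j < k := by
          by_contra hc
          rw [Nat.testBit_lt_two_pow (hr.trans_le (Nat.pow_le_pow_right (by omega) (by omega)))] at hb'
          exact Bool.noConfusion hb'
        exact ⟨j, hj8, by rw [Nat.testBit_two_pow_add_gt hjk]; exact hb', hx⟩
    · rintro ⟨j, hj8, hb', hx⟩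
      rcases Nat.lt_trichotomy j k with hjk | rfl | hjk
      · exact Or.inr ⟨j, hj8, by rwa [Nat.testBit_two_pow_add_gt hjk] at hb', hx⟩
      · exact Or.inl hx
      · rw [Nat.testBit_lt_two_pow (lt_of_lt_of_le (show 2 ^ k + r < 2 ^ (k + 1) by rw [Nat.pow_succ]; omega)
          (Nat.pow_le_pow_right (by omega) hjk))] at hb'
        exact Bool.noConfusion hb'

/-- The check of a permutation with its tables. -/
noncomputable def GenT.ok (G : GenT) : Bool :=
  validL 24 G.L && byteOk G.L 0 G.T0 && byteOk G.L 1 G.T1 && byteOk G.L 2 G.T2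

theorem GenT.valid {G : GenT} (h : G.ok = true) : validL 24 G.L = true := by
  simp only [GenT.ok, Bool.and_eq_true] at h; exact h.1.1.1

theorem GenT.app_eq {G : GenT} (h : G.ok = true) (n : ℕ) : G.app n = imgF G.L n := by
  simp only [GenT.ok, Bool.and_eq_true] at h
  obtain ⟨⟨⟨hv, h0⟩, h1⟩, h2⟩ := h
  have hlen : G.L.length = 24 := (validL_iff.1 hv).1
  have hb : ∀ m : ℕ, m % 256 < 256 := fun m => Nat.mod_lt _ (by omega)
  have hbit : ∀ c j : ℕ, j < 8 → (n / 2 ^ (8 * c) % 256).testBit j = n.testBit (8 * c + j) := by
    intro c j hj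
    rw [show (256 : ℕ) = 2 ^ 8 from rfl, Nat.testBit_mod_two_pow, Nat.testBit_div_two_pow]
    simp [hj, Nat.add_comm]
  refine Nat.eq_of_testBit_eq fun x => Bool.eq_iff_iff.2 ?_
  rw [GenT.app, Nat.testBit_lor, Nat.testBit_lor, Bool.or_eq_true, Bool.or_eq_true, byteOk_spec h0 _ (hb _),
    byteOk_spec h1 _ (hb _), byteOk_spec h2 _ (hb _), testBit_imgF, hlen]
  constructor
  · rintro ((⟨j, hj, hb', hx⟩ | ⟨j, hj, hb', hx⟩) | ⟨j, hj, hb', hx⟩)
    · exact ⟨8 * 0 + j, by omega, by rw [← hbit 0 j hj]; simpa using hb', hx⟩
    · exact ⟨8 * 1 + j, by omega, by rw [← hbit 1 j hj]; simpa using hb', hx⟩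
    · exact ⟨8 * 2 + j, by omega, by rw [← hbit 2 j hj]; simpa using hb', hx⟩
  · rintro ⟨i, hi, hb', hx⟩
    obtain ⟨c, j, hj, rfl⟩ : ∃ c j, j < 8 ∧ i = 8 * c + j := ⟨i / 8, i % 8, Nat.mod_lt _ (by omega), by omega⟩
    rw [← hbit c j hj] at hb'
    obtain rfl | rfl | rfl : c = 0 ∨ c = 1 ∨ c = 2 := by omega
    · exact Or.inl (Or.inl ⟨j, hj, by simpa using hb', hx⟩)
    · exact Or.inl (Or.inr ⟨j, hj, by simpa using hb', hx⟩)
    · exact Or.inr ⟨j, hj, by simpa using hb', hx⟩

/-- A fast test that a permutation preserves the code. -/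
noncomputable def GenT.m24 (G : GenT) : Bool := G.ok && allB (fun b => inCodeT (G.app b)) golayBasis

theorem GenT.mem_M24 {G : GenT} (h : G.m24 = true) : pL G.L ∈ M24 := by
  simp only [GenT.m24, Bool.and_eq_true] at h
  refine mem_M24_of_basis _ fun b hb => ?_
  rw [smul_toSet_imgF (GenT.valid h.1), ← GenT.app_eq h.1]
  exact mem_supports.2 ⟨_, mem_golayList_of_inCodeT (allB_iff.1 h.2 b hb), rfl⟩

end CfsgLib.M24Cert
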