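import Cfsg.Agent.Lib.M24Cert.Enum
import Cfsg.Agent.Lib.M24Cert.NineData
import Cfsg.Agent.Lib.Golay.Dodecad

/-!
# The stabiliser of a dodecad and three points on it
-/

set_option autoImplicit false

namespace CfsgLib.M24Cert

open Cfsg CfsgLib.Golay

open scoped Pointwise

/-- The elements preserving the base dodecad and fixing its first three points. -/
def nineGroup : Subgroup (Equiv.Perm GolayPt) where
  carrier := {g | g ∈ M24 ∧ g • toSet baseDodecad = toSet baseDodecad ∧ g (pt 0) = pt 0 ∧ g (pt 1) = pt 1 ∧ g (pt 2) = pt 2}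
  one_mem' := ⟨one_mem _, one_smul _ _, rfl, rfl, rfl⟩
  mul_mem' := fun {a b} ha hb => ⟨mul_mem ha.1 hb.1, by rw [mul_smul, hb.2.1, ha.2.1],
    by rw [Equiv.Perm.mul_apply, hb.2.2.1, ha.2.2.1], by rw [Equiv.Perm.mul_apply, hb.2.2.2.1, ha.2.2.2.1],
    by rw [Equiv.Perm.mul_apply, hb.2.2.2.2, ha.2.2.2.2]⟩
  inv_mem' := fun {a} ha => ⟨inv_mem ha.1, inv_smul_eq_iff.2 ha.2.1.symm,
    a.symm_apply_eq.2 ha.2.2.1.symm, a.symm_apply_eq.2 ha.2.2.2.1.symm, a.symm_apply_eq.2 ha.2.2.2.2.symm⟩

theorem card_nineGroup : Nat.card nineGroup = 72 := by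
  classical
  let T := {q : GolayPt // q ∈ toSet baseDodecad ∧ q ≠ pt 0 ∧ q ≠ pt 1 ∧ q ≠ pt 2}
  have hbase : ∀ i : Fin 2, pt (3 + i.val) ∈ toSet baseDodecad ∧ pt (3 + i.val) ≠ pt 0 ∧ pt (3 + i.val) ≠ pt 1 ∧
      pt (3 + i.val) ≠ pt 2 := by decide +kernel
  have hmap : ∀ (g : nineGroup) (q : GolayPt), q ∈ toSet baseDodecad ∧ q ≠ pt 0 ∧ q ≠ pt 1 ∧ q ≠ pt 2 →
      g.val q ∈ toSet baseDodecad ∧ g.val q ≠ pt 0 ∧ g.val q ≠ pt 1 ∧ g.val q ≠ pt 2 := by
    rintro ⟨g, -, hd, h0, h1, h2⟩ q ⟨hq, n0, n1, n2⟩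
    refine ⟨?_, fun e => n0 (g.injective (e.trans h0.symm)), fun e => n1 (g.injective (e.trans h1.symm)),
      fun e => n2 (g.injective (e.trans h2.symm))⟩
    have := Finset.smul_mem_smul_finset (a := g) hq
    rwa [hd] at this
  let φ : nineGroup → (Fin 2 ↪ T) := fun g =>
    ⟨fun i => ⟨g.val (pt (3 + i.val)), hmap g _ (hbase i)⟩, fun i j e => Fin.ext (by
      have := pt_inj (by omega) (by omega) (g.val.injective (congrArg Subtype.val e))
      omega)⟩
  have hb5 : ∀ i : Fin 5, pt i.val ∈ toSet baseDodecad := by decide +kernel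
  let x : Fin 5 ↪ GolayPt := ⟨fun i => pt i.val, fun i j e => Fin.ext (pt_inj (by omega) (by omega) e)⟩
  have hM : ∀ g : nineGroup, g.val ∈ Cfsg.Spor.M12 := fun g => mem_M12.2 ⟨g.2.1, g.2.2.1⟩
  have hinj : Function.Injective φ := by
    intro g h e
    have e2 : ∀ i : Fin 2, g.val (pt (3 + i.val)) = h.val (pt (3 + i.val)) := fun i =>
      congrArg Subtype.val (DFunLike.congr_fun e i)
    obtain ⟨u, -, hu⟩ := M12_sharp x (x.trans ⟨g.val, g.val.injective⟩) (fun i => hb5 i) fun i => by
      have := Finset.smul_mem_smul_finset (a := g.val) (hb5 i)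
      rw [g.2.2.1] at this
      exact this
    have hh : ∀ i : Fin 5, h.val (x i) = g.val (x i) := fun i => by
      fin_cases i
      · exact h.2.2.2.1.trans g.2.2.2.1.symm
      · exact h.2.2.2.2.1.trans g.2.2.2.2.1.symm
      · exact h.2.2.2.2.2.trans g.2.2.2.2.2.symm
      · exact (e2 0).symm
      · exact (e2 1).symm
    have := (hu ⟨g.val, hM g⟩ fun i => rfl).trans (hu ⟨h.val, hM h⟩ hh).symm
    exact Subtype.ext (congrArg Subtype.val this :)
  have hsurj : Function.Surjective φ := by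
    intro y
    let z : Fin 5 ↪ GolayPt := ⟨fun i => [pt 0, pt 1, pt 2, (y 0).val, (y 1).val].get ⟨i.val, i.isLt⟩, by
      have hnd : [pt 0, pt 1, pt 2, (y 0).val, (y 1).val].Nodup := by
        have h01 : (y 0).val ≠ (y 1).val := fun e => absurd (y.injective (Subtype.ext e)) (by decide)
        simp only [List.nodup_cons, List.mem_cons, List.not_mem_nil, or_false, not_or, List.nodup_nil, and_true,
          not_false_iff]
        exact ⟨⟨by decide +kernel, by decide +kernel, Ne.symm (y 0).2.2.1, Ne.symm (y 1).2.2.1⟩,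
          ⟨by decide +kernel, Ne.symm (y 0).2.2.2.1, Ne.symm (y 1).2.2.2.1⟩,
          ⟨Ne.symm (y 0).2.2.2.2, Ne.symm (y 1).2.2.2.2⟩, h01⟩
      exact fun i j e => Fin.ext (Fin.ext_iff.1 ((List.nodup_iff_injective_get.1 hnd) e))⟩
    have hz : ∀ i, z i ∈ toSet baseDodecad := fun i => by
      fin_cases i
      · exact hb5 0
      · exact hb5 1
      · exact hb5 2
      · exact (y 0).2.1
      · exact (y 1).2.1
    obtain ⟨g, hg, -⟩ := M12_sharp x z (fun i => hb5 i) hz
    obtain ⟨hm, hd⟩ := mem_M12.1 g.2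
    refine ⟨⟨g.val, hm, hd, hg 0, hg 1, hg 2⟩, ?_⟩
    refine DFunLike.ext _ _ fun i => Subtype.ext ?_
    fin_cases i
    · exact hg 3
    · exact hg 4
  have hT : Nat.card T = 9 := by
    rw [Nat.card_eq_fintype_card, Fintype.card_subtype]
    decide +kernel
  rw [Nat.card_eq_of_bijective φ ⟨hinj, hsurj⟩, Nat.card_eq_fintype_card, Fintype.card_embedding_eq,
    ← Nat.card_eq_fintype_card, hT, Fintype.card_fin]
  rfl

/-- A power of a list. -/
def powL (L : List ℕ) : ℕ → List ℕ
  | 0 => List.range 24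
  | n + 1 => compL (powL L n) L

/-- The eight lists. -/
def quatList : List (List ℕ) :=
  (List.range 4).map (powL quatA) ++ (List.range 4).map fun i => compL quatX (powL quatA i)

/-- The list of an element of the quaternion group. -/
def quatOf : QuaternionGroup 2 → List ℕ
  | .a i => powL quatA (ZMod.val i)
  | .xa i => compL quatX (powL quatA (ZMod.val i))

theorem nine_checks :
    allB (fun L => m24B L && Nat.beq (imgR L baseDodecad) baseDodecad &&
      Nat.beq (getR L 0) 0 && Nat.beq (getR L 1) 1 && Nat.beq (getR L 2) 2) (nineList ++ [quatA, quatX]) = true ∧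
    nineList.Nodup ∧ nineList.length = 9 ∧ List.range 24 ∈ nineList ∧
    nineList.all (fun a => nineList.all fun b => nineList.contains (compL a b)) = true ∧
    nineList.all (fun a => compL a (compL a a) == List.range 24) = true ∧
    quatList.all (fun q => nineList.all fun n => nineList.any fun m => compL q n == compL m q) = true ∧
    (∀ a b : QuaternionGroup 2, quatOf (a * b) = compL (quatOf a) (quatOf b)) ∧
    (∀ a b : QuaternionGroup 2, quatOf a = quatOf b → a = b) := by
  refine ⟨?_, ?_, ?_, ?_, ?_, ?_, ?_, ?_, ?_⟩ <;> decide +kernel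

theorem nine_gens : ∀ L ∈ nineList ++ [quatA, quatX], validL 24 L = true ∧ pL L ∈ nineGroup := by
  intro L hL
  have h := allB_iff.1 nine_checks.1 L hL
  simp only [Bool.and_eq_true, Nat.beq_eq] at h
  obtain ⟨⟨⟨⟨h1, h2⟩, h3⟩, h4⟩, h5⟩ := h
  obtain ⟨hv, hm⟩ := mem_M24_of_m24B h1
  refine ⟨hv, hm, by rw [smul_toSet_imgF hv, ← imgR_eq, h2], ?_, ?_, ?_⟩ <;>
    rw [pL_pt hv (by omega), ← getR_eq] <;> simp [h3, h4, h5]

theorem powL_mem {L : List ℕ} (hv : validL 24 L = true) {K : Subgroup (Equiv.Perm GolayPt)} (hL : pL L ∈ K) :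
    ∀ n, validL 24 (powL L n) = true ∧ pL (powL L n) ∈ K
  | 0 => ⟨show validL 24 (List.range 24) = true by decide +kernel, by
      show pL (List.range 24) ∈ K
      rw [pL_range]; exact one_mem _⟩
  | n + 1 => by
    obtain ⟨h1, h2⟩ := powL_mem hv hL n
    refine ⟨validL_compL h1 hv, ?_⟩
    show pL (compL (powL L n) L) ∈ K
    rw [pL_compL h1 hv]; exact mul_mem h2 hL

theorem quatOf_mem (a : QuaternionGroup 2) : validL 24 (quatOf a) = true ∧ pL (quatOf a) ∈ nineGroup := by
  obtain ⟨hA, hAm⟩ := nine_gens quatA (by simp)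
  obtain ⟨hX, hXm⟩ := nine_gens quatX (by simp)
  cases a with
  | a i => exact powL_mem hA hAm _
  | xa i =>
    obtain ⟨h1, h2⟩ := powL_mem hA hAm (ZMod.val i)
    exact ⟨validL_compL hX h1, by show pL (compL quatX _) ∈ _; rw [pL_compL hX h1]; exact mul_mem hXm h2⟩

theorem quatOf_list (a : QuaternionGroup 2) : quatOf a ∈ quatList := by
  cases a with
  | a i => exact List.mem_append_left _ (List.mem_map.2 ⟨_, List.mem_range.2 (ZMod.val_lt i), rfl⟩)
  | xa i => exact List.mem_append_right _ (List.mem_map.2 ⟨_, List.mem_range.2 (ZMod.val_lt i), rfl⟩)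

/-- The quaternion group inside. -/
noncomputable def quatHom : QuaternionGroup 2 →* nineGroup :=
  MonoidHom.mk' (fun a => ⟨pL (quatOf a), (quatOf_mem a).2⟩) fun a b => Subtype.ext (by
    show pL (quatOf (a * b)) = pL (quatOf a) * pL (quatOf b)
    rw [nine_checks.2.2.2.2.2.2.2.1 a b, pL_compL (quatOf_mem a).1 (quatOf_mem b).1])

theorem quatHom_injective : Function.Injective quatHom := fun a b e =>
  nine_checks.2.2.2.2.2.2.2.2 a b (pL_inj (quatOf_mem a).1 (quatOf_mem b).1 (congrArg Subtype.val e :))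

theorem nine_valid {L : List ℕ} (h : L ∈ nineList) : validL 24 L = true :=
  (nine_gens L (List.mem_append_left _ h)).1

theorem nine_cube {L : List ℕ} (h : L ∈ nineList) : pL L * (pL L * pL L) = 1 := by
  have := List.all_eq_true.1 nine_checks.2.2.2.2.2.1 L h
  simp only [beq_iff_eq] at this
  rw [← pL_compL (nine_valid h) (nine_valid h), ← pL_compL (nine_valid h) (validL_compL (nine_valid h) (nine_valid h)),
    this, pL_range]

/-- The normal part. -/
noncomputable def nineNormal : Subgroup nineGroup where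
  carrier := {g | ∃ L ∈ nineList, g.val = pL L}
  one_mem' := ⟨_, nine_checks.2.2.2.1, by rw [pL_range]; rfl⟩
  mul_mem' := by
    rintro a b ⟨L, hL, ea⟩ ⟨M, hM, eb⟩
    have := List.all_eq_true.1 nine_checks.2.2.2.2.1 L hL
    simp only [List.all_eq_true, List.contains_iff_mem] at this
    exact ⟨_, this M hM, by rw [Subgroup.coe_mul, ea, eb, pL_compL (nine_valid hL) (nine_valid hM)]⟩
  inv_mem' := by
    rintro a ⟨L, hL, ea⟩
    have := List.all_eq_true.1 nine_checks.2.2.2.2.1 L hL
    simp only [List.all_eq_true, List.contains_iff_mem] at this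
    refine ⟨_, this L hL, ?_⟩
    rw [Subgroup.coe_inv, ea, pL_compL (nine_valid hL) (nine_valid hL)]
    exact inv_eq_of_mul_eq_one_right (nine_cube hL)

theorem card_nineNormal : Nat.card nineNormal = 9 := by
  obtain ⟨-, hnd, hlen, -⟩ := nine_checks
  rw [← hlen, ← List.toFinset_card_of_nodup hnd, ← Nat.card_eq_finsetCard]
  refine (Nat.card_eq_of_bijective (fun L : ↥nineList.toFinset =>
    (⟨⟨pL L.val, (nine_gens L.val (List.mem_append_left _ (List.mem_toFinset.1 L.2))).2⟩,
      L.val, List.mem_toFinset.1 L.2, rfl⟩ : nineNormal)) ⟨fun a b e => Subtype.ext (pL_inj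
        (nine_valid (List.mem_toFinset.1 a.2)) (nine_valid (List.mem_toFinset.1 b.2))
        (congrArg (fun x : nineNormal => x.val.val) e :)), ?_⟩).symm
  rintro ⟨g, L, hL, e⟩
  exact ⟨⟨L, List.mem_toFinset.2 hL⟩, Subtype.ext (Subtype.ext e.symm)⟩

theorem nineNormal_pow {g : nineGroup} (h : g ∈ nineNormal) : g ^ 3 = 1 := by
  obtain ⟨L, hL, e⟩ := h
  refine Subtype.ext ?_
  rw [Subgroup.coe_pow, e, pow_succ, pow_two, mul_assoc]
  exact nine_cube hL

theorem card_quatRange : Nat.card quatHom.range = 8 := by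
  rw [← Nat.card_congr (MonoidHom.ofInjective quatHom_injective).toEquiv, Nat.card_eq_fintype_card]
  rfl

theorem nine_sup : nineNormal ⊔ quatHom.range = ⊤ := by
  refine Subgroup.eq_top_of_card_eq _ (le_antisymm (Subgroup.card_le_card_group _) ?_)
  rw [card_nineGroup]
  have h1 : Nat.card nineNormal ∣ Nat.card ↥(nineNormal ⊔ quatHom.range) := Subgroup.card_dvd_of_le le_sup_left
  have h2 : Nat.card quatHom.range ∣ Nat.card ↥(nineNormal ⊔ quatHom.range) := Subgroup.card_dvd_of_le le_sup_right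
  rw [card_nineNormal] at h1
  rw [card_quatRange] at h2
  have := Nat.Coprime.mul_dvd_of_dvd_of_dvd (by norm_num : Nat.Coprime 9 8) h1 h2
  exact Nat.le_of_dvd Nat.card_pos this

theorem nineNormal_normal : nineNormal.Normal := by
  refine Subgroup.normalizer_eq_top_iff.1 (top_le_iff.1 ?_)
  rw [← nine_sup, sup_le_iff]
  refine ⟨Subgroup.le_normalizer, ?_⟩
  rintro _ ⟨a, rfl⟩
  have hmap : nineNormal.map (MulAut.conj (quatHom a)).toMonoidHom = nineNormal := by
    refine Subgroup.eq_of_le_of_card_ge ?_ (by rw [Subgroup.card_map_of_injective (MulAut.conj (quatHom a)).injective])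
    rintro _ ⟨g, ⟨L, hL, e⟩, rfl⟩
    have h := List.all_eq_true.1 nine_checks.2.2.2.2.2.2.1 _ (quatOf_list a)
    simp only [List.all_eq_true, List.any_eq_true, beq_iff_eq] at h
    obtain ⟨M, hM, hM'⟩ := h L hL
    refine ⟨M, hM, ?_⟩
    show pL (quatOf a) * g.val * (pL (quatOf a))⁻¹ = pL M
    rw [e, mul_inv_eq_iff_eq_mul, ← pL_compL (quatOf_mem a).1 (nine_valid hL), hM',
      pL_compL (nine_valid hM) (quatOf_mem a).1]
  rw [Subgroup.mem_normalizer_iff]
  intro z
  conv_rhs => rw [← hmap]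
  exact (Subgroup.mem_map_iff_mem (MulAut.conj (quatHom a)).injective).symm

/-- The Sylow subgroups of a group isomorphic to the stabiliser. -/
theorem nine_sylow {G : Type*} [Group G] [Finite G] (e : G ≃* nineGroup) :
    (∀ Q : Sylow 3 G, (Q : Subgroup G).Normal ∧ Nat.card ↥Q = 9 ∧ ∀ x ∈ (Q : Subgroup G), x ^ 3 = 1) ∧
      ∀ P : Sylow 2 G, Nonempty (↥P ≃* QuaternionGroup 2) := by
  have : Fact (Nat.Prime 3) := ⟨Nat.prime_three⟩
  have : Fact (Nat.Prime 2) := ⟨Nat.prime_two⟩
  have hG : Nat.card G = 72 := (Nat.card_congr e.toEquiv).trans card_nineGroup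
  have f2 : (72 : ℕ).factorization 2 = 3 := by
    rw [show (72 : ℕ) = 2 ^ 3 * 3 ^ 2 by norm_num, Nat.factorization_mul (by norm_num) (by norm_num),
      Nat.prime_two.factorization_pow, Nat.prime_three.factorization_pow]
    simp
  have f3 : (72 : ℕ).factorization 3 = 2 := by
    rw [show (72 : ℕ) = 2 ^ 3 * 3 ^ 2 by norm_num, Nat.factorization_mul (by norm_num) (by norm_num),
      Nat.prime_two.factorization_pow, Nat.prime_three.factorization_pow]
    simp
  refine ⟨fun Q => ?_, fun P => ?_⟩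
  · let N : Subgroup G := nineNormal.comap e.toMonoidHom
    have hN : N.Normal := nineNormal_normal.comap _
    have hNc : Nat.card N = 9 := (Nat.card_congr (e.toEquiv.subtypeEquiv fun x => Iff.rfl)).trans card_nineNormal
    have hQ : Nat.card Q = 9 := by rw [Q.card_eq_multiplicity, hG, f3]; rfl
    have hp : IsPGroup 3 N := IsPGroup.of_card (n := 2) (by rw [hNc]; rfl)
    obtain ⟨R, hR⟩ := hp.exists_le_sylow
    obtain ⟨g, hg⟩ := MulAction.exists_smul_eq G R Q
    have hRc : Nat.card R = 9 := by rw [R.card_eq_multiplicity, hG, f3]; rfl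
    have hRN : N = R := Subgroup.eq_of_le_of_card_ge hR (by rw [hNc]; exact hRc.le)
    have hQN : (Q : Subgroup G) = N := by
      rw [← hg, Sylow.coe_subgroup_smul, ← hRN]
      exact Subgroup.Normal.conjAct hN g
    refine ⟨hQN ▸ hN, hQ, fun x hx => ?_⟩
    rw [hQN] at hx
    exact e.injective (by rw [map_pow, map_one]; exact nineNormal_pow hx)
  · let H : Subgroup G := quatHom.range.map e.symm.toMonoidHom
    have hH : Nat.card H = 8 := by rw [Subgroup.card_map_of_injective e.symm.injective, card_quatRange]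
    let P₀ : Sylow 2 G := Sylow.ofCard H (by rw [hH, hG, f2]; rfl)
    refine ⟨(Sylow.equiv P P₀).trans ?_⟩
    exact ((Subgroup.equivMapOfInjective quatHom.range e.symm.toMonoidHom e.symm.injective).symm).trans
      (MonoidHom.ofInjective quatHom_injective).symm

end CfsgLib.M24Cert
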