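import Cfsg.Agent.Lib.M24Cert.ClassFacts
import Cfsg.Agent.Lib.M24Cert.Nine
import Cfsg.Agent.Lib.M24Cert.Frob253Data
import Cfsg.Agent.Lib.Golay.M24Sub

/-!
# The groups 23:11 and PSL(2, 23) on the projective line, and the overgroups of the first inside M₂₃
-/

set_option autoImplicit false

namespace CfsgLib.M24Cert.Frob253

open Cfsg CfsgLib.Golay

open scoped Pointwise

/-- The nonzero squares modulo 23. -/
def squares : List ℕ := [1, 2, 3, 4, 6, 8, 9, 12, 13, 16, 18]

/-- The affine map `i ↦ u i + v`. -/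
def affL (u v : ℕ) : List ℕ := (List.range 23).map (fun i => (u * i + v) % 23) ++ [23]

/-- The lists of the affine maps with square multiplier. -/
def affList : List (List ℕ) := squares.flatMap fun u => (List.range 23).map fun v => affL u v

/-- The group generated by the translation and the multiplication by two. -/
def frob : Subgroup (Equiv.Perm GolayPt) :=
  Subgroup.closure {pL transL, pL (mulList 2)}

/-- Coset representatives of the point stabiliser in PSL(2, 23). -/
def tr (j : ℕ) : List ℕ := if j = 23 then List.range 24 else compL (affL 1 j) projL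

/-- The group PSL(2, 23). -/
def psl : Subgroup (Equiv.Perm GolayPt) :=
  Subgroup.closure {pL transL, pL (mulList 2), pL projL}

set_option maxHeartbeats 4000000 in
theorem aff_checks : (affList.all fun L => validL 24 L && m24Test L && L.getD 23 0 == 23) = true ∧
    (affList.map fun L => 32 * L.getD 0 0 + L.getD 1 0).Nodup ∧ affList.length = 253 ∧ List.range 24 ∈ affList ∧
    (affList.all fun L => affList.contains (compL transL L) && affList.contains (compL (mulList 2) L)) = true ∧
    (affList.all fun L => compL L transL == compL (affL 1 ((L.getD 1 0 + 23 - L.getD 0 0) % 23)) L) = true ∧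
    validL 24 transL = true ∧ validL 24 (mulList 2) = true ∧ validL 24 projL = true ∧
    (∀ j : Fin 24, validL 24 (tr j.val) = true ∧ (tr j.val).getD 23 0 = j.val) := by
  refine ⟨?_, ?_, ?_, ?_, ?_, ?_, ?_, ?_, ?_, ?_⟩ <;> decide +kernel

theorem gens_mem_M24 : pL transL ∈ M24 ∧ pL (mulList 2) ∈ M24 ∧ pL projL ∈ M24 :=
  ⟨translation_mem, mem_M24_of_test (by decide +kernel), projInv_mem⟩

set_option maxHeartbeats 4000000 in
theorem word_checks : (squares.all fun u => (List.range 23).all fun v => affL u v == compL (affL 1 v) (affL u 0)) = true ∧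
    ((List.range 23).all fun v => affL 1 v == powL transL v) = true ∧
    (squares.all fun u => (List.range 11).any fun m => affL u 0 == powL (mulList 2) m) = true := by
  refine ⟨?_, ?_, ?_⟩ <;> decide +kernel

set_option maxHeartbeats 4000000 in
theorem step_check : (List.range 24).all (fun j => [transL, mulList 2, projL].all fun g =>
      (fun j' => (fun b => decide (j' < 24) && affList.contains b && compL g (tr j) == compL (tr j') b)
        (compL (invL (tr j')) (compL g (tr j)))) ((compL g (tr j)).getD 23 0)) = true := by decide +kernel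

theorem closure_subset {G : Type*} [Group G] {T : Set G} (hT : T.Finite) {S : Set G} (h1 : (1 : G) ∈ T)
    (h : ∀ g ∈ S, ∀ x ∈ T, g * x ∈ T) : (Subgroup.closure S : Set G) ⊆ T := by
  let K : Subgroup G :=
    { carrier := {g | ∀ x, g * x ∈ T ↔ x ∈ T}
      one_mem' := fun x => by rw [one_mul]
      mul_mem' := fun {a b} ha hb x => by rw [mul_assoc, ha, hb]
      inv_mem' := fun {a} ha x => by
        have := ha (a⁻¹ * x)
        rw [mul_inv_cancel_left] at this
        exact this.symm }
  have hle : Subgroup.closure S ≤ K := by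
    rw [Subgroup.closure_le]
    intro g hg x
    refine ⟨fun hx => ?_, h g hg x⟩
    haveI := hT.to_subtype
    have hinj : Function.Injective fun y : T => (⟨g * y.val, h g hg y.val y.2⟩ : T) := fun a b e =>
      Subtype.ext (mul_left_cancel (congrArg Subtype.val e))
    obtain ⟨y, hy⟩ := Finite.injective_iff_surjective.1 hinj ⟨g * x, hx⟩
    have e : g * y.val = g * x := congrArg Subtype.val hy
    rw [← mul_left_cancel e]
    exact y.2
  intro g hg
  have := (hle hg 1).2 h1
  rwa [mul_one] at this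

theorem aff_spec {L : List ℕ} (h : L ∈ affList) :
    validL 24 L = true ∧ pL L ∈ M24 ∧ pL L ∈ frob ∧ L.getD 23 0 = 23 := by
  have h1 := List.all_eq_true.1 aff_checks.1 L h
  simp only [Bool.and_eq_true, beq_iff_eq] at h1
  refine ⟨h1.1.1, mem_M24_of_test h1.1.2, ?_, h1.2⟩
  obtain ⟨u, hu, h⟩ := List.mem_flatMap.1 h
  obtain ⟨v, hv, rfl⟩ := List.mem_map.1 h
  have hw := word_checks
  simp only [List.all_eq_true, List.any_eq_true, beq_iff_eq] at hw
  obtain ⟨m, -, e'⟩ := hw.2.2 u hu
  have e := hw.1 u hu v hv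
  rw [hw.2.1 v hv, e'] at e
  have hv1 := powL_mem aff_checks.2.2.2.2.2.2.1 (K := frob) (Subgroup.subset_closure (Or.inl rfl)) v
  have hv2 := powL_mem aff_checks.2.2.2.2.2.2.2.1 (K := frob) (Subgroup.subset_closure (Or.inr rfl)) m
  rw [e, pL_compL hv1.1 hv2.1]
  exact mul_mem hv1.2 hv2.2

theorem mem_frob_iff {g : Equiv.Perm GolayPt} : g ∈ frob ↔ ∃ L ∈ affList, g = pL L := by
  refine ⟨fun hg => ?_, fun ⟨L, hL, e⟩ => e ▸ (aff_spec hL).2.2.1⟩
  have hc := closure_subset (T := {g | ∃ L ∈ affList, g = pL L}) (S := {pL transL, pL (mulList 2)})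
    (Set.toFinite _) ⟨_, aff_checks.2.2.2.1, pL_range.symm⟩ (fun g hg x hx => by
      obtain ⟨L, hL, rfl⟩ := hx
      have h := List.all_eq_true.1 aff_checks.2.2.2.2.1 L hL
      simp only [Bool.and_eq_true, List.contains_iff_mem] at h
      rcases hg with rfl | rfl
      · exact ⟨_, h.1, (pL_compL aff_checks.2.2.2.2.2.2.1 (aff_spec hL).1).symm⟩
      · exact ⟨_, h.2, (pL_compL aff_checks.2.2.2.2.2.2.2.1 (aff_spec hL).1).symm⟩)
  exact hc hg

theorem frob_le : frob ≤ M24 ⊓ MulAction.stabilizer (Equiv.Perm GolayPt) (pt 23) := by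
  intro g hg
  obtain ⟨L, hL, rfl⟩ := mem_frob_iff.1 hg
  obtain ⟨hv, hm, -, h⟩ := aff_spec hL
  refine ⟨hm, ?_⟩
  show pL L (pt 23) = pt 23
  rw [pL_pt hv (by omega), h]

theorem card_frob : Nat.card frob = 253 := by
  let F : {L // L ∈ affList} → frob := fun L => ⟨pL L.1, (aff_spec L.2).2.2.1⟩
  have hF : Function.Bijective F := by
    refine ⟨fun L L' h => Subtype.ext (pL_inj (aff_spec L.2).1 (aff_spec L'.2).1 (congrArg Subtype.val h)), fun g => ?_⟩
    obtain ⟨L, hL, hg⟩ := mem_frob_iff.1 g.2
    exact ⟨⟨L, hL⟩, Subtype.ext hg.symm⟩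
  rw [← Nat.card_congr (Equiv.ofBijective F hF), Nat.card_eq_fintype_card, Fintype.card_of_subtype
    affList.toFinset (fun L => List.mem_toFinset), List.toFinset_card_of_nodup (List.Nodup.of_map _ aff_checks.2.1)]
  exact aff_checks.2.2.1

theorem frob_le_psl : frob ≤ psl :=
  Subgroup.closure_mono fun g hg => hg.elim (fun h => Or.inl h) fun h => Or.inr (Or.inl h)

theorem tr_mem (j : Fin 24) : validL 24 (tr j.val) = true ∧ pL (tr j.val) ∈ psl ∧ pL (tr j.val) (pt 23) = pt j.val := by
  obtain ⟨hv, h23⟩ := aff_checks.2.2.2.2.2.2.2.2.2 j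
  refine ⟨hv, ?_, by rw [pL_pt hv (by omega), h23]⟩
  by_cases hj : j.val = 23
  · rw [tr, if_pos hj, pL_range]; exact one_mem _
  · have hA : affL 1 j.val ∈ affList :=
      List.mem_flatMap.2 ⟨1, by decide, List.mem_map.2 ⟨j.val, List.mem_range.2 (by omega), rfl⟩⟩
    rw [tr, if_neg hj, pL_compL (aff_spec hA).1 aff_checks.2.2.2.2.2.2.2.2.1]
    exact mul_mem (frob_le_psl (aff_spec hA).2.2.1) (Subgroup.subset_closure (Or.inr (Or.inr rfl)))

theorem mem_psl_iff {g : Equiv.Perm GolayPt} : g ∈ psl ↔ ∃ j : Fin 24, ∃ h ∈ frob, g = pL (tr j.val) * h := by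
  refine ⟨fun hg => ?_, fun ⟨j, h, hh, e⟩ => e ▸ mul_mem (tr_mem j).2.1 (frob_le_psl hh)⟩
  have hc := closure_subset (T := {g | ∃ j : Fin 24, ∃ h ∈ frob, g = pL (tr j.val) * h})
    (S := {pL transL, pL (mulList 2), pL projL})
    (Set.toFinite _) ⟨23, 1, one_mem _, by rw [mul_one]; exact pL_range.symm⟩ (fun g hg x hx => by
      obtain ⟨j, h, hh, rfl⟩ := hx
      obtain ⟨G, hG, hGv, rfl⟩ : ∃ G ∈ [transL, mulList 2, projL], validL 24 G = true ∧ g = pL G := by
        rcases hg with rfl | rfl | rfl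
        exacts [⟨_, by simp, aff_checks.2.2.2.2.2.2.1, rfl⟩, ⟨_, by simp, aff_checks.2.2.2.2.2.2.2.1, rfl⟩,
          ⟨_, by simp, aff_checks.2.2.2.2.2.2.2.2.1, rfl⟩]
      have hs := step_check
      simp only [List.all_eq_true, beq_iff_eq, List.mem_range, Bool.and_eq_true, decide_eq_true_eq,
        List.contains_iff_mem] at hs
      obtain ⟨⟨hj', hb⟩, e⟩ := hs j.val j.isLt G hG
      set j' := (compL G (tr j.val)).getD 23 0
      set b := compL (invL (tr j')) (compL G (tr j.val))
      refine ⟨⟨j', hj'⟩, pL b * h, mul_mem (aff_spec hb).2.2.1 hh, ?_⟩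
      rw [← mul_assoc, ← mul_assoc, ← pL_compL hGv (tr_mem j).1, e,
        pL_compL (tr_mem ⟨j', hj'⟩).1 (aff_spec hb).1])
  exact hc hg

theorem psl_le_M24 : psl ≤ M24 := by
  rw [psl, Subgroup.closure_le]
  rintro g (rfl | rfl | rfl)
  exacts [gens_mem_M24.1, gens_mem_M24.2.1, gens_mem_M24.2.2]

theorem card_psl : Nat.card psl = 6072 := by
  let F : Fin 24 × frob → psl := fun a => ⟨pL (tr a.1.val) * a.2.val, mul_mem (tr_mem a.1).2.1 (frob_le_psl a.2.2)⟩
  have hfix : ∀ h : frob, h.val (pt 23) = pt 23 := fun h => (frob_le h.2).2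
  have hF : Function.Bijective F := by
    refine ⟨fun a b e => ?_, fun g => ?_⟩
    · have e' : pL (tr a.1.val) * a.2.val = pL (tr b.1.val) * b.2.val := congrArg Subtype.val e
      have h1 := congrArg (fun x : Equiv.Perm GolayPt => x (pt 23)) e'
      simp only [Equiv.Perm.mul_apply, hfix, (tr_mem _).2.2] at h1
      have hj : a.1 = b.1 := Fin.ext (pt_inj a.1.isLt b.1.isLt h1)
      rw [hj] at e'
      exact Prod.ext hj (Subtype.ext (mul_left_cancel e'))
    · obtain ⟨j, h, hh, e⟩ := mem_psl_iff.1 g.2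
      exact ⟨(j, ⟨h, hh⟩), Subtype.ext e.symm⟩
  rw [← Nat.card_congr (Equiv.ofBijective F hF), Nat.card_prod, card_frob, Nat.card_fin]

/-! ### The point stabiliser M₂₃ -/

/-- The stabiliser of the extra point in the group of the code. -/
def stabInf : Subgroup (Equiv.Perm GolayPt) := M24 ⊓ MulAction.stabilizer (Equiv.Perm GolayPt) (pt 23)

theorem mem_stabInf {g : Equiv.Perm GolayPt} : g ∈ stabInf ↔ g ∈ M24 ∧ g (pt 23) = pt 23 := Iff.rfl

theorem mult_checks : (∀ k : Fin 23, k.val ≠ 0 → k.val ∈ squares ∨ ∃ u : Fin 23, u.val ∈ squares ∧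
      compL (affL k.val 0) (affL u.val 0) = affL 22 0) ∧
    validL 24 (affL 22 0) = true ∧ compL (affL 22 0) (affL 22 0) = List.range 24 ∧ affL 22 0 ≠ List.range 24 ∧
    ((List.range 24).filter fun i => (affL 22 0).getD i 0 == i).length = 2 := by
  refine ⟨?_, ?_, ?_, ?_, ?_⟩ <;> decide +kernel

theorem neg_not_mem : pL (affL 22 0) ∉ M24 := by
  intro hg
  obtain ⟨-, hv, h2, hne, hf⟩ := mult_checks
  have ho : orderOf (pL (affL 22 0)) = 2 := orderOf_eq_prime (by rw [pow_two, ← pL_compL hv hv, h2, pL_range])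
    fun e => hne (pL_inj hv (by decide) (e.trans pL_range.symm))
  have hcard : (Finset.univ.filter fun p => pL (affL 22 0) p = p).card = 2 := by
    have e : (Finset.univ.filter fun p => pL (affL 22 0) p = p) =
        Finset.univ.filter fun p => (affL 22 0).getD (ptEquiv p).val 0 = (ptEquiv p).val := by
      refine Finset.filter_congr fun p _ => ?_
      rw [← ptEquiv.injective.eq_iff, Fin.ext_iff, permOf_apply ptEquiv hv]
    rw [e]
    decide +kernel
  obtain ⟨u, -, h | h⟩ := inv_cases hg ho <;> omega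

theorem normalizer_step {g : Equiv.Perm GolayPt} (hg : g ∈ stabInf) {k : ℕ}
    (h : g * pL transL * g⁻¹ = pL transL ^ k) : g ∈ frob := by
  obtain ⟨hm, h23⟩ := mem_stabInf.1 hg
  obtain ⟨a, ha, hga⟩ := exists_pt (g (pt 0))
  have ha23 : a ≠ 23 := fun e => by
    rw [e] at hga
    exact absurd (pt_inj (by omega) (by omega) (g.injective (h23.trans hga))) (by omega)
  have hU : pL transL ∈ frob := Subgroup.subset_closure (Or.inl rfl)
  have hpow : ∀ n i : ℕ, i < 23 → (pL transL ^ n) (pt i) = pt ((i + n) % 23) := by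
    intro n
    induction n with
    | zero => intro i hi; simp [Nat.mod_eq_of_lt hi]
    | succ n ih =>
      intro i hi
      have hstep : ∀ m : Fin 23, transL.getD m.val 0 = (m.val + 1) % 23 := by decide +kernel
      have hm : (i + n) % 23 < 23 := Nat.mod_lt _ (by omega)
      rw [pow_succ', Equiv.Perm.mul_apply, ih i hi, pL_pt aff_checks.2.2.2.2.2.2.1 (by omega),
        hstep ⟨_, hm⟩]
      congr 1
      show ((i + n) % 23 + 1) % 23 = (i + (n + 1)) % 23
      omega
  set g' := (pL transL ^ a)⁻¹ * g with hg'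
  have h0 : g' (pt 0) = pt 0 := by
    rw [hg', Equiv.Perm.mul_apply, Equiv.Perm.inv_eq_iff_eq, hpow a 0 (by omega), ← hga]
    congr 1
    omega
  have hcomm : g' * pL transL = pL transL ^ k * g' := by
    have h' := mul_inv_eq_iff_eq_mul.1 h
    rw [hg', mul_assoc, h', ← mul_assoc, ← mul_assoc]
    congr 1
    exact (Commute.pow_pow_self (pL transL) k a).inv_right.eq.symm
  have hlin : ∀ i, i < 23 → g' (pt i) = pt (k * i % 23) := by
    intro i
    induction i with
    | zero => intro _; rw [h0]; simp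
    | succ i ih =>
      intro hi
      have e := congrArg (fun x : Equiv.Perm GolayPt => x (pt i)) hcomm
      have h1 := hpow 1 i (by omega)
      rw [pow_one, Nat.mod_eq_of_lt hi] at h1
      simp only [Equiv.Perm.mul_apply, h1, ih (by omega)] at e
      rw [e, hpow k _ (Nat.mod_lt _ (by omega)), Nat.mod_add_mod, Nat.mul_succ]
  have h23' : g' (pt 23) = pt 23 := by
    rw [hg', Equiv.Perm.mul_apply, h23, Equiv.Perm.inv_eq_iff_eq]
    exact ((frob_le (pow_mem hU a)).2).symm
  have hk0 : k % 23 ≠ 0 := by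
    intro h
    have e := hlin 1 (by omega)
    rw [mul_one, h, ← h0] at e
    exact absurd (pt_inj (by omega) (by omega) (g'.injective e)) (by omega)
  have heq : ∀ {L : List ℕ}, validL 24 L = true → L = affL (k % 23) 0 → g' = pL L := by
    intro L hv hL
    refine Equiv.ext fun p => ?_
    obtain ⟨i, hi, rfl⟩ := exists_pt p
    rw [pL_pt hv hi, hL]
    rcases eq_or_ne i 23 with rfl | hne
    · rw [h23']
      congr 1
    · rw [hlin i (by omega)]
      congr 1
      rw [affL, List.getD_append _ _ _ _ (by simp; omega), List.getD_eq_getElem _ _ (by simp; omega)]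
      simp [Nat.mul_mod]
  have hg'mem : g' ∈ M24 := mul_mem (inv_mem (frob_le (pow_mem hU a)).1) hm
  suffices g' ∈ frob by
    have := mul_mem (pow_mem hU a) this
    rwa [hg', mul_inv_cancel_left] at this
  rcases mult_checks.1 ⟨k % 23, Nat.mod_lt _ (by omega)⟩ hk0 with h | ⟨u, hu, he⟩
  · have hA : affL (k % 23) 0 ∈ affList :=
      List.mem_flatMap.2 ⟨_, h, List.mem_map.2 ⟨0, List.mem_range.2 (by omega), rfl⟩⟩
    rw [heq (aff_spec hA).1 rfl]
    exact (aff_spec hA).2.2.1
  · exfalso
    have hv : ∀ m : Fin 23, m.val ≠ 0 → validL 24 (affL m.val 0) = true := by decide +kernel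
    have hkv : validL 24 (affL (k % 23) 0) = true := hv ⟨k % 23, Nat.mod_lt _ (by omega)⟩ hk0
    have hA : affL u.val 0 ∈ affList :=
      List.mem_flatMap.2 ⟨_, hu, List.mem_map.2 ⟨0, List.mem_range.2 (by omega), rfl⟩⟩
    refine neg_not_mem ?_
    rw [← he, pL_compL hkv (aff_spec hA).1, ← heq hkv rfl]
    exact mul_mem hg'mem (aff_spec hA).2.1

/-- The table of involutions moving zero to `±1`. -/
def invTable : List (List ℕ × ℕ × ℕ × ℕ) := invP0 ++ invP1

set_option maxHeartbeats 4000000 in
theorem inv_table_ok : (invTable.all fun e => validL 24 e.1 && decide (e.2.1 < reps.length) &&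
      affList.contains (affL e.2.2.1 e.2.2.2) &&
      compL (affL e.2.2.1 e.2.2.2) (reps.getD e.2.1 []) == compL e.1 (affL e.2.2.1 e.2.2.2)) = true ∧
    reps.all (validL 24) = true := by
  constructor <;> decide +kernel

theorem carry_ok : m24Test swapA = true ∧ [0, 1, 2].map (getR swapA) = [0, 2, 1] ∧ carry.all m24Test = true ∧
    ∀ i : Fin 1, [23, 0, 1].map (getR (carry.getD i.val [])) = [0, 1, 2] := by
  refine ⟨?_, ?_, ?_, ?_⟩ <;> decide +kernel

/-- The test on a point-triple coset: an involution there is tabulated. -/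
noncomputable def swapTest (w : List ℕ) (h : ℕ → ℕ) : Bool :=
  !allLt (fun i => Nat.beq (h (h i)) i) 24 || allLt (fun i => Nat.beq (h i) i) 24 ||
    anyB (fun e => allLt (fun i => Nat.beq (getR w (getR e.1 i)) (h (getR w i))) 24) invTable

theorem enumAll_cons (P : (ℕ → ℕ) → Bool) (l : Level) (ls : List Level) (f : ℕ → ℕ) :
    enumAll P (l :: ls) f = allB (fun r => enumAll P ls fun i => f (getR r i)) l.reps := rfl

/-- A part of the first coset level below a triple. -/
noncomputable def swapPart (i c : ℕ) : Bool :=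
  allB (fun r => enumAll (swapTest (carry.getD i [])) (m24ChainLevels.drop 4) fun x => getR swapA (getR r x))
    ((((m24ChainLevels.drop 3).headD ⟨0, [], []⟩).reps.drop c).take 6)

theorem swap_part_00 : swapPart 0 0 = true := by decide +kernel

theorem swap_part_01 : swapPart 0 6 = true := by decide +kernel

theorem swap_part_02 : swapPart 0 12 = true := by decide +kernel

theorem swap_part_03 : swapPart 0 18 = true := by decide +kernel

theorem drop_head {α : Type} (l : List α) (k : ℕ) (d : α) (hk : k < l.length) :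
    l.drop k = (l.drop k).headD d :: l.drop (k + 1) := by
  rw [List.drop_eq_getElem_cons hk, List.headD_cons]

theorem swap_cosets : ∀ i : Fin 1, cosetAll (swapTest (carry.getD i.val [])) 3 swapA = true := by
  have hd := drop_head m24ChainLevels 3 ⟨0, [], []⟩ (by decide +kernel)
  have hcat : ∀ {R : List (List ℕ)} {P : List ℕ → Bool}, R.length ≤ 24 →
      allB P ((R.drop 0).take 6) = true → allB P ((R.drop 6).take 6) = true →
      allB P ((R.drop 12).take 6) = true → allB P ((R.drop 18).take 6) = true → allB P R = true := by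
    intro R P hlen h0 h1 h2 h3
    refine allB_iff.2 fun x hx => ?_
    obtain ⟨k, hk, rfl⟩ := List.mem_iff_getElem.1 hx
    have pick : ∀ c, c ≤ k → k < c + 6 → allB P ((R.drop c).take 6) = true → P R[k] = true := by
      intro c hc hc' h
      refine allB_iff.1 h _ (List.mem_iff_getElem.2 ⟨k - c, by rw [List.length_take, List.length_drop]; omega, ?_⟩)
      simp only [List.getElem_take, List.getElem_drop]
      congr 1
      omega
    rcases Nat.lt_or_ge k 6 with h | h
    · exact pick 0 (by omega) (by omega) h0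
    rcases Nat.lt_or_ge k 12 with h' | h'
    · exact pick 6 h (by omega) h1
    rcases Nat.lt_or_ge k 18 with h'' | h''
    · exact pick 12 h' (by omega) h2
    · exact pick 18 h'' (by omega) h3
  have hlen : ((m24ChainLevels.drop 3).headD ⟨0, [], []⟩).reps.length ≤ 24 := by decide +kernel
  have key : ∀ i : ℕ, swapPart i 0 = true → swapPart i 6 = true → swapPart i 12 = true → swapPart i 18 = true →
      cosetAll (swapTest (carry.getD i [])) 3 swapA = true := by
    intro i h0 h1 h2 h3
    unfold swapPart at h0 h1 h2 h3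
    refine Eq.trans (congrArg (fun L => enumAll (swapTest (carry.getD i [])) L fun x => getR swapA x) hd) ?_
    refine Eq.trans (enumAll_cons _ _ _ _) ?_
    exact hcat hlen h0 h1 h2 h3
  intro i
  match i with
  | ⟨0, _⟩ => exact key 0 swap_part_00 swap_part_01 swap_part_02 swap_part_03

theorem unit_check : ∀ k : Fin 23, k.val ≠ 0 → ∃ i : Fin 2, ∃ u : Fin 23, u.val ∈ squares ∧
    u.val * [1, 22].getD i.val 0 % 23 = k.val := by decide +kernel

theorem table_rep_one {t : Equiv.Perm GolayPt} (ht : t ∈ M24) (h2 : t * t = 1) (hne : t ≠ 1)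
    (h23 : t (pt 23) = pt 23) (h0 : t (pt 0) = pt 1) :
    ∃ h ∈ frob, ∃ j < reps.length, t = h * pL (reps.getD j []) * h⁻¹ := by
  obtain ⟨hA, hA', hcw, himg⟩ := carry_ok
  set i : Fin 1 := 0
  set w := carry.getD i.val [] with hwd
  have hw : m24Test w = true := by
    refine List.all_eq_true.1 hcw w ?_
    have hi : i.val < carry.length := i.isLt
    rw [hwd, List.getD_eq_getElem _ _ hi]
    exact List.getElem_mem _
  have hwv := valid_of_m24Test hw
  have him := himg i
  rw [← hwd] at him
  simp only [List.map_cons, List.map_nil, List.cons.injEq, and_true] at him hA'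
  obtain ⟨k, hk⟩ : ∃ k, k = 1 := ⟨1, rfl⟩
  rw [← hk] at h0
  have hk24 : k < 24 := by omega
  have w23 : pL w (pt 23) = pt 0 := by rw [pL_pt hwv (by omega), ← getR_eq, him.1]
  have w0 : pL w (pt 0) = pt 1 := by rw [pL_pt hwv (by omega), ← getR_eq, him.2.1]
  have wk : pL w (pt k) = pt 2 := by rw [hk, pL_pt hwv (by omega), ← getR_eq, him.2.2]
  have htk : t (pt k) = pt 0 := by rw [← h0, ← Equiv.Perm.mul_apply, h2]; rfl
  obtain ⟨h, hP, hd⟩ := coset_spec (k := 3) (fixed := [0, 1, 2]) (by decide +kernel) (by decide +kernel) hA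
    (swap_cosets i) (mul_mem (mul_mem (mem_M24_of_test hw) ht) (inv_mem (mem_M24_of_test hw)))
    fun m hm => by
      refine ⟨by simp only [List.mem_cons, List.not_mem_nil, or_false] at hm; omega, ?_⟩
      simp only [List.mem_cons, List.not_mem_nil, or_false] at hm
      rcases hm with rfl | rfl | rfl
      · rw [hA'.1]; exact conj_at (pL w) t w23 w23 h23
      · rw [hA'.2.1]; exact conj_at (pL w) t w0 wk h0
      · rw [hA'.2.2]; exact conj_at (pL w) t wk w0 htk
  rw [← hwd] at hP
  have hg2 : (pL w * t * (pL w)⁻¹) * (pL w * t * (pL w)⁻¹) = 1 := by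
    calc _ = pL w * (t * t) * (pL w)⁻¹ := by group
      _ = 1 := by rw [h2]; group
  have hg1 : pL w * t * (pL w)⁻¹ ≠ 1 := fun e => hne (conj_eq_one_iff.1 e)
  simp only [swapTest, Bool.or_eq_true, Bool.not_eq_true'] at hP
  rcases hP with (hP | hP) | hP
  · rw [← Bool.not_eq_true] at hP
    exact absurd (order_allLt (n := 2) hd (by rw [pow_two, hg2])) hP
  · refine absurd ?_ hg1
    refine Equiv.ext fun p => ?_
    obtain ⟨m, hm, rfl⟩ := exists_pt p
    obtain ⟨-, e⟩ := hd m hm
    rw [e, Nat.eq_of_beq_eq_true (allLt_spec hP m hm)]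
    rfl
  · obtain ⟨e, he, hev⟩ := anyB_iff.1 hP
    have hok := List.all_eq_true.1 inv_table_ok.1 e he
    simp only [Bool.and_eq_true, decide_eq_true_eq, List.contains_iff_mem, beq_iff_eq] at hok
    obtain ⟨⟨⟨hev1, hj⟩, hmem⟩, hconj⟩ := hok
    have hte : t = pL e.1 := by
      refine Equiv.ext fun p => (pL w).injective ?_
      obtain ⟨m, hm, rfl⟩ := exists_pt p
      have h1 := Nat.eq_of_beq_eq_true (allLt_spec hev m hm)
      rw [getR_eq w, getR_eq e.1, getR_eq w m] at h1
      have hwm := validL_getD_lt hwv hm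
      obtain ⟨-, h3⟩ := hd _ hwm
      rw [← pL_pt hwv hm] at h3
      have h4 : (pL w * t * (pL w)⁻¹) (pL w (pt m)) = pL w (t (pt m)) := by simp
      rw [h4] at h3
      rw [h3, pL_pt hev1 hm, pL_pt hwv (validL_getD_lt hev1 hm), ← h1]
    have hrv : validL 24 (reps.getD e.2.1 []) = true := by
      rw [List.getD_eq_getElem _ _ hj]
      exact List.all_eq_true.1 inv_table_ok.2 _ (List.getElem_mem _)
    refine ⟨pL (affL e.2.2.1 e.2.2.2), (aff_spec hmem).2.2.1, e.2.1, hj, ?_⟩
    rw [eq_mul_inv_iff_mul_eq, hte, ← pL_compL hev1 (aff_spec hmem).1, ← hconj, pL_compL (aff_spec hmem).1 hrv]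

theorem table_rep {i : Fin 2} {t : Equiv.Perm GolayPt} (ht : t ∈ M24) (h2 : t * t = 1) (hne : t ≠ 1)
    (h23 : t (pt 23) = pt 23) (h0 : t (pt 0) = pt ([1, 22].getD i.val 0)) :
    ∃ h ∈ frob, ∃ j < reps.length, t = h * pL (reps.getD j []) * h⁻¹ := by
  match i with
  | ⟨0, _⟩ => exact table_rep_one ht h2 hne h23 h0
  | ⟨1, _⟩ =>
    have hU : pL transL ∈ frob := Subgroup.subset_closure (Or.inl rfl)
    obtain ⟨hUm, hU23⟩ := frob_le hU
    have hU23' : pL transL (pt 23) = pt 23 := hU23
    have hv := aff_checks.2.2.2.2.2.2.1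
    have hU22 : pL transL (pt 22) = pt 0 := by rw [pL_pt hv (by omega)]; rfl
    have hU0' : pL transL (pt 0) = pt 1 := by rw [pL_pt hv (by omega)]; rfl
    have h0' : t (pt 0) = pt 22 := h0
    have ht22 : t (pt 22) = pt 0 := by rw [← h0', ← Equiv.Perm.mul_apply, h2]; rfl
    obtain ⟨h, hh, j, hj, e⟩ := table_rep_one (t := pL transL * t * (pL transL)⁻¹)
      (mul_mem (mul_mem hUm ht) (inv_mem hUm))
      (by calc _ = pL transL * (t * t) * (pL transL)⁻¹ := by group
            _ = 1 := by rw [h2]; group)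
      (fun e => hne (conj_eq_one_iff.1 e)) (conj_at _ t hU23' hU23' h23) (conj_at _ t hU22 hU0' ht22)
    refine ⟨(pL transL)⁻¹ * h, mul_mem (inv_mem hU) hh, j, hj, ?_⟩
    calc t = (pL transL)⁻¹ * (pL transL * t * (pL transL)⁻¹) * pL transL := by group
      _ = _ := by rw [e]; group

/-- An involution of the point stabiliser is conjugate under 23:11 to one of the representatives. -/
theorem inv_rep {t : Equiv.Perm GolayPt} (ht : t ∈ stabInf) (h2 : t * t = 1) (hne : t ≠ 1) :
    ∃ h ∈ frob, ∃ j < reps.length, t = h * pL (reps.getD j []) * h⁻¹ := by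
  obtain ⟨hm, h23⟩ := mem_stabInf.1 ht
  obtain ⟨q, hq⟩ : ∃ q, t q ≠ q := by
    by_contra hcon
    push Not at hcon
    exact hne (Equiv.ext hcon)
  obtain ⟨a, ha, rfl⟩ := exists_pt q
  have ha23 : a ≠ 23 := fun e => hq (by rw [e, h23])
  have hA : affL 1 a ∈ affList :=
    List.mem_flatMap.2 ⟨1, by decide, List.mem_map.2 ⟨a, List.mem_range.2 (by omega), rfl⟩⟩
  set A := pL (affL 1 a) with hAdef
  have hA0 : A (pt 0) = pt a := by
    rw [hAdef, pL_pt (aff_spec hA).1 (by omega)]
    congr 1
    simp [affL, Nat.mod_eq_of_lt (show a < 23 by omega)]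
  have hAm := frob_le (aff_spec hA).2.2.1
  set t1 := A⁻¹ * t * A with ht1
  obtain ⟨k, hk, ht1k⟩ := exists_pt (t1 (pt 0))
  have hk0 : k ≠ 0 := by
    intro e
    rw [e, ht1, Equiv.Perm.mul_apply, Equiv.Perm.mul_apply, hA0, eq_comm, Equiv.Perm.inv_eq_iff_eq, hA0] at ht1k
    exact hq ht1k
  have hA23 : A (pt 23) = pt 23 := hAm.2
  have h1fix : t1 (pt 23) = pt 23 := by
    rw [ht1, Equiv.Perm.mul_apply, Equiv.Perm.mul_apply, hA23, h23, Equiv.Perm.inv_eq_iff_eq, hA23]
  have hk23 : k ≠ 23 := by
    intro e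
    rw [e, ← h1fix] at ht1k
    exact absurd (pt_inj (by omega) (by omega) (t1.injective ht1k)) (by omega)
  obtain ⟨i, u, hu, huk⟩ := unit_check ⟨k, by omega⟩ hk0
  have hB : affL u.val 0 ∈ affList :=
    List.mem_flatMap.2 ⟨_, hu, List.mem_map.2 ⟨0, List.mem_range.2 (by omega), rfl⟩⟩
  set B := pL (affL u.val 0) with hBdef
  have hBm := frob_le (aff_spec hB).2.2.1
  have hB0 : B (pt 0) = pt 0 := by
    rw [hBdef, pL_pt (aff_spec hB).1 (by omega)]
    congr 1
  have hk2 : [1, 22].getD i.val 0 < 23 := by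
    have : ∀ i : Fin 2, [1, 22].getD i.val 0 < 23 := by decide
    exact this i
  have hBk : B (pt ([1, 22].getD i.val 0)) = pt k := by
    rw [hBdef, pL_pt (aff_spec hB).1 (by omega)]
    congr 1
    rw [affL, List.getD_append _ _ _ _ (by simpa using hk2), List.getD_eq_getElem _ _ (by simpa using hk2)]
    simpa using huk
  set t2 := B⁻¹ * t1 * B with ht2
  have t2m : t2 ∈ M24 := mul_mem (mul_mem (inv_mem hBm.1) (mul_mem (mul_mem (inv_mem hAm.1) hm) hAm.1)) hBm.1
  have t22 : t2 * t2 = 1 := by
    calc t2 * t2 = B⁻¹ * A⁻¹ * (t * t) * A * B := by rw [ht2, ht1]; group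
      _ = 1 := by rw [h2]; group
  have t2ne : t2 ≠ 1 := fun e => hne (by
    calc t = A * B * t2 * B⁻¹ * A⁻¹ := by rw [ht2, ht1]; group
      _ = 1 := by rw [e]; group)
  have t2fix : t2 (pt 23) = pt 23 := by
    have hB23 : B (pt 23) = pt 23 := hBm.2
    rw [ht2, Equiv.Perm.mul_apply, Equiv.Perm.mul_apply, hB23, h1fix, Equiv.Perm.inv_eq_iff_eq, hB23]
  have t20 : t2 (pt 0) = pt ([1, 22].getD i.val 0) := by
    rw [ht2, Equiv.Perm.mul_apply, Equiv.Perm.mul_apply, hB0, ← ht1k, Equiv.Perm.inv_eq_iff_eq, hBk]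
  obtain ⟨h, hh, j, hj, e⟩ := table_rep t2m t22 t2ne t2fix t20
  refine ⟨A * B * h, mul_mem (mul_mem (aff_spec hA).2.2.1 (aff_spec hB).2.2.1) hh, j, hj, ?_⟩
  calc t = A * B * t2 * B⁻¹ * A⁻¹ := by rw [ht2, ht1]; group
    _ = _ := by rw [e]; group

/-- The letters of the words: the translation and the involution moved to fix zero. -/
def letter (j i : ℕ) : List ℕ :=
  if i = 0 then compL (compL projL transL) projL
  else if i = 1 then compL (compL projL (affL 1 22)) projL
  else compL (compL projL (reps.getD j [])) projL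

/-- The value of a word. -/
def wordVal (j : ℕ) (w : List ℕ) : List ℕ :=
  w.foldl (fun acc i => compL acc (letter j i)) (List.range 24)

set_option maxHeartbeats 4000000 in
theorem words_check : ((List.range 15).all fun j =>
    (List.range 3).all fun i => wordVal j ((words.getD j []).getD i []) == m23ChainGens.getD i []) = true ∧
    reps.length = 15 ∧ m23ChainGens.length = 3 := by
  refine ⟨?_, ?_, ?_⟩ <;> decide +kernel

theorem letters_valid : ∀ j : Fin 15, ∀ i : Fin 3, validL 24 (letter j.val i.val) = true := by decide +kernel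

theorem letter_mem {K : Subgroup (Equiv.Perm GolayPt)} (hK : frob ≤ K) {j : ℕ} (hj : j < 15)
    (hr : pL (reps.getD j []) ∈ K) (i : ℕ) :
    validL 24 (letter j i) = true ∧ pL (letter j i) ∈ K.comap (MulAut.conj (pL projL)).toMonoidHom := by
  have hP : pL projL * pL projL = 1 := by
    rw [← pL_compL aff_checks.2.2.2.2.2.2.2.2.1 aff_checks.2.2.2.2.2.2.2.2.1,
      show compL projL projL = List.range 24 by decide +kernel, pL_range]
  have hPv : validL 24 projL = true := aff_checks.2.2.2.2.2.2.2.2.1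
  have key : ∀ X, validL 24 X = true → pL X ∈ K →
      validL 24 (compL (compL projL X) projL) = true ∧
        pL (compL (compL projL X) projL) ∈ K.comap (MulAut.conj (pL projL)).toMonoidHom := by
    intro X hX hXm
    refine ⟨validL_compL (validL_compL hPv hX) hPv, ?_⟩
    rw [Subgroup.mem_comap, pL_compL (validL_compL hPv hX) hPv, pL_compL hPv hX]
    show pL projL * (pL projL * pL X * pL projL) * (pL projL)⁻¹ ∈ K
    rw [inv_eq_of_mul_eq_one_right hP]
    rw [show pL projL * (pL projL * pL X * pL projL) * pL projL =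
      (pL projL * pL projL) * pL X * (pL projL * pL projL) by group, hP]
    simpa using hXm
  have hrv : validL 24 (reps.getD j []) = true := by
    rw [List.getD_eq_getElem _ _ (by rw [words_check.2.1]; exact hj)]
    exact List.all_eq_true.1 inv_table_ok.2 _ (List.getElem_mem _)
  unfold letter
  split_ifs with h0 h1
  · exact key _ aff_checks.2.2.2.2.2.2.1 (hK (Subgroup.subset_closure (Or.inl rfl)))
  · have hA : affL 1 22 ∈ affList := List.mem_flatMap.2 ⟨1, by decide, List.mem_map.2 ⟨22, by simp, rfl⟩⟩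
    exact key _ (aff_spec hA).1 (hK (aff_spec hA).2.2.1)
  · exact key _ hrv hr

theorem word_mem {K : Subgroup (Equiv.Perm GolayPt)} (hK : frob ≤ K) {j : ℕ} (hj : j < 15)
    (hr : pL (reps.getD j []) ∈ K) : ∀ (w : List ℕ) (acc : List ℕ), validL 24 acc = true →
      pL acc ∈ K.comap (MulAut.conj (pL projL)).toMonoidHom →
      validL 24 (w.foldl (fun acc i => compL acc (letter j i)) acc) = true ∧
      pL (w.foldl (fun acc i => compL acc (letter j i)) acc) ∈ K.comap (MulAut.conj (pL projL)).toMonoidHom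
  | [], acc, hv, hm => ⟨hv, hm⟩
  | i :: w, acc, hv, hm => by
    obtain ⟨h1, h2⟩ := letter_mem hK hj hr i
    exact word_mem hK hj hr w _ (validL_compL hv h1) (by rw [pL_compL hv h1]; exact mul_mem hm h2)

theorem stabInf_le {K : Subgroup (Equiv.Perm GolayPt)} (hK : frob ≤ K) {j : ℕ} (hj : j < 15)
    (hr : pL (reps.getD j []) ∈ K) : stabInf ≤ K := by
  set K' := K.comap (MulAut.conj (pL projL)).toMonoidHom with hK'
  have hgens : ∀ g ∈ m23ChainGens, permOf ptEquiv g ∈ K' := by
    intro g hg
    obtain ⟨i, hi, rfl⟩ := List.mem_iff_getElem.1 hg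
    have h := words_check.1
    simp only [List.all_eq_true, List.mem_range, beq_iff_eq] at h
    have e := h j hj i (words_check.2.2 ▸ hi)
    rw [List.getD_eq_getElem _ _ hi] at e
    rw [← e]
    exact (word_mem hK hj hr _ _ (by decide) (by rw [pL_range]; exact one_mem _)).2
  have hle : stabOne ≤ K' := chain_le ptEquiv M24 K' (chainCheck_ok m23Chain_check) m23Chain_reps m23Chain_cover
    (chainCheck_reps _ _ m23Chain_check hgens)
  intro y hy
  obtain ⟨hm, h23⟩ := mem_stabInf.1 hy
  have hP23 : pL projL (pt 0) = pt 23 := by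
    rw [pL_pt aff_checks.2.2.2.2.2.2.2.2.1 (by omega)]; rfl
  have hx : (pL projL)⁻¹ * y * pL projL ∈ stabOne := by
    refine ⟨M24.mul_mem (M24.mul_mem (M24.inv_mem gens_mem_M24.2.2) hm) gens_mem_M24.2.2, fun q hq => ?_⟩
    obtain ⟨n, hn, rfl⟩ := exists_pt q
    rw [ptEquiv_pt hn, List.mem_singleton] at hq
    subst hq
    rw [Equiv.Perm.mul_apply, Equiv.Perm.mul_apply, hP23, h23, Equiv.Perm.inv_eq_iff_eq, hP23]
  have := hle hx
  rw [hK', Subgroup.mem_comap] at this
  simpa [mul_assoc] using this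

theorem card_stabInf : Nat.card stabInf = 10200960 := by
  obtain ⟨g, hg, hgq⟩ := M24_exists_map (k := 1) (by omega) ⟨fun _ => pt 0, fun _ _ _ => Subsingleton.elim _ _⟩
    ⟨fun _ => pt 23, fun _ _ _ => Subsingleton.elim _ _⟩
  have h0 : g (pt 0) = pt 23 := hgq 0
  rw [← card_stabOne]
  refine (Nat.card_congr (((MulAut.conj g).subgroupMap stabOne).trans (MulEquiv.subgroupCongr ?_)).toEquiv).symm
  ext x
  rw [Subgroup.mem_map]
  constructor
  · rintro ⟨y, ⟨hy, hy0⟩, rfl⟩
    refine ⟨M24.mul_mem (M24.mul_mem hg hy) (M24.inv_mem hg), ?_⟩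
    show (g * y * g⁻¹) (pt 23) = pt 23
    rw [← h0]
    simp [hy0 (pt 0) (by rw [ptEquiv_pt (by omega)]; simp)]
  · rintro ⟨hx, hx0⟩
    refine ⟨g⁻¹ * x * g, ⟨M24.mul_mem (M24.mul_mem (M24.inv_mem hg) hx) hg, fun q hq => ?_⟩, by simp [mul_assoc]⟩
    obtain ⟨n, hn, rfl⟩ := exists_pt q
    rw [ptEquiv_pt hn, List.mem_singleton] at hq
    subst hq
    rw [Equiv.Perm.mul_apply, Equiv.Perm.mul_apply, h0, Equiv.Perm.inv_eq_iff_eq, h0]
    exact hx0

theorem odd_divisors : ∀ n : Fin 316, n.val ∣ 315 → n.val % 23 = 1 → n.val = 1 := by decide +kernel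

/-- 23:11 is maximal in the point stabiliser. -/
theorem frob_maximal {L : Subgroup (Equiv.Perm GolayPt)} (h1 : frob ≤ L) (h2 : L ≤ stabInf) :
    L = frob ∨ L = stabInf := by
  classical
  by_cases heven : 2 ∣ Nat.card L
  · right
    haveI : Fact (Nat.Prime 2) := ⟨Nat.prime_two⟩
    obtain ⟨t, ht⟩ := exists_prime_orderOf_dvd_card' 2 heven
    have ht2 : t.val * t.val = 1 := by
      have h := pow_orderOf_eq_one t
      rw [ht, pow_two] at h
      exact congrArg Subtype.val h
    have htne : t.val ≠ 1 := fun e => by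
      rw [show t = 1 from Subtype.ext e, orderOf_one] at ht
      omega
    obtain ⟨h, hh, j, hj, e⟩ := inv_rep (h2 t.2) ht2 htne
    refine le_antisymm h2 (stabInf_le h1 (words_check.2.1 ▸ hj) ?_)
    have := mul_mem (mul_mem (inv_mem (h1 hh)) t.2) (h1 hh)
    rw [e] at this
    simpa [mul_assoc] using this
  · left
    haveI : Fact (Nat.Prime 23) := ⟨by norm_num⟩
    set U : L := ⟨pL transL, h1 (Subgroup.subset_closure (Or.inl rfl))⟩ with hU
    have hUo : orderOf U = 23 := by
      rw [← Subgroup.orderOf_coe]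
      refine orderOf_eq_prime ?_ fun e => absurd
        (pL_inj aff_checks.2.2.2.2.2.2.1 (by decide) (e.trans pL_range.symm)) (by decide)
      have hv := aff_checks.2.2.2.2.2.2.1
      have hp : ∀ n, validL 24 (powL transL n) = true ∧ pL (powL transL n) = pL transL ^ n := by
        intro n
        induction n with
        | zero => exact ⟨by decide, by rw [pow_zero]; exact pL_range⟩
        | succ n ih => exact ⟨validL_compL ih.1 hv,
            by rw [show powL transL (n + 1) = compL (powL transL n) transL from rfl, pL_compL ih.1 hv, ih.2, pow_succ]⟩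
      rw [← (hp 23).2, show powL transL 23 = List.range 24 by decide +kernel, pL_range]
    have hP : Nat.card (Subgroup.zpowers U) = 23 := by rw [Nat.card_zpowers, hUo]
    have hd1 : 253 ∣ Nat.card L := card_frob ▸ Subgroup.card_dvd_of_le h1
    have hd2 : Nat.card L ∣ 10200960 := card_stabInf ▸ Subgroup.card_dvd_of_le h2
    obtain ⟨n, hn⟩ := hd1
    have hn' : n ∣ 40320 := by
      rw [hn, show (10200960 : ℕ) = 253 * 40320 by norm_num] at hd2
      exact Nat.dvd_of_mul_dvd_mul_left (by norm_num) hd2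
    have hodd : Nat.Coprime n 128 := by
      rw [show (128 : ℕ) = 2 ^ 7 by norm_num]
      refine Nat.Coprime.pow_right _ ((Nat.prime_two.coprime_iff_not_dvd.2 fun h => heven ?_).symm)
      exact hn ▸ h.trans (Dvd.intro_left _ rfl)
    have hn315 : n ∣ 315 := hodd.dvd_of_dvd_mul_left (by simpa using hn')
    have hfac : (Nat.card L).factorization 23 = 1 := by
      have h23 : ¬ 23 ∣ n := fun h => absurd (h.trans hn315) (by decide)
      have hn0 : n ≠ 0 := fun h => by rw [h] at hn315; simp at hn315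
      rw [hn, show (253 : ℕ) = 23 * 11 by norm_num, mul_assoc, Nat.factorization_mul (by norm_num)
        (mul_ne_zero (by norm_num) hn0), Finsupp.add_apply,
        Nat.Prime.factorization_self (by norm_num), Nat.factorization_eq_zero_of_not_dvd ?_]
      exact fun h => (Nat.Prime.dvd_mul (by norm_num : Nat.Prime 23) |>.1 h).elim (by decide) h23
    let S : Sylow 23 L := Sylow.ofCard (Subgroup.zpowers U) (by rw [hP, hfac, pow_one])
    have hS : (S : Subgroup L) = Subgroup.zpowers U := rfl
    have hN : Subgroup.normalizer ((S : Subgroup L) : Set L) = frob.subgroupOf L := by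
      refine le_antisymm (fun g hg => ?_) fun g hg => ?_
      · rw [hS] at hg
        have hc : g * U * g⁻¹ ∈ Subgroup.zpowers U :=
          (Subgroup.mem_normalizer_iff.1 hg U).1 (Subgroup.mem_zpowers U)
        obtain ⟨k, hk⟩ := (mem_powers_iff_mem_zpowers.2 hc)
        exact normalizer_step (h2 g.2) (k := k) (congrArg Subtype.val hk).symm
      · rw [hS, Subgroup.mem_normalizer_iff]
        obtain ⟨A, hA, hgA⟩ := mem_frob_iff.1 (Subgroup.mem_subgroupOf.1 hg)
        have hAM := List.all_eq_true.1 aff_checks.2.2.2.2.2.1 A hA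
        simp only [beq_iff_eq] at hAM
        set k := (A.getD 1 0 + 23 - A.getD 0 0) % 23 with hkdef
        have hk : k < 23 := Nat.mod_lt _ (by omega)
        have hM : affL 1 k ∈ affList :=
          List.mem_flatMap.2 ⟨1, by decide, List.mem_map.2 ⟨k, List.mem_range.2 hk, rfl⟩⟩
        have hUk : g * U = U ^ k * g := by
          refine Subtype.ext ?_
          show g.val * pL transL = pL transL ^ k * g.val
          rw [hgA, ← pL_compL (aff_spec hA).1 aff_checks.2.2.2.2.2.2.1, hAM, pL_compL (aff_spec hM).1 (aff_spec hA).1]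
          congr 1
          have hp : ∀ m : Fin 23, affL 1 m.val = powL transL m.val := by decide +kernel
          rw [show affL 1 k = powL transL k from hp ⟨k, hk⟩]
          clear hM hAM hA hkdef
          clear_value k
          induction k with
          | zero => rw [pow_zero]; exact pL_range
          | succ k ih =>
            have hv : ∀ m : Fin 23, validL 24 (powL transL m.val) = true := by decide +kernel
            rw [show powL transL (k + 1) = compL (powL transL k) transL from rfl,
              pL_compL (hv ⟨k, by omega⟩) aff_checks.2.2.2.2.2.2.1, ih (by omega), pow_succ]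
        have hmap : (Subgroup.zpowers U).map (MulAut.conj g).toMonoidHom = Subgroup.zpowers U := by
          refine Subgroup.eq_of_le_of_card_ge ?_ (by rw [Subgroup.card_map_of_injective (MulAut.conj g).injective])
          rw [MonoidHom.map_zpowers, Subgroup.zpowers_le]
          show g * U * g⁻¹ ∈ _
          rw [hUk, mul_inv_cancel_right]
          exact pow_mem (Subgroup.mem_zpowers U) _
        intro z
        conv_rhs => rw [← hmap]
        exact (Subgroup.mem_map_iff_mem (MulAut.conj g).injective).symm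
    have hmod := card_sylow_modEq_one 23 L
    rw [S.card_eq_index_normalizer] at hmod
    change (Subgroup.normalizer ((S : Subgroup L) : Set L)).index ≡ 1 [MOD 23] at hmod
    rw [hN] at hmod
    have hidx := (frob.subgroupOf L).index_mul_card
    rw [Nat.card_congr (Subgroup.subgroupOfEquivOfLe h1).toEquiv, card_frob, hn] at hidx
    have hi : (frob.subgroupOf L).index = n := by
      have e : (frob.subgroupOf L).index * 253 = n * 253 := hidx.trans (mul_comm _ _)
      exact Nat.eq_of_mul_eq_mul_right (by norm_num) e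
    rw [hi] at hmod
    have hn1 : n = 1 := odd_divisors ⟨n, Nat.lt_succ_of_le (Nat.le_of_dvd (by norm_num) hn315)⟩ hn315 hmod
    exact (Subgroup.eq_of_le_of_card_ge h1 (by rw [card_frob, hn, hn1])).symm

/-- PSL(2, 23) is maximal in M₂₄. -/
theorem psl_maximal {L : Subgroup (Equiv.Perm GolayPt)} (h1 : psl ≤ L) (h2 : L ≤ M24) : L = psl ∨ L = M24 := by
  set L₀ := L ⊓ MulAction.stabilizer (Equiv.Perm GolayPt) (pt 23) with hL₀
  have hf : frob ≤ L₀ := le_inf (frob_le_psl.trans h1) (fun g hg => (frob_le hg).2)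
  have hs : L₀ ≤ stabInf := inf_le_inf_right _ h2
  have hdec : ∀ g ∈ L, ∃ j : Fin 24, (pL (tr j.val))⁻¹ * g ∈ L₀ := by
    intro g hg
    obtain ⟨j, hj, he⟩ := exists_pt (g (pt 23))
    refine ⟨⟨j, hj⟩, L.mul_mem (L.inv_mem (h1 (tr_mem ⟨j, hj⟩).2.1)) hg, ?_⟩
    show ((pL (tr j))⁻¹ * g) (pt 23) = pt 23
    rw [Equiv.Perm.mul_apply, Equiv.Perm.inv_eq_iff_eq, (tr_mem ⟨j, hj⟩).2.2, he]
  rcases frob_maximal hf hs with h | h
  · left
    refine le_antisymm (fun g hg => ?_) h1
    obtain ⟨j, hj⟩ := hdec g hg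
    rw [h] at hj
    exact mem_psl_iff.2 ⟨j, _, hj, (mul_inv_cancel_left _ _).symm⟩
  · right
    refine le_antisymm h2 fun g hg => ?_
    obtain ⟨j, hj, he⟩ := exists_pt (g (pt 23))
    have hstab : (pL (tr j))⁻¹ * g ∈ stabInf := by
      refine mem_stabInf.2 ⟨mul_mem (inv_mem (psl_le_M24 (tr_mem ⟨j, hj⟩).2.1)) hg, ?_⟩
      rw [Equiv.Perm.mul_apply, Equiv.Perm.inv_eq_iff_eq, (tr_mem ⟨j, hj⟩).2.2, he]
    rw [← h] at hstab
    have := mul_mem (h1 (tr_mem ⟨j, hj⟩).2.1) hstab.1
    rwa [mul_inv_cancel_left] at this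

end CfsgLib.M24Cert.Frob253
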