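import Cfsg.Agent.Lib.Golay.M24Sub

/-!
# Computing with lists of images inside the group of the length-24 code
-/

set_option autoImplicit false

namespace CfsgLib.M24Cert

open Cfsg CfsgLib.Golay

open scoped Pointwise

/-- The permutation of a list of images. -/
noncomputable abbrev pL (L : List ℕ) : Equiv.Perm GolayPt := permOf ptEquiv L

theorem validL_compL {A B : List ℕ} (hA : validL 24 A = true) (hB : validL 24 B = true) :
    validL 24 (compL A B) = true := by
  refine validL_iff.2 ⟨?_, ?_, fun j hj => ?_⟩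
  · rw [compL_length, (validL_iff.1 hB).1]
  · intro x hx
    obtain ⟨i, hi, rfl⟩ := List.mem_map.1 hx
    exact validL_getD_lt hA ((validL_iff.1 hB).2.1 i hi)
  · obtain ⟨k, hk⟩ := validL_surj hA ⟨j, hj⟩
    exact List.mem_map.2 ⟨k.val, (validL_iff.1 hB).2.2 k.val k.isLt, hk⟩

theorem pL_compL {A B : List ℕ} (hA : validL 24 A = true) (hB : validL 24 B = true) :
    pL (compL A B) = pL A * pL B :=
  permOf_comp ptEquiv hA hB (validL_compL hA hB)

theorem pL_range : pL (List.range 24) = 1 := permOf_id ptEquiv (by decide)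

theorem pL_inj {A B : List ℕ} (hA : validL 24 A = true) (hB : validL 24 B = true)
    (h : pL A = pL B) : A = B := by
  refine List.ext_getElem (by rw [(validL_iff.1 hA).1, (validL_iff.1 hB).1]) fun i h1 h2 => ?_
  have hi : i < 24 := by rw [(validL_iff.1 hA).1] at h1; exact h1
  have h3 := permOf_apply ptEquiv hA (pt i)
  have h4 := permOf_apply ptEquiv hB (pt i)
  rw [show permOf ptEquiv A = permOf ptEquiv B from h] at h3
  rw [h3, ptEquiv_pt hi] at h4
  rwa [List.getD_eq_getElem _ _ h1, List.getD_eq_getElem _ _ h2] at h4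

theorem pL_pt {L : List ℕ} (h : validL 24 L = true) {i : ℕ} (hi : i < 24) :
    pL L (pt i) = pt (L.getD i 0) := by
  apply ptEquiv.injective
  apply Fin.ext
  rw [permOf_apply ptEquiv h, ptEquiv_pt hi, ptEquiv_pt (validL_getD_lt h hi)]

theorem valid_of_m24Test {L : List ℕ} (h : m24Test L = true) : validL 24 L = true := by
  simp only [m24Test, Bool.and_eq_true] at h
  exact h.1

/-- The image of a mask, computed along the list. -/
def imgF : List ℕ → ℕ → ℕ
  | [], _ => 0
  | a :: L, n => (if n % 2 == 1 then 2 ^ a else 0) ||| imgF L (n / 2)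

theorem testBit_imgF : ∀ (L : List ℕ) (n j : ℕ),
    (imgF L n).testBit j = true ↔ ∃ i < L.length, n.testBit i = true ∧ L.getD i 0 = j
  | [], n, j => by simp [imgF]
  | a :: L, n, j => by
    rw [imgF, Nat.testBit_lor, Bool.or_eq_true, testBit_imgF L]
    constructor
    · rintro (h | ⟨i, hi, h1, h2⟩)
      · refine ⟨0, by simp, ?_⟩
        split at h
        · next hn =>
          rw [Nat.testBit_two_pow, decide_eq_true_iff] at h
          exact ⟨by simpa [Nat.testBit_zero] using hn, by simpa using h⟩
        · simp at h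
      · exact ⟨i + 1, by simpa using hi, by rwa [Nat.testBit_succ], by simpa using h2⟩
    · rintro ⟨_ | i, hi, h1, h2⟩
      · left
        simp only [Nat.testBit_zero, decide_eq_true_eq] at h1
        simp only [List.getD_cons_zero] at h2
        simp [h1, h2, Nat.testBit_two_pow]
      · exact Or.inr ⟨i, by simpa using hi, by rwa [← Nat.testBit_succ], by simpa using h2⟩

theorem imgF_eq {L : List ℕ} (h : validL 24 L = true) (n : ℕ) : imgF L n = imgMask L n := by
  refine Nat.eq_of_testBit_eq fun j => Bool.eq_iff_iff.2 ?_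
  rw [testBit_imgF, testBit_imgMask, (validL_iff.1 h).1]

theorem smul_toSet_imgF {L : List ℕ} (h : validL 24 L = true) (n : ℕ) :
    pL L • toSet n = toSet (imgF L n) := by
  rw [imgF_eq h]; exact smul_toSet h n

theorem imgF_lt {L : List ℕ} (h : validL 24 L = true) (n : ℕ) : imgF L n < 2 ^ 24 := by
  refine Nat.lt_pow_two_of_testBit _ fun j hj => ?_
  by_contra hc
  rw [Bool.not_eq_false, testBit_imgF] at hc
  obtain ⟨i, hi, -, rfl⟩ := hc
  have := validL_getD_lt h (show i < 24 by rwa [(validL_iff.1 h).1] at hi)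
  omega

/-! ### All elements below a chain -/

/-- The products of the representatives of a chain. -/
def chainEnum : List Level → List (List ℕ)
  | [] => [List.range 24]
  | l :: ls => l.reps.flatMap fun r => (chainEnum ls).map (compL r)

theorem mem_chainEnum (K : Subgroup (Equiv.Perm GolayPt)) :
    ∀ {fixed : List ℕ} {ls : List Level}, chainOk 24 fixed ls = true → RepsMem ptEquiv K ls →
      CoverOk ptEquiv K fixed ls → ∀ g ∈ fixNums ptEquiv K fixed,
        ∃ L ∈ chainEnum ls, validL 24 L = true ∧ g = pL L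
  | fixed, [], _, _, hcov, g, hg => by
    exact ⟨_, List.mem_singleton_self _, by decide, by rw [hcov g hg.1 hg.2, pL_range]⟩
  | fixed, l :: ls, hok, hmem, hcov, g, hg => by
    obtain ⟨hT, himg, -, hb, hrec⟩ := level_facts ptEquiv K hok hmem
    set p := ptEquiv.symm ⟨l.base, hb⟩ with hp
    have hpv : (ptEquiv p).val = l.base := by simp [hp]
    have h1 := hcov.1 g hg.1 hg.2 p hpv
    rw [← himg p hpv, List.map_map] at h1
    obtain ⟨r, hr, hre⟩ := List.mem_map.1 h1
    simp only [Function.comp_apply] at hre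
    have hrv : validL 24 r = true := by
      simp only [chainOk, Bool.and_eq_true, List.all_eq_true] at hok
      exact (hok.1.2 r hr).1
    have hrmem := hT _ (List.mem_map_of_mem hr)
    have hrest : (pL r)⁻¹ * g ∈ fixNums ptEquiv K (fixed ++ [l.base]) := by
      rw [← hpv, ← fixNums_snoc]
      refine ⟨Subgroup.mul_mem _ (Subgroup.inv_mem _ hrmem) hg, ?_⟩
      show ((pL r)⁻¹ * g) p = p
      rw [Equiv.Perm.mul_apply, ← ptEquiv.injective (Fin.ext hre)]
      simp
    obtain ⟨L, hL, hLv, hge⟩ := mem_chainEnum K hrec (fun m hm => hmem m (List.mem_cons_of_mem _ hm))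
      hcov.2 _ hrest
    refine ⟨compL r L, List.mem_flatMap.2 ⟨r, hr, List.mem_map.2 ⟨L, hL, rfl⟩⟩, validL_compL hrv hLv, ?_⟩
    rw [pL_compL hrv hLv, ← hge, mul_inv_cancel_left]

/-- The elements fixing the first five points. -/
def fix5List : List (List ℕ) := chainEnum (m24ChainLevels.drop 5)

/-- The elements fixing the first four points. -/
def fix4List : List (List ℕ) := chainEnum (m24ChainLevels.drop 4)

theorem m24Chain_drop_reps (k : ℕ) : RepsMem ptEquiv M24 (m24ChainLevels.drop k) :=
  fun l hl => m24Chain_reps l (List.mem_of_mem_drop hl)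

theorem coverOk_drop (K : Subgroup (Equiv.Perm GolayPt)) :
    ∀ {fixed : List ℕ} {ls : List Level} (k : ℕ), CoverOk ptEquiv K fixed ls →
      CoverOk ptEquiv K (fixed ++ ((ls.take k).map (·.base))) (ls.drop k)
  | fixed, ls, 0, h => by simpa using h
  | fixed, [], k + 1, h => by simpa using h
  | fixed, l :: ls, k + 1, h => by
    simpa [List.append_assoc] using coverOk_drop K k h.2

theorem mem_fixList {k : ℕ} {fixed : List ℕ} (hf : (m24ChainLevels.take k).map (·.base) = fixed)
    (hok : chainOk 24 fixed (m24ChainLevels.drop k) = true) {g : Equiv.Perm GolayPt} (hg : g ∈ M24)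
    (hfix : ∀ i ∈ fixed, g (pt i) = pt i) :
    ∃ L ∈ chainEnum (m24ChainLevels.drop k), validL 24 L = true ∧ g = pL L := by
  have hcov := coverOk_drop M24 k m24Chain_cover
  rw [List.nil_append, hf] at hcov
  refine mem_chainEnum M24 hok (m24Chain_drop_reps k) hcov g ⟨hg, fun q hq => ?_⟩
  rw [← pt_ptEquiv q]
  exact hfix _ hq

theorem mem_fix5List {g : Equiv.Perm GolayPt} (hg : g ∈ M24) (hfix : ∀ i < 5, g (pt i) = pt i) :
    ∃ L ∈ fix5List, validL 24 L = true ∧ g = pL L :=
  mem_fixList (k := 5) (fixed := [0, 1, 2, 3, 4]) (by decide +kernel) (by decide +kernel) hg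
    fun i hi => hfix i (by simp only [List.mem_cons, List.not_mem_nil, or_false] at hi; omega)

theorem mem_fix4List {g : Equiv.Perm GolayPt} (hg : g ∈ M24) (hfix : ∀ i < 4, g (pt i) = pt i) :
    ∃ L ∈ fix4List, validL 24 L = true ∧ g = pL L :=
  mem_fixList (k := 4) (fixed := [0, 1, 2, 3]) (by decide +kernel) (by decide +kernel) hg
    fun i hi => hfix i (by simp only [List.mem_cons, List.not_mem_nil, or_false] at hi; omega)

theorem chainEnum_mem (K : Subgroup (Equiv.Perm GolayPt)) :
    ∀ {fixed : List ℕ} {ls : List Level}, chainOk 24 fixed ls = true → RepsMem ptEquiv K ls →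
      ∀ L ∈ chainEnum ls, validL 24 L = true ∧ pL L ∈ fixNums ptEquiv K fixed
  | fixed, [], _, _, L, hL => by
    rw [chainEnum, List.mem_singleton] at hL
    subst hL
    exact ⟨by decide, by rw [pL_range]; exact Subgroup.one_mem _⟩
  | fixed, l :: ls, hok, hmem, L, hL => by
    obtain ⟨hT, -, -, -, hrec⟩ := level_facts ptEquiv K hok hmem
    obtain ⟨r, hr, hL⟩ := List.mem_flatMap.1 hL
    obtain ⟨L', hL', rfl⟩ := List.mem_map.1 hL
    have hrv : validL 24 r = true := by
      simp only [chainOk, Bool.and_eq_true, List.all_eq_true] at hok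
      exact (hok.1.2 r hr).1
    obtain ⟨hv, hm⟩ := chainEnum_mem K hrec (fun m hm => hmem m (List.mem_cons_of_mem _ hm)) L' hL'
    refine ⟨validL_compL hrv hv, ?_⟩
    rw [pL_compL hrv hv]
    exact Subgroup.mul_mem _ (hT _ (List.mem_map_of_mem hr)) ⟨hm.1, fun q hq => hm.2 q (List.mem_append_left _ hq)⟩

end CfsgLib.M24Cert
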