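import Cfsg.Agent.Lib.M24Cert.Objects
import Cfsg.Agent.Lib.M24Cert.OrbitData

/-!
# Orbits of the stabilisers of an octad, a sextet, a trio and a dodecad
-/

set_option autoImplicit false

namespace CfsgLib.M24Cert

open Cfsg CfsgLib.Golay

open scoped Pointwise

theorem orbit_eq (B X : Finset (Finset GolayPt)) :
    MulAction.orbit ↥(MulAction.stabilizer M24 B) X = orbF B X := by
  ext Y
  constructor
  · rintro ⟨⟨⟨g, hg⟩, hs⟩, rfl⟩
    exact ⟨g, ⟨hg, hs⟩, rfl⟩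
  · rintro ⟨g, ⟨hg, hs⟩, rfl⟩
    exact ⟨⟨⟨g, hg⟩, hs⟩, rfl⟩

theorem smul_singleton' (g : Equiv.Perm GolayPt) (o : Finset GolayPt) :
    g • ({o} : Finset (Finset GolayPt)) = {g • o} := Finset.smul_finset_singleton _

theorem stabilizer_singleton (o : Finset GolayPt) :
    MulAction.stabilizer M24 o = MulAction.stabilizer M24 ({o} : Finset (Finset GolayPt)) := by
  ext ⟨g, hg⟩
  show g • o = o ↔ g • ({o} : Finset (Finset GolayPt)) = {o}
  rw [smul_singleton', Finset.singleton_inj]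

theorem orbit_eq_singleton (B : Finset (Finset GolayPt)) (x : Finset GolayPt) :
    (fun y : Finset GolayPt => ({y} : Finset (Finset GolayPt))) '' MulAction.orbit ↥(MulAction.stabilizer M24 B) x =
      orbF B {x} := by
  ext Y
  constructor
  · rintro ⟨_, ⟨⟨⟨g, hg⟩, hs⟩, rfl⟩, rfl⟩
    exact ⟨g, ⟨hg, hs⟩, smul_singleton' g x⟩
  · rintro ⟨g, ⟨hg, hs⟩, rfl⟩
    exact ⟨g • x, ⟨⟨⟨g, hg⟩, hs⟩, rfl⟩, (smul_singleton' g x).symm⟩

/-- The verified orbit data: sizes for the listed roots, and the covering. -/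
theorem orbit_sizes {t : Tbl} {hint : List ℕ} (hs : t.sortedOk = true) (hc : t.closedOk m24Tabs hint = true)
    {B : List ℕ} (hB : Small B) (hBs : strictB B = true) {gens : List GenT} (hg : gensOk B gens = true)
    {aux roots : List ℕ} (hf : t.forestOk gens aux (fun _ => true) roots = true) (hr : rootsOk t B roots = true)
    {g : Equiv.Perm GolayPt} (hgm : g ∈ M24) :
    (∀ r ∈ roots, g • t.el r ∈ t.range ∧ (orbF (g • oset B) (g • t.el r)).ncard =
        countLt (fun i => Nat.beq (posCodeL B (t.obj i)) (posCodeL B (t.obj r))) t.N) ∧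
      ∀ X, X ∈ t.range ↔ ∃ r ∈ roots, X ∈ orbF (g • oset B) (g • t.el r) := by
  obtain ⟨h1, h2⟩ := orbit_class hs hc hB hBs hg hf hr
  have hrN : ∀ r ∈ roots, r < t.N := by
    simp only [rootsOk, Bool.and_eq_true, List.all_eq_true, decide_eq_true_eq] at hr
    exact hr.1
  refine ⟨fun r hr' => ⟨Tbl.smul_mem hc hgm ⟨r, hrN r hr', rfl⟩, ?_⟩, fun X => ⟨fun hX => ?_, ?_⟩⟩
  · rw [smul_orbF hgm, Set.ncard_image_of_injective _ (MulAction.injective g), (h1 r hr').2]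
  · obtain ⟨r, hr', hm⟩ := h2 _ (Tbl.smul_mem hc (inv_mem hgm) hX)
    exact ⟨r, hr', by rw [smul_orbF hgm]; exact ⟨_, hm, smul_inv_smul g X⟩⟩
  · rintro ⟨r, hr', hm⟩
    rw [smul_orbF hgm, (h1 r hr').1] at hm
    obtain ⟨Y, hY, rfl⟩ := hm
    exact Tbl.smul_mem hc hgm hY.1

variable {t : Tbl} {hint : List ℕ} (hs : t.sortedOk = true) (hc : t.closedOk m24Tabs hint = true)
  {B : List ℕ} (hB : Small B) (hBs : strictB B = true) {gens : List GenT} (hg : gensOk B gens = true)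
include hs hc hB hBs hg

theorem orbit_three {aux : List ℕ} {r₁ r₂ r₃ c₁ c₂ c₃ : ℕ}
    (hf : t.forestOk gens aux (fun _ => true) [r₁, r₂, r₃] = true) (hr : rootsOk t B [r₁, r₂, r₃] = true)
    (hn : ([r₁, r₂, r₃].map fun r => countLt (fun i => Nat.beq (posCodeL B (t.obj i)) (posCodeL B (t.obj r))) t.N) =
      [c₁, c₂, c₃])
    {A : Finset (Finset GolayPt)} (hA : ∃ g ∈ M24, g • oset B = A) :
    ∃ X₁ ∈ t.range, ∃ X₂ ∈ t.range, ∃ X₃ ∈ t.range, (orbF A X₁).ncard = c₁ ∧ (orbF A X₂).ncard = c₂ ∧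
      (orbF A X₃).ncard = c₃ ∧ t.range = orbF A X₁ ∪ orbF A X₂ ∪ orbF A X₃ := by
  obtain ⟨g, hgm, rfl⟩ := hA
  obtain ⟨h1, h2⟩ := orbit_sizes hs hc hB hBs hg hf hr hgm
  simp only [List.map_cons, List.map_nil, List.cons.injEq] at hn
  refine ⟨_, (h1 r₁ (by simp)).1, _, (h1 r₂ (by simp)).1, _, (h1 r₃ (by simp)).1,
    (h1 r₁ (by simp)).2.trans hn.1, (h1 r₂ (by simp)).2.trans hn.2.1, (h1 r₃ (by simp)).2.trans hn.2.2.1, ?_⟩
  ext X
  simp [h2 X, or_assoc]

theorem orbit_four {aux : List ℕ} {r₁ r₂ r₃ r₄ c₁ c₂ c₃ c₄ : ℕ}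
    (hf : t.forestOk gens aux (fun _ => true) [r₁, r₂, r₃, r₄] = true) (hr : rootsOk t B [r₁, r₂, r₃, r₄] = true)
    (hn : ([r₁, r₂, r₃, r₄].map fun r =>
      countLt (fun i => Nat.beq (posCodeL B (t.obj i)) (posCodeL B (t.obj r))) t.N) = [c₁, c₂, c₃, c₄])
    {A : Finset (Finset GolayPt)} (hA : ∃ g ∈ M24, g • oset B = A) :
    ∃ X₁ ∈ t.range, ∃ X₂ ∈ t.range, ∃ X₃ ∈ t.range, ∃ X₄ ∈ t.range, (orbF A X₁).ncard = c₁ ∧
      (orbF A X₂).ncard = c₂ ∧ (orbF A X₃).ncard = c₃ ∧ (orbF A X₄).ncard = c₄ ∧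
      t.range = orbF A X₁ ∪ orbF A X₂ ∪ orbF A X₃ ∪ orbF A X₄ := by
  obtain ⟨g, hgm, rfl⟩ := hA
  obtain ⟨h1, h2⟩ := orbit_sizes hs hc hB hBs hg hf hr hgm
  simp only [List.map_cons, List.map_nil, List.cons.injEq] at hn
  refine ⟨_, (h1 r₁ (by simp)).1, _, (h1 r₂ (by simp)).1, _, (h1 r₃ (by simp)).1, _, (h1 r₄ (by simp)).1,
    (h1 r₁ (by simp)).2.trans hn.1, (h1 r₂ (by simp)).2.trans hn.2.1, (h1 r₃ (by simp)).2.trans hn.2.2.1,
    (h1 r₄ (by simp)).2.trans hn.2.2.2.1, ?_⟩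
  ext X
  simp [h2 X, or_assoc]

omit hs hc hB hBs hg

/-- From families with one member back to the members. -/
theorem octads_three {A : Finset (Finset GolayPt)} {c₁ c₂ c₃ : ℕ}
    (h : ∃ X₁ ∈ octTbl.range, ∃ X₂ ∈ octTbl.range, ∃ X₃ ∈ octTbl.range, (orbF A X₁).ncard = c₁ ∧
      (orbF A X₂).ncard = c₂ ∧ (orbF A X₃).ncard = c₃ ∧ octTbl.range = orbF A X₁ ∪ orbF A X₂ ∪ orbF A X₃) :
    ∃ X₁ ∈ octads, ∃ X₂ ∈ octads, ∃ X₃ ∈ octads,
      (MulAction.orbit ↥(MulAction.stabilizer M24 A) X₁).ncard = c₁ ∧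
      (MulAction.orbit ↥(MulAction.stabilizer M24 A) X₂).ncard = c₂ ∧
      (MulAction.orbit ↥(MulAction.stabilizer M24 A) X₃).ncard = c₃ ∧
      octads = MulAction.orbit ↥(MulAction.stabilizer M24 A) X₁ ∪ MulAction.orbit ↥(MulAction.stabilizer M24 A) X₂ ∪
        MulAction.orbit ↥(MulAction.stabilizer M24 A) X₃ := by
  obtain ⟨Y₁, h1, Y₂, h2, Y₃, h3, e1, e2, e3, eu⟩ := h
  rw [octTbl_range] at h1 h2 h3 eu
  obtain ⟨x₁, hx1, rfl⟩ := h1
  obtain ⟨x₂, hx2, rfl⟩ := h2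
  obtain ⟨x₃, hx3, rfl⟩ := h3
  simp only [← orbit_eq_singleton] at e1 e2 e3 eu
  rw [Set.ncard_image_of_injective _ Finset.singleton_injective] at e1 e2 e3
  rw [← Set.image_union, ← Set.image_union] at eu
  exact ⟨x₁, hx1, x₂, hx2, x₃, hx3, e1, e2, e3, Finset.singleton_injective.image_injective eu⟩

/-- The mask list of the standard sextet. -/
noncomputable abbrev baseSextet : List ℕ := sexTbl.obj 776

/-- The mask list of the standard trio. -/
noncomputable abbrev baseTrio : List ℕ := triTbl.obj 614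

theorem octad_base_eq {o : Finset GolayPt} (ho : o ∈ octads) : ∃ g ∈ M24, g • oset [baseOctad] = {o} := by
  obtain ⟨g, hg, rfl⟩ := octads_transitive ho
  exact ⟨g, hg, by simp [oset]⟩

theorem small_single {n : ℕ} (h : n < 2 ^ 24) : Small [n] := by simpa [Small] using h

theorem stabOct_ok : gensOk [baseOctad] stabOctGens = true := by decide +kernel
theorem stabSex_ok : gensOk baseSextet stabSexGens = true := by decide +kernel
theorem stabTri_ok : gensOk baseTrio stabTriGens = true := by decide +kernel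

theorem oct_on_tri : triTbl.forestOk stabOctGens stabOctOnTri (fun _ => true) [614, 0, 2] = true := by decide +kernel
theorem oct_on_sex : sexTbl.forestOk stabOctGens stabOctOnSex (fun _ => true) [185, 10, 0] = true := by decide +kernel
theorem oct_on_oct : octTbl.forestOk stabOctGens stabOctOnOct (fun _ => true) [0, 129, 1, 5] = true := by decide +kernel
theorem sex_on_oct : octTbl.forestOk stabSexGens stabSexOnOct (fun _ => true) [0, 3, 1] = true := by decide +kernel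
theorem sex_on_tri : triTbl.forestOk stabSexGens stabSexOnTri (fun _ => true) [330, 0, 1, 2] = true := by decide +kernel
theorem tri_on_oct : octTbl.forestOk stabTriGens stabTriOnOct (fun _ => true) [0, 1, 3] = true := by decide +kernel
theorem tri_on_sex : sexTbl.forestOk stabTriGens stabTriOnSex (fun _ => true) [185, 16, 10, 0] = true := by decide +kernel

end CfsgLib.M24Cert
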