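import Cfsg.Agent.Lib.M24Cert.Single
import Cfsg.Agent.Lib.M24Cert.Coatom
import Cfsg.Agent.Lib.M24Cert.QuartetData

/-!
# The 220 quartets on a dodecad
-/

set_option autoImplicit false

namespace CfsgLib.M24Cert

open Cfsg CfsgLib.Golay

open scoped Pointwise

/-- The table of quartets on the standard dodecad. -/
noncomputable def quartTbl : Tbl := ⟨4, 220, quartData⟩

/-- The mask is a hexad of the standard dodecad. -/
noncomputable def hexB (h : ℕ) : Bool := anyB (fun o => Nat.beq (Nat.land o baseDodecad) h) hexOcts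

theorem hexOcts_ok : allB (fun o => isOctB o && Nat.beq (bc (Nat.land o baseDodecad)) 6) hexOcts = true ∧
    allLt (fun i => !Nat.beq (bc (Nat.land (one octTbl i) baseDodecad)) 6 || memB (one octTbl i) hexOcts) octTbl.N = true := by
  refine ⟨?_, ?_⟩ <;> decide +kernel

theorem hexB_iff {h : ℕ} (hh : h < 2 ^ 24) : toSet h ∈ hexadsOn (toSet baseDodecad) ↔ hexB h = true := by
  rw [hexB, anyB_iff]
  constructor
  · rintro ⟨h6, o, ho, e⟩
    obtain ⟨i, hi, rfl⟩ := octads_complete.index ho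
    rw [← toSet_and] at e
    rw [← e, card_toSet_bc] at h6
    have := allLt_spec hexOcts_ok.2 i hi
    simp only [Bool.or_eq_true, Bool.not_eq_true', memB_iff] at this
    refine ⟨one octTbl i, this.resolve_left fun hc => ?_, ?_⟩
    · rw [show bc (Nat.land (one octTbl i) baseDodecad) = 6 from h6, Nat.beq_refl] at hc
      exact Bool.noConfusion hc
    · exact Nat.beq_eq.mpr (toSet_inj (lt_of_le_of_lt Nat.and_le_right (by decide)) hh e)
  · rintro ⟨o, ho, e⟩
    have hok := allB_iff.1 hexOcts_ok.1 o ho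
    simp only [Bool.and_eq_true, Nat.beq_eq] at hok
    have he : o &&& baseDodecad = h := Nat.eq_of_beq_eq_true e
    refine ⟨?_, toSet o, isOctB_spec hok.1, by rw [← toSet_and, he]⟩
    rw [← he, card_toSet_bc]
    exact hok.2

theorem quartTbl_sorted : quartTbl.sortedOk = true := by decide +kernel

theorem quartTbl_valid : allLt (fun i =>
    let l := quartTbl.obj i
    allB (fun a => Nat.beq (bc a) 3 && Nat.beq (Nat.land a baseDodecad) a) l &&
      allB (fun a => allB (fun b => Nat.beq a b || hexB (Nat.lor a b)) l) l) quartTbl.N = true := by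
  decide +kernel

theorem quartTbl_mem : ∀ i < quartTbl.N, quartTbl.el i ∈ quartets (toSet baseDodecad) := by
  intro i hi
  have h := allLt_spec quartTbl_valid i hi
  simp only [Bool.and_eq_true, allB_iff, Nat.beq_eq, Bool.or_eq_true] at h
  refine ⟨?_, fun s hs => ?_, fun s hs u hu hne => ?_⟩
  · rw [Tbl.el, card_oset (quartTbl.small i) (Tbl.strict quartTbl_sorted hi)]
    exact length_fields _ _
  · obtain ⟨n, hn, rfl⟩ := mem_oset.1 hs
    refine ⟨by rw [card_toSet_bc]; exact (h.1 n hn).1, ?_⟩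
    rw [← Finset.inter_eq_left, ← toSet_and, show n &&& baseDodecad = n from (h.1 n hn).2]
  · obtain ⟨a, ha, rfl⟩ := mem_oset.1 hs
    obtain ⟨b, hb, rfl⟩ := mem_oset.1 hu
    rw [← toSet_or, hexB_iff (Nat.or_lt_two_pow (quartTbl.small i a ha) (quartTbl.small i b hb))]
    exact (h.2 a ha b hb).resolve_left fun e => hne (by rw [e])

theorem quartets_smul {g : Equiv.Perm GolayPt} (hg : g ∈ M24) {d : Finset GolayPt} {Q : Finset (Finset GolayPt)}
    (hQ : Q ∈ quartets d) : g • Q ∈ quartets (g • d) := by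
  obtain ⟨h4, h3, hh⟩ := hQ
  refine ⟨by rw [Finset.card_smul_finset, h4], fun s hs => ?_, fun s hs u hu hne => ?_⟩
  · obtain ⟨s, hs', rfl⟩ := Finset.mem_smul_finset.1 hs
    exact ⟨by rw [Finset.card_smul_finset]; exact (h3 s hs').1, Finset.smul_finset_subset_smul_finset (h3 s hs').2⟩
  · obtain ⟨s, hs', rfl⟩ := Finset.mem_smul_finset.1 hs
    obtain ⟨u, hu', rfl⟩ := Finset.mem_smul_finset.1 hu
    obtain ⟨hc, o, ho, e⟩ := hh s hs' u hu' fun e => hne (by rw [e])
    exact ⟨by rw [← Finset.smul_finset_union, Finset.card_smul_finset]; exact hc, g • o, octads_smul hg ho,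
      by rw [← Finset.smul_finset_inter, e, Finset.smul_finset_union]⟩

theorem quartets_smul_iff {g : Equiv.Perm GolayPt} (hg : g ∈ M24) {d : Finset GolayPt} (Q : Finset (Finset GolayPt)) :
    g • Q ∈ quartets (g • d) ↔ Q ∈ quartets d :=
  ⟨fun h => by simpa only [inv_smul_smul] using quartets_smul (inv_mem hg) h, quartets_smul hg⟩

theorem stabDod_spec {g : Equiv.Perm GolayPt} (hg : g ∈ stabF (oset [baseDodecad])) :
    g ∈ M24 ∧ g • toSet baseDodecad = toSet baseDodecad := by
  obtain ⟨h1, h2⟩ := mem_stabF.1 hg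
  rw [show oset [baseDodecad] = {toSet baseDodecad} by simp [oset], smul_singleton', Finset.singleton_inj] at h2
  exact ⟨h1, h2⟩

theorem quart_forest : gensOk [baseDodecad] dodQuartGens = true ∧
    quartTbl.forestOk dodQuartGens dodQuartAux (fun _ => true) [101] = true ∧
    quartTbl.obj 101 = [7, 12352, 65800, 262672] := by
  refine ⟨?_, ?_, ?_⟩ <;> decide +kernel

theorem quartTbl_transitive {i : ℕ} (hi : i < quartTbl.N) :
    ∃ g ∈ M24, g • toSet baseDodecad = toSet baseDodecad ∧ g • quartTbl.el 101 = quartTbl.el i := by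
  obtain ⟨r, hr, g, hg, e⟩ := Tbl.forest_spec quart_forest.2.1 (stabF (oset [baseDodecad]))
    (gensOk_spec (small_single (by decide)) quart_forest.1) i hi rfl
  rw [List.mem_singleton] at hr
  exact ⟨g, (stabDod_spec hg).1, (stabDod_spec hg).2, hr ▸ e⟩

theorem dodecad_triple_map {s : Finset GolayPt} (hs : s ⊆ toSet baseDodecad) (h3 : s.card = 3) :
    ∃ g ∈ M24, g • toSet baseDodecad = toSet baseDodecad ∧ g • toSet 7 = s := by
  obtain ⟨t, hst, htd, ht5⟩ := Finset.exists_subsuperset_card_eq hs (show s.card ≤ 5 by omega)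
    (by rw [card_toSet_bc]; decide +kernel)
  obtain ⟨a, b, c, hab, hac, hbc, rfl⟩ := Finset.card_eq_three.1 h3
  obtain ⟨p, q, hpq, hpq'⟩ := Finset.card_eq_two.1 (show (t \ {a, b, c}).card = 2 by
    rw [Finset.card_sdiff_of_subset hst, ht5, h3])
  have hm : ∀ x, x ∈ ({p, q} : Finset GolayPt) → x ∈ t ∧ x ∉ ({a, b, c} : Finset GolayPt) := fun x hx => by
    rw [← hpq'] at hx; exact Finset.mem_sdiff.1 hx
  obtain ⟨hp, hp'⟩ := hm p (by simp)
  obtain ⟨hq, hq'⟩ := hm q (by simp)
  simp only [Finset.mem_insert, Finset.mem_singleton, not_or] at hp' hq'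
  have hbase : ∀ i : Fin 5, pt i.val ∈ toSet baseDodecad := by decide +kernel
  let y : Fin 5 ↪ GolayPt := ⟨![a, b, c, p, q], by
    intro i j
    fin_cases i <;> fin_cases j <;>
      simp [hab, hab.symm, hac, hac.symm, hbc, hbc.symm, hpq, hpq.symm, hp'.1, hp'.2.1, hp'.2.2, hq'.1, hq'.2.1,
        hq'.2.2, Ne.symm hp'.1, Ne.symm hp'.2.1, Ne.symm hp'.2.2, Ne.symm hq'.1, Ne.symm hq'.2.1, Ne.symm hq'.2.2]⟩
  obtain ⟨g, hg, -⟩ := M12_sharp ⟨fun i => pt i.val, by decide +kernel⟩ y hbase (fun i => by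
    fin_cases i
    · exact hs (show a ∈ ({a, b, c} : Finset GolayPt) by simp)
    · exact hs (show b ∈ ({a, b, c} : Finset GolayPt) by simp)
    · exact hs (show c ∈ ({a, b, c} : Finset GolayPt) by simp)
    · exact htd hp
    · exact htd hq)
  obtain ⟨hg1, hg2⟩ := mem_M12.1 g.2
  refine ⟨g.val, hg1, hg2, ?_⟩
  have e7 : toSet 7 = {pt 0, pt 1, pt 2} := by decide +kernel
  have e0 : g.val (pt 0) = a := hg 0
  have e1 : g.val (pt 1) = b := hg 1
  have e2 : g.val (pt 2) = c := hg 2
  rw [e7]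
  simp [Finset.smul_finset_insert, Finset.smul_finset_singleton, Equiv.Perm.smul_def, e0, e1, e2]

theorem quart_through : allB (fun j => Nat.ble (j + 1) quartTbl.N && memB 7 (quartTbl.obj j)) quartThrough = true ∧
    allLt (fun a =>
      let u := one tripTbl a
      !(Nat.beq (Nat.land u baseDodecad) u && hexB (Nat.lor 7 u)) ||
      anyB (fun j => memB u (quartTbl.obj j) && allLt (fun b =>
        let v := one tripTbl b
        !(Nat.beq (Nat.land v baseDodecad) v && hexB (Nat.lor 7 v) && hexB (Nat.lor u v)) ||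
          memB v (quartTbl.obj j)) tripTbl.N) quartThrough) tripTbl.N = true ∧
    quartThrough.Nodup ∧ quartThrough.length = 4 := by
  refine ⟨?_, ?_, ?_, ?_⟩ <;> decide +kernel

/-- A quartet through the first triple is listed; it is determined by one more member. -/
theorem quart_through_spec {u : Finset GolayPt} (hu3 : u.card = 3) (hud : u ⊆ toSet baseDodecad)
    (hh : toSet 7 ∪ u ∈ hexadsOn (toSet baseDodecad)) :
    ∃ j < quartTbl.N, j ∈ quartThrough ∧ toSet 7 ∈ quartTbl.el j ∧ u ∈ quartTbl.el j ∧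
      ∀ Q ∈ quartets (toSet baseDodecad), toSet 7 ∈ Q → u ∈ Q → Q = quartTbl.el j := by
  obtain ⟨hlist, hcheck, -⟩ := quart_through
  simp only [allB_iff, Bool.and_eq_true, Nat.ble_eq, memB_iff] at hlist
  obtain ⟨a, ha, rfl⟩ := triples_complete.index (s := u) hu3
  have hsub : ∀ a, toSet (one tripTbl a) ⊆ toSet baseDodecad →
      Nat.beq (Nat.land (one tripTbl a) baseDodecad) (one tripTbl a) = true := fun a h => by
    rw [← Finset.inter_eq_left, ← toSet_and] at h
    exact Nat.beq_eq.mpr (toSet_inj (lt_of_le_of_lt Nat.and_le_right (by decide)) (tripTbl.small a _ (by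
      rw [obj_one rfl]; exact List.mem_cons_self)) h)
  have hlt : ∀ a, one tripTbl a < 2 ^ 24 := fun a => tripTbl.small a _ (by
    rw [obj_one rfl]; exact List.mem_cons_self)
  have hof : ∀ x y : ℕ, x < 2 ^ 24 → y < 2 ^ 24 → toSet x ∪ toSet y ∈ hexadsOn (toSet baseDodecad) →
      hexB (Nat.lor x y) = true := fun x y hx hy h =>
    (hexB_iff (h := x ||| y) (Nat.or_lt_two_pow hx hy)).1 (by rw [toSet_or]; exact h)
  have hhex : hexB (Nat.lor 7 (one tripTbl a)) = true := hof _ _ (by norm_num) (hlt a) hh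
  have := allLt_spec hcheck a ha
  simp only [hsub a hud, hhex, Bool.and_self, Bool.not_true, Bool.false_or, anyB_iff, Bool.and_eq_true, memB_iff] at this
  obtain ⟨j, hj, hmem, hall⟩ := this
  refine ⟨j, by have := (hlist j hj).1; omega, hj, mem_oset.2 ⟨7, (hlist j hj).2, rfl⟩,
    mem_oset.2 ⟨_, hmem, rfl⟩, ?_⟩
  intro Q hQ h7 hu
  refine Finset.eq_of_subset_of_card_le (fun v hv => ?_) ?_
  · by_cases e7 : v = toSet 7
    · exact e7 ▸ mem_oset.2 ⟨7, (hlist j hj).2, rfl⟩
    by_cases eu : v = toSet (one tripTbl a)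
    · exact eu ▸ mem_oset.2 ⟨_, hmem, rfl⟩
    obtain ⟨b, hb, rfl⟩ := triples_complete.index (s := v) (hQ.2.1 v hv).1
    have h1 : hexB (Nat.lor 7 (one tripTbl b)) = true :=
      hof _ _ (by norm_num) (hlt b) (hQ.2.2 _ h7 _ hv (Ne.symm e7))
    have h2 : hexB (Nat.lor (one tripTbl a) (one tripTbl b)) = true :=
      hof _ _ (hlt a) (hlt b) (hQ.2.2 _ hu _ hv (Ne.symm eu))
    have := allLt_spec hall b hb
    simp only [hsub b (hQ.2.1 _ hv).2, h1, h2, Bool.and_self, Bool.not_true, Bool.false_or, memB_iff] at this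
    exact mem_oset.2 ⟨_, this, rfl⟩
  · rw [(quartTbl_mem j (by have := (hlist j hj).1; omega)).1, hQ.1]

theorem quartets_base : quartets (toSet baseDodecad) = quartTbl.range := by
  classical
  have hsub : quartTbl.range ⊆ quartets (toSet baseDodecad) := by
    rintro _ ⟨i, hi, rfl⟩
    exact quartTbl_mem i hi
  set F := (quartets (toSet baseDodecad)).toFinite.toFinset with hF
  have hFm : ∀ Q, Q ∈ F ↔ Q ∈ quartets (toSet baseDodecad) := fun Q => Set.Finite.mem_toFinset _
  have h0 : (F.filter (toSet 7 ∈ ·)).card = 4 := by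
    obtain ⟨hlist, -, hnd, hlen⟩ := quart_through
    simp only [allB_iff, Bool.and_eq_true, Nat.ble_eq, memB_iff] at hlist
    have e : F.filter (toSet 7 ∈ ·) = quartThrough.toFinset.image quartTbl.el := by
      ext Q
      simp only [Finset.mem_filter, hFm, Finset.mem_image, List.mem_toFinset]
      constructor
      · rintro ⟨hQ, h7⟩
        obtain ⟨u, hu, hne⟩ := Finset.exists_mem_ne (show 1 < Q.card by rw [hQ.1]; omega) (toSet 7)
        obtain ⟨j, -, hj, -, -, huniq⟩ := quart_through_spec (hQ.2.1 u hu).1 (hQ.2.1 u hu).2 (hQ.2.2 _ h7 u hu hne.symm)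
        exact ⟨j, hj, (huniq Q hQ h7 hu).symm⟩
      · rintro ⟨j, hj, rfl⟩
        exact ⟨quartTbl_mem j (by have := (hlist j hj).1; omega), mem_oset.2 ⟨7, (hlist j hj).2, rfl⟩⟩
    rw [e, Finset.card_image_of_injOn, List.toFinset_card_of_nodup hnd, hlen]
    intro i hi j hj h
    exact Tbl.el_inj quartTbl_sorted (by have := (hlist i (List.mem_toFinset.1 hi)).1; omega)
      (by have := (hlist j (List.mem_toFinset.1 hj)).1; omega) h
  have hall : ∀ t ∈ (toSet baseDodecad).powersetCard 3, (F.filter (t ∈ ·)).card = 4 := by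
    intro t ht
    obtain ⟨htd, ht3⟩ := Finset.mem_powersetCard.1 ht
    obtain ⟨g, hg, hgd, rfl⟩ := dodecad_triple_map htd ht3
    rw [← h0]
    symm
    refine Finset.card_bij (fun Q _ => g • Q) (fun Q hQ => ?_) (fun Q _ Q' _ h => MulAction.injective g h) fun Q hQ => ?_
    · rw [Finset.mem_filter, hFm] at hQ ⊢
      exact ⟨hgd ▸ quartets_smul hg hQ.1, Finset.smul_mem_smul_finset hQ.2⟩
    · rw [Finset.mem_filter, hFm] at hQ
      refine ⟨g⁻¹ • Q, ?_, smul_inv_smul g Q⟩
      rw [Finset.mem_filter, hFm, ← quartets_smul_iff hg, smul_inv_smul, hgd]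
      refine ⟨hQ.1, ?_⟩
      have := Finset.smul_mem_smul_finset (a := g⁻¹) hQ.2
      rwa [inv_smul_smul] at this
  have hcount := Finset.sum_card_bipartiteAbove_eq_sum_card_bipartiteBelow
    (s := F) (t := (toSet baseDodecad).powersetCard 3) (fun Q t => t ∈ Q)
  simp only [Finset.bipartiteAbove, Finset.bipartiteBelow] at hcount
  rw [Finset.sum_congr rfl hall, Finset.sum_congr rfl (g := fun _ => 4) fun Q hQ => by
      rw [← ((hFm Q).1 hQ).1]
      congr 1
      ext t
      simp only [Finset.mem_filter, Finset.mem_powersetCard]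
      exact ⟨fun h => h.2, fun h => ⟨⟨(((hFm Q).1 hQ).2.1 t h).2, (((hFm Q).1 hQ).2.1 t h).1⟩, h⟩⟩] at hcount
  simp only [Finset.sum_const, smul_eq_mul, Finset.card_powersetCard, card_toSet_bc,
    show bc baseDodecad = 12 by decide +kernel, show Nat.choose 12 3 = 220 by rfl] at hcount
  refine (Set.eq_of_subset_of_ncard_le hsub ?_ (Set.toFinite _)).symm
  rw [Tbl.ncard_range quartTbl_sorted, Set.ncard_eq_toFinset_card _ (Set.toFinite _), ← hF,
    show quartTbl.N = 220 from rfl]
  omega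

theorem quartets_transitive {d : Finset GolayPt} (hd : d ∈ dodecads) {Q : Finset (Finset GolayPt)}
    (hQ : Q ∈ quartets d) : ∃ g ∈ M24, g • toSet baseDodecad = d ∧ g • quartTbl.el 101 = Q := by
  obtain ⟨a, ha, rfl⟩ := dodecads_transitive hd
  have h := quartets_smul (inv_mem ha) hQ
  rw [inv_smul_smul, quartets_base] at h
  obtain ⟨i, hi, e⟩ := h
  obtain ⟨g, hg, hgd, hgQ⟩ := quartTbl_transitive hi
  exact ⟨a * g, mul_mem ha hg, by rw [mul_smul, hgd], by rw [mul_smul, hgQ, e, smul_inv_smul]⟩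

theorem quartet_union {d : Finset GolayPt} (hd : d ∈ dodecads) {Q : Finset (Finset GolayPt)}
    (hQ : Q ∈ quartets d) : Q.biUnion id = d := by
  obtain ⟨g, hg, rfl, rfl⟩ := quartets_transitive hd hQ
  have e : (quartTbl.el 101).biUnion id = toSet baseDodecad := by
    rw [Tbl.el, quart_forest.2.2]; decide +kernel
  rw [← e]
  ext p
  simp only [Finset.mem_biUnion, id_eq, Finset.mem_smul_finset]
  constructor
  · rintro ⟨_, ⟨s, hs, rfl⟩, hp⟩
    obtain ⟨q, hq, rfl⟩ := Finset.mem_smul_finset.1 hp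
    exact ⟨q, ⟨s, hs, hq⟩, rfl⟩
  · rintro ⟨q, ⟨s, hs, hq⟩, rfl⟩
    exact ⟨g • s, ⟨s, hs, rfl⟩, Finset.smul_mem_smul_finset hq⟩

theorem stab_quartet_eq {d : Finset GolayPt} (hd : d ∈ dodecads) {Q : Finset (Finset GolayPt)}
    (hQ : Q ∈ quartets d) :
    MulAction.stabilizer M24 d ⊓ MulAction.stabilizer M24 Q = MulAction.stabilizer M24 Q := by
  refine inf_eq_right.2 fun x hx => ?_
  have hx' : (x : Equiv.Perm GolayPt) • Q = Q := hx
  show (x : Equiv.Perm GolayPt) • d = d
  rw [← quartet_union hd hQ]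
  conv_rhs => rw [← hx']
  ext p
  simp only [Finset.mem_biUnion, id_eq, Finset.mem_smul_finset]
  constructor
  · rintro ⟨q, ⟨s, hs, hq⟩, rfl⟩
    exact ⟨_, ⟨s, hs, rfl⟩, Finset.smul_mem_smul_finset hq⟩
  · rintro ⟨_, ⟨s, hs, rfl⟩, hp⟩
    obtain ⟨q, hq, rfl⟩ := Finset.mem_smul_finset.1 hp
    exact ⟨q, ⟨s, hs, hq⟩, rfl⟩

end CfsgLib.M24Cert
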