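import Cfsg.Agent.Lib.M24Cert.Suborbits
import Cfsg.Agent.Lib.M24Cert.ConfigData

/-!
# Tables whose families have a single member, and the subgroups fixing given point sets

A selected part of a table with a forest from one root is an orbit of the group generated by the
tabulated elements; counts of selected parts are evaluated in the table.
-/

set_option autoImplicit false

namespace CfsgLib.M24Cert

open Cfsg CfsgLib.Golay

open scoped Pointwise

/-- Every tabulated element lies in the group and fixes each of the masks. -/
noncomputable def fixOk (ms : List ℕ) (gens : List GenT) : Bool :=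
  allB (fun G => G.m24 && allB (fun m => Nat.beq (G.app m) m) ms) gens

/-- The elements of the group fixing each of the point sets given by masks. -/
def fixMasks (ms : List ℕ) : Subgroup (Equiv.Perm GolayPt) :=
  M24 ⊓ ⨅ m ∈ ms, MulAction.stabilizer (Equiv.Perm GolayPt) (toSet m)

theorem mem_fixMasks {ms : List ℕ} {g : Equiv.Perm GolayPt} :
    g ∈ fixMasks ms ↔ g ∈ M24 ∧ ∀ m ∈ ms, g • toSet m = toSet m := by
  simp [fixMasks, Subgroup.mem_inf, Subgroup.mem_iInf]

theorem fixOk_spec {ms : List ℕ} {gens : List GenT} (h : fixOk ms gens = true) :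
    ∀ G ∈ gens, pL G.L ∈ fixMasks ms := by
  intro G hG
  simp only [fixOk, allB_iff, Bool.and_eq_true] at h
  obtain ⟨h1, h2⟩ := h G hG
  have hok : G.ok = true := by simp only [GenT.m24, Bool.and_eq_true] at h1; exact h1.1
  refine mem_fixMasks.2 ⟨GenT.mem_M24 h1, fun m hm => ?_⟩
  rw [smul_toSet_imgF (GenT.valid hok), ← GenT.app_eq hok, Nat.eq_of_beq_eq_true (h2 m hm)]

theorem fix_point {g : Equiv.Perm GolayPt} {m : ℕ} {p : GolayPt} (h : g • toSet m = toSet m)
    (hm : toSet m = {p}) : g p = p := by
  rw [hm, Finset.smul_finset_singleton] at h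
  exact Finset.singleton_inj.1 h

/-- The member of a family with one member. -/
noncomputable def one (t : Tbl) (i : ℕ) : ℕ := (t.obj i).headD 0

theorem obj_one {t : Tbl} (hk : t.k = 1) (i : ℕ) : t.obj i = [one t i] := by
  have hl : (t.obj i).length = t.k := length_fields _ _
  rw [hk, List.length_eq_one_iff] at hl
  obtain ⟨n, hn⟩ := hl
  rw [one, hn]
  rfl

theorem el_one {t : Tbl} (hk : t.k = 1) (i : ℕ) : t.el i = {toSet (one t i)} := by
  rw [Tbl.el, obj_one hk]; simp [oset]

/-- The point sets of a complete table of single members. -/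
structure Complete (t : Tbl) (S : Set (Finset GolayPt)) : Prop where
  single : t.k = 1
  sorted : t.sortedOk = true
  sound : ∀ i < t.N, toSet (one t i) ∈ S
  total : S.ncard = t.N

namespace Complete

variable {t : Tbl} {S : Set (Finset GolayPt)} (h : Complete t S)
include h

theorem inj {i j : ℕ} (hi : i < t.N) (hj : j < t.N) (e : toSet (one t i) = toSet (one t j)) : i = j :=
  Tbl.el_inj h.sorted hi hj (by rw [el_one h.single, el_one h.single, e])

theorem index {s : Finset GolayPt} (hs : s ∈ S) : ∃ i < t.N, toSet (one t i) = s := by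
  classical
  set F := (Finset.range t.N).image fun i => toSet (one t i) with hF
  have hsub : (F : Set (Finset GolayPt)) ⊆ S := by
    intro x hx
    simp only [hF, Finset.coe_image, Finset.coe_range, Set.mem_image, Set.mem_Iio] at hx
    obtain ⟨i, hi, rfl⟩ := hx
    exact h.sound i hi
  have heq : (F : Set (Finset GolayPt)) = S := by
    refine Set.eq_of_subset_of_ncard_le hsub ?_ S.toFinite
    rw [h.total, Set.ncard_coe_finset, hF, Finset.card_image_of_injOn, Finset.card_range]
    intro i hi j hj e
    exact h.inj (Finset.mem_range.1 (Finset.mem_coe.1 hi)) (Finset.mem_range.1 (Finset.mem_coe.1 hj)) e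
  rw [← heq] at hs
  simpa [hF] using hs

theorem count (Q : Finset GolayPt → Prop) (Pb : ℕ → Bool)
    (hP : ∀ i < t.N, Q (toSet (one t i)) ↔ Pb (one t i) = true) :
    {s : Finset GolayPt | s ∈ S ∧ Q s}.ncard = countLt (fun i => Pb (one t i)) t.N := by
  classical
  rw [countLt_eq, ← Set.ncard_coe_finset,
    ← Set.InjOn.ncard_image (f := fun i => toSet (one t i)) fun i hi j hj e => by
      simp only [Finset.coe_filter, Finset.mem_range, Set.mem_ofPred_eq] at hi hj
      exact h.inj hi.1 hj.1 e]
  congr 1
  ext s
  simp only [Finset.coe_filter, Finset.mem_range, Set.mem_image, Set.mem_ofPred_eq]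
  constructor
  · rintro ⟨hs, hq⟩
    obtain ⟨i, hi, rfl⟩ := h.index hs
    exact ⟨i, ⟨hi, (hP i hi).1 hq⟩, rfl⟩
  · rintro ⟨i, ⟨hi, hb⟩, rfl⟩
    exact ⟨h.sound i hi, (hP i hi).2 hb⟩

theorem conj {gens : List GenT} {aux : List ℕ} {r : ℕ} {Pb : ℕ → Bool}
    (hf : t.forestOk gens aux (fun i => Pb (one t i)) [r] = true) {H : Subgroup (Equiv.Perm GolayPt)}
    (hg : ∀ G ∈ gens, pL G.L ∈ H) {s s' : Finset GolayPt} (hs : s ∈ S) (hs' : s' ∈ S)
    (hb : ∀ i < t.N, toSet (one t i) = s → Pb (one t i) = true)
    (hb' : ∀ i < t.N, toSet (one t i) = s' → Pb (one t i) = true) :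
    ∃ g ∈ H, g • s = s' := by
  obtain ⟨i, hi, rfl⟩ := h.index hs
  obtain ⟨j, hj, rfl⟩ := h.index hs'
  obtain ⟨a, ha, g, hgm, e⟩ := Tbl.forest_spec hf H hg i hi (hb i hi rfl)
  obtain ⟨b, hb2, g', hgm', e'⟩ := Tbl.forest_spec hf H hg j hj (hb' j hj rfl)
  rw [List.mem_singleton] at ha hb2
  subst ha
  subst hb2
  refine ⟨g' * g⁻¹, mul_mem hgm' (inv_mem hgm), ?_⟩
  have : (g' * g⁻¹) • t.el i = t.el j := by rw [← e, ← e', mul_smul, inv_smul_smul]
  rw [el_one h.single, el_one h.single, smul_singleton', Finset.singleton_inj] at this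
  exact this

end Complete

/-- The octads. -/
theorem octads_complete : Complete octTbl octads where
  single := rfl
  sorted := octTbl_sorted
  sound i hi := by
    have := allLt_spec octTbl_valid i hi
    rw [allB_iff] at this
    exact isOctB_spec (this _ (by rw [obj_one rfl]; exact List.mem_cons_self))
  total := by
    have := Tbl.ncard_range octTbl_sorted
    rw [octTbl_range, Set.ncard_image_of_injective _ Finset.singleton_injective] at this
    exact this

/-- The pairs of points. -/
noncomputable def pairTbl : Tbl := ⟨1, 276, pairData⟩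

/-- The triples of points. -/
noncomputable def tripTbl : Tbl := ⟨1, 2024, tripleData⟩

/-- The dodecads. -/
noncomputable def dodTbl : Tbl := ⟨1, 2576, dodData⟩

/-- The complementary pairs of dodecads. -/
noncomputable def dpTbl : Tbl := ⟨2, 1288, dodPairData⟩

theorem pairTbl_sorted : pairTbl.sortedOk = true := by decide +kernel
theorem tripTbl_sorted : tripTbl.sortedOk = true := by decide +kernel
theorem dodTbl_sorted : dodTbl.sortedOk = true := by decide +kernel
theorem dpTbl_sorted : dpTbl.sortedOk = true := by decide +kernel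
theorem dodTbl_closed : dodTbl.closedOk m24Tabs dodHint = true := by decide +kernel
theorem dpTbl_closed : dpTbl.closedOk m24Tabs dodPairHint = true := by decide +kernel

theorem ncard_card_eq (k : ℕ) : {s : Finset GolayPt | s.card = k}.ncard = Nat.choose 24 k := by
  classical
  rw [show {s : Finset GolayPt | s.card = k} =
      ((Finset.univ : Finset GolayPt).powersetCard k : Set (Finset GolayPt)) by
    ext s; simp [Finset.mem_powersetCard],
    Set.ncard_coe_finset, Finset.card_powersetCard, Finset.card_univ, Fintype.card_congr ptEquiv,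
    Fintype.card_fin]

theorem pairTbl_valid : allLt (fun i => Nat.beq (bc (one pairTbl i)) 2) pairTbl.N = true := by decide +kernel
theorem tripTbl_valid : allLt (fun i => Nat.beq (bc (one tripTbl i)) 3) tripTbl.N = true := by decide +kernel
theorem dodTbl_valid :
    allLt (fun i => inCodeT (one dodTbl i) && Nat.beq (bc (one dodTbl i)) 12) dodTbl.N = true := by
  decide +kernel

/-- The pairs of points form a complete table. -/
theorem pairs_complete : Complete pairTbl {s : Finset GolayPt | s.card = 2} where
  single := rfl
  sorted := pairTbl_sorted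
  sound i hi := by
    show (toSet (one pairTbl i)).card = 2
    rw [card_toSet_bc]
    exact Nat.eq_of_beq_eq_true (allLt_spec pairTbl_valid i hi)
  total := by rw [ncard_card_eq]; rfl

/-- The triples of points form a complete table. -/
theorem triples_complete : Complete tripTbl {s : Finset GolayPt | s.card = 3} where
  single := rfl
  sorted := tripTbl_sorted
  sound i hi := by
    show (toSet (one tripTbl i)).card = 3
    rw [card_toSet_bc]
    exact Nat.eq_of_beq_eq_true (allLt_spec tripTbl_valid i hi)
  total := by rw [ncard_card_eq]; rfl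

/-- The dodecads form a complete table. -/
theorem dodecads_complete : Complete dodTbl dodecads where
  single := rfl
  sorted := dodTbl_sorted
  sound i hi := by
    have h := allLt_spec dodTbl_valid i hi
    simp only [Bool.and_eq_true] at h
    exact mem_wordsOfWeight.2 ⟨_, mem_golayList_of_inCodeT h.1,
      by rw [bitCount_eq_bc]; exact Nat.eq_of_beq_eq_true h.2, rfl⟩
  total := dodecads_ncard

/-- The size of the meet of a fixed mask with a point set. -/
theorem card_inter_mask (a n : ℕ) : (toSet a ∩ toSet n).card = bc (Nat.land a n) := by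
  rw [← toSet_and, card_toSet_bc]; rfl

theorem mem_iff_bit {i : ℕ} (hi : i < 24) (n : ℕ) : pt i ∈ toSet n ↔ n.testBit i = true :=
  pt_mem_toSet hi

theorem toSet_pow {i : ℕ} (hi : i < 24) : toSet (2 ^ i) = {pt i} := by
  ext p
  rw [mem_toSet, Nat.testBit_two_pow, decide_eq_true_eq, Finset.mem_singleton]
  constructor
  · intro h; rw [h, pt_ptEquiv]
  · intro h; rw [h, ptEquiv_pt hi]

end CfsgLib.M24Cert
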