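import Cfsg.Agent.Lib.M24Cert.Pairs
import Cfsg.Agent.Lib.M24Cert.PairData
import Cfsg.Prelude.Def_SporadicCombinatorics

/-!
# Groups of order 720 acting faithfully on six points; hexads
-/

set_option autoImplicit false

namespace CfsgLib.M24Cert

open Cfsg CfsgLib.Golay

open scoped Pointwise

/-- The check that only the identity fixes the given points and masks. -/
def fixFiveB (A Ainv pts masks : List ℕ) : Bool :=
  m24Test A && validL 24 Ainv && (compL A Ainv == List.range 24) &&
    (List.range 5).all (fun i => pts.contains (A.getD i 0)) && pts.all (fun p => decide (p < 24)) &&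
    fix5List.all fun L =>
      let C := compL A (compL L Ainv)
      !(pts.all (fun p => C.getD p 0 == p) && masks.all (fun m => imgF C m == m)) || C == List.range 24

theorem eq_one_of_fixFive {A Ainv pts masks : List ℕ} (h : fixFiveB A Ainv pts masks = true)
    (hm : Small masks)
    {g : Equiv.Perm GolayPt} (hg : g ∈ M24) (hp : ∀ p ∈ pts, g (pt p) = pt p)
    (hs : ∀ m ∈ masks, g • toSet m = toSet m) : g = 1 := by
  simp only [fixFiveB, Bool.and_eq_true, List.all_eq_true, List.contains_iff_mem, decide_eq_true_eq, beq_iff_eq,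
    Bool.or_eq_true, Bool.not_eq_true', List.mem_range] at h
  obtain ⟨⟨⟨⟨⟨hA, hAi⟩, hinv⟩, hfive⟩, hlt⟩, hall⟩ := h
  have hAv := valid_of_m24Test hA
  have hprod : pL A * pL Ainv = 1 := by rw [← pL_compL hAv hAi, hinv, pL_range]
  have hAinv : pL Ainv = (pL A)⁻¹ := eq_inv_of_mul_eq_one_right hprod
  have hAm : pL A ∈ M24 := mem_M24_of_test hA
  obtain ⟨L, hL, hLv, e⟩ := mem_fix5List (mul_mem (mul_mem (inv_mem hAm) hg) hAm) (fun i hi => by
    show (pL A)⁻¹ (g (pL A (pt i))) = pt i
    rw [pL_pt hAv (show i < 24 by omega), hp _ (hfive i hi), ← pL_pt hAv (show i < 24 by omega)]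
    simp)
  have hC : validL 24 (compL A (compL L Ainv)) = true := validL_compL hAv (validL_compL hLv hAi)
  have hgC : g = pL (compL A (compL L Ainv)) := by
    rw [pL_compL hAv (validL_compL hLv hAi), pL_compL hLv hAi, ← e, hAinv]; group
  have hcond : (pts.all (fun p => (compL A (compL L Ainv)).getD p 0 == p) &&
      masks.all (fun m => imgF (compL A (compL L Ainv)) m == m)) = true := by
    simp only [Bool.and_eq_true, List.all_eq_true, beq_iff_eq]
    refine ⟨fun p hpp => ?_, fun m hmm => ?_⟩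
    · have h1 := hp p hpp
      rw [hgC, pL_pt hC (hlt p hpp)] at h1
      have := congrArg (fun q => (ptEquiv q).val) h1
      simpa only [ptEquiv_pt (validL_getD_lt hC (hlt p hpp)), ptEquiv_pt (hlt p hpp)] using this
    · have h1 := hs m hmm
      rw [hgC, smul_toSet_imgF hC] at h1
      exact toSet_inj (imgF_lt hC m) (hm m hmm) h1
  rcases hall L hL with h' | h'
  · rw [hcond] at h'; exact Bool.noConfusion h'
  · rw [hgC, h', pL_range]

theorem equiv_perm_six (K : Subgroup M24) (s : Finset GolayPt) (hs : s.card = 6)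
    (hinv : ∀ g ∈ K, ((g : M24) : Equiv.Perm GolayPt) • s = s)
    (hfix : ∀ g ∈ K, (∀ p ∈ s, ((g : M24) : Equiv.Perm GolayPt) p = p) → g = 1)
    (hcard : Nat.card K = 720) : Nonempty (K ≃* Equiv.Perm (Fin 6)) := by
  have hiff : ∀ (g : K) (p : GolayPt), ((g.val : M24) : Equiv.Perm GolayPt) p ∈ s ↔ p ∈ s := fun g p => by
    conv_lhs => rw [← hinv g.val g.2, ← Equiv.Perm.smul_def, Finset.smul_mem_smul_finset_iff]
  let φ : K →* Equiv.Perm {p // p ∈ s} :=
    { toFun := fun g => ((g.val : M24) : Equiv.Perm GolayPt).subtypePerm (hiff g)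
      map_one' := by ext p; rfl
      map_mul' := fun a b => by ext p; rfl }
  have hinj : Function.Injective φ := by
    refine (injective_iff_map_eq_one φ).2 fun g hg => ?_
    refine Subtype.ext (hfix g.val g.2 fun p hp => ?_)
    exact congrArg Subtype.val (DFunLike.congr_fun hg ⟨p, hp⟩)
  have hbij : Function.Bijective φ := (Nat.bijective_iff_injective_and_card φ).2 ⟨hinj, by
    rw [hcard, Nat.card_perm, Nat.card_eq_fintype_card, Fintype.card_coe, hs]; rfl⟩
  exact ⟨(MulEquiv.ofBijective φ hbij).trans (Finset.equivFinOfCardEq hs).permCongrHom⟩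

theorem card_hexadsOn {d : Finset GolayPt} (hd : d ∈ dodecads) : (hexadsOn d).ncard = 132 := by
  have e : hexadsOn d = (fun o => o ∩ d) '' {o | o ∈ octads ∧ (o ∩ d).card = 6} := by
    ext h
    simp only [hexadsOn, Set.mem_image, Set.mem_setOf_eq]
    constructor
    · rintro ⟨hc, o, ho, rfl⟩; exact ⟨o, ⟨ho, hc⟩, rfl⟩
    · rintro ⟨o, ⟨ho, hc⟩, rfl⟩; exact ⟨hc, o, ho, rfl⟩
  rw [e, Set.InjOn.ncard_image, octad_inter_ncard hd]
  · decide +kernel
  · rintro o ⟨ho, hc⟩ o' ⟨ho', -⟩ heq
    obtain ⟨s, hs, hs5⟩ := Finset.exists_subset_card_eq (show 5 ≤ (o ∩ d).card by omega)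
    obtain ⟨u, -, hu⟩ := octads_steiner.2 s hs5
    rw [hu o ⟨ho, hs.trans Finset.inter_subset_left⟩,
      hu o' ⟨ho', (hs.trans (subset_of_eq (show o ∩ d = o' ∩ d from heq))).trans Finset.inter_subset_left⟩]

/-- A dodecad with a hexad on it is moved from the standard one. -/
theorem hexad_base {d : Finset GolayPt} (hd : d ∈ dodecads) {C : Finset GolayPt} (hC : C ∈ hexadsOn d) :
    ∃ g ∈ M24, g • toSet baseDodecad = d ∧ g • toSet 4127 = C := by
  obtain ⟨g, hg, rfl⟩ := dodecads_transitive hd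
  obtain ⟨hC6, o, ho, rfl⟩ := hC
  obtain ⟨s, hs, hs5⟩ := Finset.exists_subset_card_eq (show 5 ≤ ((g⁻¹ • o) ∩ toSet baseDodecad).card by
    rw [← Finset.card_smul_finset g, Finset.smul_finset_inter, smul_inv_smul, hC6]; omega)
  obtain ⟨y⟩ : Nonempty (Fin 5 ≃ {p // p ∈ s}) := ⟨(s.equivFinOfCardEq hs5).symm⟩
  have h04 : ∀ i : Fin 5, pt i.val ∈ toSet baseDodecad ∧ pt i.val ∈ toSet 5279 := by decide +kernel
  obtain ⟨h, hh, -⟩ := M12_sharp ⟨fun i : Fin 5 => pt i.val, fun i j e => Fin.ext (by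
      simpa [ptEquiv_pt (show i.val < 24 by omega), ptEquiv_pt (show j.val < 24 by omega)] using
        congrArg (fun q => (ptEquiv q).val) e)⟩
    ⟨fun i => (y i).val, fun i j e => y.injective (Subtype.ext e)⟩ (fun i => (h04 i).1)
    (fun i => (Finset.mem_inter.1 (hs (y i).2)).2)
  obtain ⟨hm, hhd⟩ := mem_M12.1 h.2
  obtain ⟨u, -, hu⟩ := octads_steiner.2 s hs5
  have e1 : (h : Equiv.Perm GolayPt) • toSet baseOctad = g⁻¹ • o := by
    rw [hu _ ⟨octads_smul hm baseOctad_mem, fun p hp => ?_⟩,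
      hu _ ⟨octads_smul (inv_mem hg) ho, hs.trans Finset.inter_subset_left⟩]
    have hp' : (h : Equiv.Perm GolayPt) (pt (y.symm ⟨p, hp⟩).val) = p := by
      exact (hh (y.symm ⟨p, hp⟩)).trans (congrArg Subtype.val (y.apply_symm_apply ⟨p, hp⟩))
    rw [← hp', ← Equiv.Perm.smul_def, Finset.smul_mem_smul_finset_iff]
    exact (h04 _).2
  refine ⟨g * h, mul_mem hg hm, by rw [mul_smul, hhd], ?_⟩
  rw [show toSet 4127 = toSet baseOctad ∩ toSet baseDodecad by decide +kernel, mul_smul,
    Finset.smul_finset_inter, e1, hhd, Finset.smul_finset_inter, smul_inv_smul]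

theorem card_stab_hexad {d : Finset GolayPt} (hd : d ∈ dodecads) {C : Finset GolayPt} (hC : C ∈ hexadsOn d) :
    Nat.card ↥(MulAction.stabilizer M24 d ⊓ MulAction.stabilizer M24 C) = 720 := by
  have h := card_inf_stabilizer_mul (MulAction.stabilizer M24 d) C
  have horb : MulAction.orbit ↥(MulAction.stabilizer M24 d) C = hexadsOn d := by
    apply Set.Subset.antisymm
    · rintro _ ⟨⟨⟨a, ha⟩, had⟩, rfl⟩
      obtain ⟨hc, o, ho, rfl⟩ := hC
      have had' : a • d = d := had
      show a • (o ∩ d) ∈ hexadsOn d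
      refine ⟨by rw [Finset.card_smul_finset]; exact hc, a • o, octads_smul ha ho, ?_⟩
      rw [Finset.smul_finset_inter, had']
    · intro C' hC'
      obtain ⟨g, hg, hgd, hgC⟩ := hexad_base hd hC
      obtain ⟨k, hk, hkd, hkC⟩ := hexad_base hd hC'
      refine ⟨⟨⟨k * g⁻¹, mul_mem hk (inv_mem hg)⟩, show (k * g⁻¹) • d = d by
        conv_lhs => rw [← hgd]
        rw [mul_smul, inv_smul_smul, hkd]⟩, ?_⟩
      show (k * g⁻¹) • C = C'
      rw [← hgC, mul_smul, inv_smul_smul, hkC]
  rw [horb, card_stab_dodecad hd, card_hexadsOn hd] at h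
  omega

end CfsgLib.M24Cert
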