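import Cfsg.Agent.Lib.M24Cert.Cent
import Cfsg.Agent.Lib.Golay.Octad

/-!
# The orbits on sets of six points
-/

set_option autoImplicit false

namespace CfsgLib.M24Cert

open Cfsg CfsgLib.Golay

open scoped Pointwise

/-- The sixth base point: inside or outside the base octad. -/
def sixth : Bool → ℕ
  | true => 12
  | false => 5

theorem six_data : ((List.range 24).all fun q => decide (q < 5) ||
      fix5List.any fun L => L.getD (sixth (baseOctad.testBit q)) 0 == q) = true ∧
    (fix5List.filter fun L => L.getD 5 0 == 5).length = 3 ∧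
    (fix5List.filter fun L => L.getD 5 0 == 5).Nodup := by
  refine ⟨?_, ?_, ?_⟩ <;> decide +kernel

theorem fix5List_spec {L : List ℕ} (hL : L ∈ fix5List) :
    validL 24 L = true ∧ pL L ∈ fixNums ptEquiv M24 [0, 1, 2, 3, 4] :=
  chainEnum_mem M24 (fixed := [0, 1, 2, 3, 4]) (by decide +kernel) (m24Chain_drop_reps 5) L hL

/-- A list of six distinct points is the image of a standard one. -/
theorem six_map (e : Fin 6 ↪ GolayPt) :
    ∃ g ∈ M24, ∃ b : Bool, (b = true ↔ ∃ o ∈ octads, ∀ i, e i ∈ o) ∧
      (∀ i : Fin 5, g (pt i.val) = e (Fin.castSucc i)) ∧ g (pt (sixth b)) = e (Fin.last 5) := by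
  obtain ⟨g, hg, hge⟩ := M24_exists_map (k := 5) le_rfl
    ⟨fun i : Fin 5 => pt i.val, fun i j h => Fin.ext (pt_inj (by omega) (by omega) h)⟩
    ⟨fun i => e (Fin.castSucc i), fun i j h => Fin.castSucc_injective _ (e.injective h)⟩
  have hge' : ∀ i : Fin 5, g (pt i.val) = e (Fin.castSucc i) := hge
  obtain ⟨q, hq, eq⟩ := exists_pt (g⁻¹ (e (Fin.last 5)))
  have eq' : g (pt q) = e (Fin.last 5) := by rw [eq]; exact g.apply_symm_apply _
  have hq5 : 5 ≤ q := by
    by_contra hc
    have h1 := hge' ⟨q, by omega⟩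
    rw [eq'] at h1
    exact absurd (congrArg Fin.val (e.injective h1)) (by simp; omega)
  have hall := six_data.1
  simp only [List.all_eq_true, List.mem_range, Bool.or_eq_true, decide_eq_true_eq, List.any_eq_true, beq_iff_eq] at hall
  obtain ⟨L, hL, hLq⟩ := (hall q hq).resolve_left (by omega)
  obtain ⟨hv, hm, hfix⟩ := fix5List_spec hL
  refine ⟨g * pL L, mul_mem hg hm, baseOctad.testBit q, ?_, fun i => ?_, ?_⟩
  · constructor
    · intro hb
      refine ⟨g • toSet baseOctad, octads_smul hg baseOctad_mem, fun i => ?_⟩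
      induction i using Fin.lastCases with
      | last => rw [← eq', ← Equiv.Perm.smul_def, Finset.smul_mem_smul_finset_iff, pt_mem_toSet hq]; exact hb
      | cast i =>
        rw [← hge' i, ← Equiv.Perm.smul_def, Finset.smul_mem_smul_finset_iff, pt_mem_toSet (by omega)]
        fin_cases i <;> decide
    · rintro ⟨o, ho, hall⟩
      set s := (Finset.univ : Finset (Fin 5)).map ⟨fun i => e (Fin.castSucc i), fun i j h => Fin.castSucc_injective _ (e.injective h)⟩
      obtain ⟨u, -, hu⟩ := octads_steiner.2 s (by simp [s])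
      have h1 : g • toSet baseOctad = o := by
        rw [hu _ ⟨octads_smul hg baseOctad_mem, fun p hp => ?_⟩, hu o ⟨ho, fun p hp => ?_⟩]
        · obtain ⟨i, -, rfl⟩ := Finset.mem_map.1 hp
          exact hall _
        · obtain ⟨i, -, rfl⟩ := Finset.mem_map.1 hp
          show e (Fin.castSucc i) ∈ _
          rw [← hge' i, ← Equiv.Perm.smul_def, Finset.smul_mem_smul_finset_iff, pt_mem_toSet (by omega)]
          fin_cases i <;> decide
      have h2 := hall (Fin.last 5)
      rwa [← h1, ← eq', ← Equiv.Perm.smul_def, Finset.smul_mem_smul_finset_iff, pt_mem_toSet hq] at h2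
  · rw [Equiv.Perm.mul_apply, hfix (pt i.val) ?_, hge']
    rw [ptEquiv_pt (by omega)]
    simp only [List.mem_cons, List.not_mem_nil, or_false]; omega
  · have hc : sixth (baseOctad.testBit q) < 24 := by cases baseOctad.testBit q <;> decide
    rw [Equiv.Perm.mul_apply, pL_pt hv hc, hLq, eq']

theorem card_fix_six (b : Bool) :
    Nat.card ↥(fixNums ptEquiv M24 [0, 1, 2, 3, 4, sixth b]) = if b then 16 else 3 := by
  cases b
  · show Nat.card ↥(fixNums ptEquiv M24 [0, 1, 2, 3, 4, 5]) = 3
    rw [card_eq_length (l := fix5List.filter fun L => L.getD 5 0 == 5)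
      (fun L hL => (fix5List_spec (List.mem_filter.1 hL).1).1) six_data.2.2]
    · exact six_data.2.1
    · intro g
      constructor
      · rintro ⟨hg, hfix⟩
        obtain ⟨L, hL, hv, rfl⟩ := mem_fix5List hg fun i hi => hfix _ (by
          rw [ptEquiv_pt (by omega)]; simp only [List.mem_cons, List.not_mem_nil, or_false]; omega)
        refine ⟨L, List.mem_filter.2 ⟨hL, ?_⟩, rfl⟩
        have h5 := hfix (pt 5) (by rw [ptEquiv_pt (by omega)]; simp)
        rw [pL_pt hv (by omega)] at h5
        simpa using pt_inj (validL_getD_lt hv (by omega)) (by omega) h5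
      · rintro ⟨L, hL, rfl⟩
        obtain ⟨hL, h5⟩ := List.mem_filter.1 hL
        obtain ⟨hv, hm, hfix⟩ := fix5List_spec hL
        refine ⟨hm, fun q hq => ?_⟩
        by_cases h : (ptEquiv q).val = 5
        · rw [← pt_ptEquiv q, h, pL_pt hv (by omega), show L.getD 5 0 = 5 from beq_iff_eq.1 h5]
        · exact hfix q (by simp only [List.mem_cons, List.not_mem_nil, or_false] at hq ⊢; omega)
  · exact card_octad_pointwise

/-- A set of six points with the facts about it. -/
theorem six_set {E : Finset GolayPt} (hE : E.card = 6) :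
    (∀ σ : Equiv.Perm ↥E, ∃ g ∈ M24, ∀ p : ↥E, g p = σ p) ∧
    ∃ b : Bool, (b = true ↔ ∃ o ∈ octads, E ⊆ o) ∧
      Nat.card {g : Equiv.Perm GolayPt // g ∈ M24 ∧ ∀ p ∈ E, g p = p} = if b then 16 else 3 := by
  let f : Fin 6 ≃ ↥E := (E.equivFinOfCardEq hE).symm
  obtain ⟨g, hg, b, hb, h5, h6⟩ := six_map (f.toEmbedding.trans (Function.Embedding.subtype _))
  have hE' : ∀ {o : Finset GolayPt}, (∀ i, (f i).val ∈ o) ↔ E ⊆ o := fun {o} =>
    ⟨fun h p hp => by simpa using h (f.symm ⟨p, hp⟩), fun h i => h (f i).2⟩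
  refine ⟨fun σ => ?_, b, ?_, ?_⟩
  · obtain ⟨k, hk, b', hb', k5, k6⟩ := six_map ((f.trans σ).toEmbedding.trans (Function.Embedding.subtype _))
    have hbb : b = b' := by
      refine Bool.eq_iff_iff.2 (hb.trans (Iff.trans ?_ hb'.symm))
      refine exists_congr fun o => and_congr_right fun _ => ?_
      exact ⟨fun h i => hE'.1 h (σ (f i)).2, fun h i => by simpa using h (f.symm (σ.symm (f i)))⟩
    subst hbb
    refine ⟨k * g⁻¹, mul_mem hk (inv_mem hg), fun p => ?_⟩
    obtain ⟨i, rfl⟩ := f.surjective p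
    show k (g.symm (f i).val) = (σ (f i)).val
    induction i using Fin.lastCases with
    | last => rw [show (f (Fin.last 5)).val = g (pt (sixth b)) from h6.symm, Equiv.symm_apply_apply]; exact k6
    | cast i => rw [show (f (Fin.castSucc i)).val = g (pt i.val) from (h5 i).symm, Equiv.symm_apply_apply]; exact k5 i
  · refine hb.trans (exists_congr fun o => and_congr_right fun _ => ?_)
    exact hE'
  · rw [← card_fix_six b]
    refine Nat.card_congr ((MulAut.conj g⁻¹).toEquiv.subtypeEquiv fun x => ?_)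
    show _ ↔ MulAut.conj g⁻¹ x ∈ fixNums ptEquiv M24 [0, 1, 2, 3, 4, sixth b]
    rw [MulAut.conj_apply, inv_inv]
    constructor
    · rintro ⟨hx, hfix⟩
      refine ⟨mul_mem (mul_mem (inv_mem hg) hx) hg, fun q hq => ?_⟩
      show g.symm (x (g q)) = q
      have : g q ∈ E := by
        simp only [List.mem_cons, List.not_mem_nil, or_false] at hq
        have key : ∀ n, (ptEquiv q).val = n → q = pt n := fun n h => by rw [← h, pt_ptEquiv]
        rcases hq with h | h | h | h | h | h <;> rw [key _ h]
        · exact (show g (pt ((0 : Fin 5).val)) ∈ E by rw [h5]; exact (f _).2)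
        · exact (show g (pt ((1 : Fin 5).val)) ∈ E by rw [h5]; exact (f _).2)
        · exact (show g (pt ((2 : Fin 5).val)) ∈ E by rw [h5]; exact (f _).2)
        · exact (show g (pt ((3 : Fin 5).val)) ∈ E by rw [h5]; exact (f _).2)
        · exact (show g (pt ((4 : Fin 5).val)) ∈ E by rw [h5]; exact (f _).2)
        · rw [h6]; exact (f _).2
      rw [hfix _ this, Equiv.symm_apply_apply]
    · rintro ⟨hx, hfix⟩
      have hx' : x ∈ M24 := by simpa [mul_assoc] using mul_mem (mul_mem hg hx) (inv_mem hg)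
      refine ⟨hx', fun p hp => ?_⟩
      obtain ⟨i, hi⟩ := f.surjective ⟨p, hp⟩
      have hp' : (f i).val = p := congrArg Subtype.val hi
      rw [← hp']
      have step : ∀ n, n < 24 → n ∈ [0, 1, 2, 3, 4, sixth b] → x (g (pt n)) = g (pt n) := fun n hn24 hn => by
        have := hfix (pt n) (by rwa [ptEquiv_pt hn24])
        exact g.symm.injective (this.trans (g.symm_apply_apply _).symm)
      induction i using Fin.lastCases with
      | last =>
        rw [show (f (Fin.last 5)).val = g (pt (sixth b)) from h6.symm]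
        exact step _ (by cases b <;> decide) (by simp)
      | cast i =>
        rw [show (f (Fin.castSucc i)).val = g (pt i.val) from (h5 i).symm]
        exact step _ (by omega) (by simp only [List.mem_cons, List.not_mem_nil, or_false]; omega)

theorem six_setwise {E : Finset GolayPt} (hE : E.card = 6) (hno : ¬ ∃ o ∈ octads, E ⊆ o) :
    Nat.card ↥(MulAction.stabilizer M24 E) = 2160 := by
  obtain ⟨hperm, b, hb, hc⟩ := six_set hE
  have hbf : b = false := by
    cases b
    · rfl
    · exact absurd (hb.1 rfl) hno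
  subst hbf
  have hiff : ∀ (g : ↥(MulAction.stabilizer M24 E)) (p : GolayPt), ((g.val : M24) : Equiv.Perm GolayPt) p ∈ E ↔ p ∈ E :=
    fun g p => by
      have h : ((g.val : M24) : Equiv.Perm GolayPt) • E = E := g.2
      have h2 := Finset.smul_mem_smul_finset_iff (s := E) (b := p) ((g.val : M24) : Equiv.Perm GolayPt)
      rwa [h, Equiv.Perm.smul_def] at h2
  let φ : ↥(MulAction.stabilizer M24 E) →* Equiv.Perm ↥E :=
    { toFun := fun g => ((g.val : M24) : Equiv.Perm GolayPt).subtypePerm (hiff g)
      map_one' := by ext p; rfl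
      map_mul' := fun a b => by ext p; rfl }
  have hsurj : Function.Surjective φ := fun σ => by
    obtain ⟨g, hg, hgp⟩ := hperm σ
    refine ⟨⟨⟨g, hg⟩, ?_⟩, Equiv.ext fun p => Subtype.ext (hgp p)⟩
    show g • E = E
    refine Finset.eq_of_subset_of_card_le (fun q hq => ?_) (by rw [Finset.card_smul_finset])
    obtain ⟨r, hr, rfl⟩ := Finset.mem_smul_finset.1 hq
    rw [Equiv.Perm.smul_def, hgp ⟨r, hr⟩]
    exact (σ ⟨r, hr⟩).2
  have hker : Nat.card φ.ker = 3 := by
    rw [show (3 : ℕ) = if false = true then 16 else 3 from rfl, ← hc]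
    have hfix : ∀ (g : φ.ker) (p : GolayPt), p ∈ E → ((g.1.1 : M24) : Equiv.Perm GolayPt) p = p := fun g p hp => by
      have h := congrArg Subtype.val (DFunLike.congr_fun (MonoidHom.mem_ker.1 g.2) ⟨p, hp⟩)
      exact h
    refine Nat.card_congr ⟨fun g => ⟨((g.1.1 : M24) : Equiv.Perm GolayPt), g.1.1.2, hfix g⟩,
      fun x => ⟨⟨⟨x.1, x.2.1⟩, ?_⟩, ?_⟩, fun g => rfl, fun x => rfl⟩
    · show x.1 • E = E
      refine Finset.eq_of_subset_of_card_le (fun q hq => ?_) (by rw [Finset.card_smul_finset])
      obtain ⟨r, hr, rfl⟩ := Finset.mem_smul_finset.1 hq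
      rwa [Equiv.Perm.smul_def, x.2.2 r hr]
    · exact MonoidHom.mem_ker.2 (Equiv.ext fun p => Subtype.ext (x.2.2 p.1 p.2))
  have h := φ.ker.card_mul_index
  rw [Subgroup.index_ker, MonoidHom.range_eq_top.2 hsurj, Subgroup.card_top, hker, Nat.card_perm,
    Nat.card_eq_fintype_card (α := ↥E), Fintype.card_coe, hE] at h
  exact h.symm

end CfsgLib.M24Cert
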