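import Cfsg.Agent.Lib.M24Cert.Pairs

/-!
# Position classes in tables, and maximality from orbit sizes

Inside a part of a table the families with the same position code against a base family are
conjugate under the stabiliser of that family, as soon as a forest with one root for each code
exists. A point stabiliser is maximal when no partial sum of its suborbit sizes divides the degree.
-/

set_option autoImplicit false

namespace CfsgLib.M24Cert

open Cfsg CfsgLib.Golay

open scoped Pointwise

/-- The codes of a list of roots are pairwise different, and the roots lie in the table. -/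
noncomputable def rootsOkOn (t : Tbl) (B : List ℕ) (roots : List ℕ) : Bool :=
  allB (fun r => Nat.ble (r + 1) t.N) roots && decide ((roots.map fun r => posCodeL B (t.obj r)).Nodup)

/-- Two selected families with the same position code are conjugate. -/
theorem class_transitive {t : Tbl} (hs : t.sortedOk = true) {B : List ℕ} (hB : Small B)
    (hBs : strictB B = true) {gens : List GenT} (hg : gensOk B gens = true) {aux roots : List ℕ}
    {P : ℕ → Bool} (hf : t.forestOk gens aux P roots = true) (hr : rootsOkOn t B roots = true)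
    {X X' : Finset (Finset GolayPt)} {i j : ℕ} (hi : i < t.N) (hj : j < t.N) (hX : t.el i = X)
    (hX' : t.el j = X') (hPi : P i = true) (hPj : P j = true)
    (hcode : posCode (oset B) X = posCode (oset B) X') :
    ∃ g ∈ stabF (oset B), g • X = X' := by
  subst hX
  subst hX'
  simp only [rootsOkOn, Bool.and_eq_true, allB_iff, decide_eq_true_eq, Nat.ble_eq] at hr
  obtain ⟨r, hr1, g, hg1, e1⟩ := Tbl.forest_spec hf (stabF (oset B)) (gensOk_spec hB hg) i hi hPi
  obtain ⟨r', hr2, g', hg2, e2⟩ := Tbl.forest_spec hf (stabF (oset B)) (gensOk_spec hB hg) j hj hPj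
  have hc : ∀ k < t.N, posCode (oset B) (t.el k) = posCodeL B (t.obj k) := fun k hk =>
    posCode_oset hB (t.small k) hBs (Tbl.strict hs hk)
  have : r = r' := by
    refine List.inj_on_of_nodup_map hr.2 hr1 hr2 ?_
    rw [← hc r (hr.1 r hr1), ← hc r' (hr.1 r' hr2), ← posCode_smul hg1.2 (t.el r),
      ← posCode_smul hg2.2 (t.el r'), e1, e2, hcode]
  subst this
  exact ⟨g' * g⁻¹, mul_mem hg2 (inv_mem hg1), by rw [← e2, ← e1, mul_smul, inv_smul_smul]⟩

/-- The subset sums of a list. -/
def subSums : List ℕ → List ℕ
  | [] => [0]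
  | c :: l => subSums l ++ (subSums l).map (c + ·)

theorem mem_subSums : ∀ (cs : List ℕ) (b : List Bool), b.length = cs.length →
    ((cs.zip b).map fun cb => if cb.2 then cb.1 else 0).sum ∈ subSums cs
  | [], b, _ => by simp [subSums]
  | c :: cs, [], h => by simp at h
  | c :: cs, x :: b, h => by
    have ih := mem_subSums cs b (by simpa using h)
    cases x
    · simp only [List.zip_cons_cons, List.map_cons, List.sum_cons, subSums, List.mem_append]
      exact Or.inl (by simpa using ih)
    · simp only [List.zip_cons_cons, List.map_cons, List.sum_cons, subSums, List.mem_append]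
      exact Or.inr (List.mem_map.2 ⟨_, ih, by simp⟩)

/-- A point stabiliser is maximal if the degree has no divisor of the form `1 +` a partial sum of
the other suborbit sizes, apart from `1` and the degree. -/
theorem isCoatom_of_suborbits {G β : Type*} [Group G] [Finite G] [MulAction G β] (x : β)
    (reps : List β) (cs : List ℕ)
    (hcs : reps.map (fun r => (MulAction.orbit ↥(MulAction.stabilizer G x) r).ncard) = cs)
    (hnd : cs.Nodup) (hx : ∀ c ∈ cs, c ≠ 1)
    (hcover : ∀ y ∈ MulAction.orbit G x, y = x ∨ ∃ r ∈ reps, y ∈ MulAction.orbit ↥(MulAction.stabilizer G x) r)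
    (hN : 1 < (MulAction.orbit G x).ncard)
    (hdiv : ∀ s ∈ subSums cs, (1 + s) ∣ (MulAction.orbit G x).ncard → s = 0 ∨ 1 + s = (MulAction.orbit G x).ncard) :
    IsCoatom (MulAction.stabilizer G x) := by
  classical
  set H := MulAction.stabilizer G x with hH
  set N := (MulAction.orbit G x).ncard with hNdef
  refine ⟨fun htop => ?_, fun K hK => ?_⟩
  · have : MulAction.orbit G x = {x} := by
      ext y
      refine ⟨?_, fun h => by rw [Set.mem_singleton_iff.1 h]; exact MulAction.mem_orbit_self x⟩
      rintro ⟨g, rfl⟩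
      have hg : g ∈ H := htop ▸ Subgroup.mem_top g
      exact hg
    rw [hNdef, this, Set.ncard_singleton] at hN
    omega
  have hHK : H ≤ K := hK.le
  set S := MulAction.orbit ↥K x with hS
  have hSfin : S.Finite := Set.finite_range _
  have hSG : S ⊆ MulAction.orbit G x := by
    rintro _ ⟨k, rfl⟩
    exact ⟨k.val, rfl⟩
  have hclosed : ∀ h ∈ H, ∀ y ∈ S, h • y ∈ S := by
    rintro h hh _ ⟨k, rfl⟩
    exact ⟨⟨h, hHK hh⟩ * k, mul_smul h k.val x⟩
  have hdvd : S.ncard ∣ N := by
    have h1 := card_inf_stabilizer_mul K x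
    rw [← hH, inf_eq_right.2 hHK] at h1
    have h2 := H.card_mul_index
    rw [hH, MulAction.index_stabilizer, ← hH] at h2
    have h3 := Subgroup.card_subgroup_dvd_card K
    rw [← h1, ← h2] at h3
    exact Nat.dvd_of_mul_dvd_mul_left Nat.card_pos h3
  have key : ∀ l : List β, (l.map fun r => (MulAction.orbit ↥H r).ncard).Nodup →
      (∀ r ∈ l, (MulAction.orbit ↥H r).ncard ≠ 1) → ∀ T : Set β, T ⊆ S →
      (∀ y ∈ T, ∀ h ∈ H, h • y ∈ T) → (∀ y ∈ T, y = x ∨ ∃ r ∈ l, y ∈ MulAction.orbit ↥H r) → x ∈ T →
      ∃ b : List Bool, b.length = l.length ∧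
        T.ncard = 1 + (((l.map fun r => (MulAction.orbit ↥H r).ncard).zip b).map
          fun cb => if cb.2 then cb.1 else 0).sum := by
    intro l
    induction l with
    | nil =>
      intro _ _ T _ _ hcov hxT
      refine ⟨[], rfl, ?_⟩
      have : T = {x} := Set.eq_singleton_iff_unique_mem.2 ⟨hxT, fun y hy => (hcov y hy).resolve_right (by simp)⟩
      simp [this]
    | cons r l ih =>
      intro hnd' hne T hTS hTcl hcov hxT
      rw [List.map_cons, List.nodup_cons] at hnd'
      by_cases hr : r ∈ T
      · have hsub : MulAction.orbit ↥H r ⊆ T := by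
          rintro _ ⟨h, rfl⟩; exact hTcl r hr h.val h.2
        have hxr : x ∉ MulAction.orbit ↥H r := by
          intro h
          rw [MulAction.mem_orbit_symm] at h
          refine hne r List.mem_cons_self ?_
          have : MulAction.orbit ↥H r = {x} := by
            rw [MulAction.orbit_eq_iff.2 h]
            ext y
            refine ⟨?_, fun e => by rw [Set.mem_singleton_iff.1 e]; exact MulAction.mem_orbit_self x⟩
            rintro ⟨k, rfl⟩
            exact k.2
          rw [this, Set.ncard_singleton]
        have hcl' : ∀ y ∈ T \ MulAction.orbit ↥H r, ∀ h ∈ H, h • y ∈ T \ MulAction.orbit ↥H r := by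
          intro y hy h hh
          refine ⟨hTcl y hy.1 h hh, fun hm => hy.2 ?_⟩
          rw [← inv_smul_smul h y]
          exact MulAction.mem_orbit_of_mem_orbit (⟨h⁻¹, inv_mem hh⟩ : H) hm
        obtain ⟨b, hb, hT⟩ := ih hnd'.2 (fun r' h => hne r' (List.mem_cons_of_mem _ h))
          (T \ MulAction.orbit ↥H r) (Set.sdiff_subset.trans hTS) hcl'
          (fun y hy => (hcov y hy.1).imp id fun ⟨r', hr', hy'⟩ => by
            rcases List.mem_cons.1 hr' with rfl | h
            · exact absurd hy' hy.2
            · exact ⟨r', h, hy'⟩) ⟨hxT, hxr⟩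
        refine ⟨true :: b, by simp [hb], ?_⟩
        rw [← Set.ncard_sdiff_add_ncard_of_subset hsub (hSfin.subset hTS), hT]
        simp only [List.map_cons, List.zip_cons_cons, List.sum_cons, if_true]
        omega
      · obtain ⟨b, hb, hT⟩ := ih hnd'.2 (fun r' h => hne r' (List.mem_cons_of_mem _ h)) T hTS hTcl
          (fun y hy => (hcov y hy).imp id fun ⟨r', hr', hy'⟩ => by
            rcases List.mem_cons.1 hr' with rfl | h
            · obtain ⟨k, rfl⟩ := hy'
              exact absurd (by simpa [Subgroup.smul_def] using hTcl _ hy k.val⁻¹ (inv_mem k.2)) hr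
            · exact ⟨r', h, hy'⟩) hxT
        refine ⟨false :: b, by simp [hb], ?_⟩
        rw [hT]
        simp [List.zip_cons_cons]
  obtain ⟨b, hb, hcard⟩ := key reps (hcs ▸ hnd) (fun r hr => hx _ (hcs ▸ List.mem_map.2 ⟨r, hr, rfl⟩)) S
    subset_rfl (fun y hy h hh => hclosed h hh y hy) (fun y hy => hcover y (hSG hy)) (MulAction.mem_orbit_self x)
  rw [hcs] at hcard
  have hmem := mem_subSums cs b (by rw [hb, ← hcs, List.length_map])
  rcases hdiv _ hmem (hcard ▸ hdvd) with h | h
  · exfalso
    have hone : S = {x} := by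
      obtain ⟨a, ha⟩ := Set.ncard_eq_one.1 (show S.ncard = 1 by omega)
      have : x ∈ S := MulAction.mem_orbit_self x
      rw [ha] at this ⊢
      rw [Set.mem_singleton_iff.1 this]
    refine hK.ne' (le_antisymm (fun k hk => ?_) hHK)
    have : k • x ∈ S := ⟨⟨k, hk⟩, rfl⟩
    rw [hone] at this
    exact this
  · have hSeq : S = MulAction.orbit G x :=
      Set.eq_of_subset_of_ncard_le hSG (by omega) (Set.finite_range _)
    rw [eq_top_iff]
    intro g _
    have : g • x ∈ S := hSeq.symm ▸ ⟨g, rfl⟩
    obtain ⟨k, hk⟩ := this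
    have hgk : k.val⁻¹ * g ∈ H := by
      rw [hH, MulAction.mem_stabilizer_iff, mul_smul, inv_smul_eq_iff]
      exact hk.symm
    simpa using mul_mem k.2 (hHK hgk)

/-- The octad stabiliser, the sextet and the trio stabiliser: the orbit of the whole group. -/
theorem orbit_group {t : Tbl} {hint : List ℕ} (hc : t.closedOk m24Tabs hint = true)
    {X₀ X : Finset (Finset GolayPt)} (htr : ∀ Y ∈ t.range, ∃ g ∈ M24, g • X₀ = Y) (hX : X ∈ t.range) :
    MulAction.orbit M24 X = t.range := by
  obtain ⟨g, hg, rfl⟩ := htr X hX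
  apply Set.Subset.antisymm
  · rintro _ ⟨⟨a, ha⟩, rfl⟩
    exact Tbl.smul_mem hc ha hX
  · intro Y hY
    obtain ⟨k, hk, rfl⟩ := htr Y hY
    exact ⟨⟨k * g⁻¹, mul_mem hk (inv_mem hg)⟩, show (k * g⁻¹) • g • X₀ = k • X₀ by
      rw [mul_smul, inv_smul_smul]⟩

end CfsgLib.M24Cert
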