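import Cfsg.Prelude.Def_SporadicCombinatorics
import Cfsg.Agent.Lib.M24Cert.Fast
import Cfsg.Agent.Lib.M24Cert.TableData

/-!
# Packed tables of point-set families, and certified orbits on them
-/

set_option autoImplicit false

namespace CfsgLib.M24Cert

open Cfsg CfsgLib.Golay

open scoped Pointwise

theorem toSet_or (a b : ℕ) : toSet (a ||| b) = toSet a ∪ toSet b := by
  ext p; simp [mem_toSet, Nat.testBit_lor]

/-! ### Families given by lists of masks -/

/-- The family of point sets given by a list of masks. -/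
def oset (l : List ℕ) : Finset (Finset GolayPt) := (l.map toSet).toFinset

theorem mem_oset {l : List ℕ} {s : Finset GolayPt} : s ∈ oset l ↔ ∃ n ∈ l, toSet n = s := by
  simp [oset]

/-- Every entry is below `2 ^ 24`. -/
def Small (l : List ℕ) : Prop := ∀ n ∈ l, n < 2 ^ 24

theorem toSet_mem_oset {l : List ℕ} (hl : Small l) {n : ℕ} (hn : n < 2 ^ 24) : toSet n ∈ oset l ↔ n ∈ l := by
  rw [mem_oset]
  exact ⟨fun ⟨m, hm, e⟩ => toSet_inj (hl m hm) hn e ▸ hm, fun h => ⟨n, h, rfl⟩⟩

/-- Strictly increasing. -/
noncomputable def strictB (l : List ℕ) : Bool :=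
  List.rec (motive := fun _ => Bool) true
    (fun a l' ih => List.rec (motive := fun _ => Bool) true (fun b _ _ => Nat.ble (a + 1) b && ih) l') l

theorem strictB_pairwise : ∀ {l : List ℕ}, strictB l = true → l.Pairwise (· < ·)
  | [], _ => List.Pairwise.nil
  | [a], _ => List.pairwise_singleton _ a
  | a :: b :: l, h => by
    have h' : (Nat.ble (a + 1) b && strictB (b :: l)) = true := h
    simp only [Bool.and_eq_true, Nat.ble_eq] at h'
    have := strictB_pairwise h'.2
    refine List.pairwise_cons.2 ⟨fun x hx => ?_, this⟩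
    rcases List.mem_cons.1 hx with rfl | hx
    · omega
    · have := (List.pairwise_cons.1 this).1 x hx; omega

theorem oset_inj {l l' : List ℕ} (hl : Small l) (hl' : Small l') (hs : strictB l = true) (hs' : strictB l' = true)
    (h : oset l = oset l') : l = l' := by
  refine List.Perm.eq_of_pairwise (le := (· < ·)) (fun a b _ _ h1 h2 => absurd h1 (Nat.lt_asymm h2))
    (strictB_pairwise hs) (strictB_pairwise hs') ?_
  refine (List.perm_ext_iff_of_nodup (strictB_pairwise hs).nodup (strictB_pairwise hs').nodup).2 fun n => ?_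
  constructor
  · intro hn
    have := (toSet_mem_oset hl' (hl n hn)).1
    exact this (h ▸ (toSet_mem_oset hl (hl n hn)).2 hn)
  · intro hn
    have := (toSet_mem_oset hl (hl' n hn)).1
    exact this (h ▸ (toSet_mem_oset hl' (hl' n hn)).2 hn)

theorem card_oset {l : List ℕ} (hl : Small l) (hs : strictB l = true) : (oset l).card = l.length := by
  rw [oset, List.toFinset_card_of_nodup, List.length_map]
  exact List.Nodup.map_on (fun a ha b hb e => toSet_inj (hl a ha) (hl b hb) e) (strictB_pairwise hs).nodup

/-- Insert into a sorted list. -/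
noncomputable def ins (a : ℕ) (l : List ℕ) : List ℕ :=
  List.rec (motive := fun _ => List ℕ) [a] (fun b l' ih => cond (Nat.ble a b) (a :: b :: l') (b :: ih)) l

/-- The images under a tabulated permutation, sorted. -/
noncomputable def act (G : GenT) (l : List ℕ) : List ℕ :=
  List.rec (motive := fun _ => List ℕ) [] (fun n _ ih => ins (G.app n) ih) l

theorem mem_ins {a x : ℕ} : ∀ {l : List ℕ}, x ∈ ins a l ↔ x = a ∨ x ∈ l
  | [] => by simp [ins]
  | b :: l => by
    rw [show ins a (b :: l) = cond (Nat.ble a b) (a :: b :: l) (b :: ins a l) from rfl]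
    cases Nat.ble a b
    · simp [mem_ins (l := l)]; tauto
    · simp

theorem mem_act {G : GenT} {x : ℕ} : ∀ {l : List ℕ}, x ∈ act G l ↔ ∃ n ∈ l, G.app n = x
  | [] => by simp [act]
  | a :: l => by
    rw [show act G (a :: l) = ins (G.app a) (act G l) from rfl, mem_ins, mem_act (l := l)]
    simp [eq_comm]

theorem smul_oset {G : GenT} (hG : G.ok = true) (l : List ℕ) : pL G.L • oset l = oset (act G l) := by
  ext s
  rw [Finset.mem_smul_finset]
  constructor
  · rintro ⟨t, ht, rfl⟩
    obtain ⟨n, hn, rfl⟩ := mem_oset.1 ht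
    exact mem_oset.2 ⟨G.app n, mem_act.2 ⟨n, hn, rfl⟩, by rw [GenT.app_eq hG, smul_toSet_imgF (GenT.valid hG)]⟩
  · intro hs
    obtain ⟨m, hm, rfl⟩ := mem_oset.1 hs
    obtain ⟨n, hn, rfl⟩ := mem_act.1 hm
    exact ⟨toSet n, mem_oset.2 ⟨n, hn, rfl⟩, by rw [GenT.app_eq hG, smul_toSet_imgF (GenT.valid hG)]⟩

/-- The permutation fixes the family. -/
noncomputable def fixesB (G : GenT) (l : List ℕ) : Bool := allB (fun n => memB (G.app n) l) l

theorem fixesB_iff {G : GenT} (hG : G.ok = true) {l : List ℕ} (hl : Small l) :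
    fixesB G l = true ↔ pL G.L • oset l = oset l := by
  simp only [fixesB, allB_iff, memB_iff]
  constructor
  · intro h
    refine Finset.eq_of_subset_of_card_le (fun s hs => ?_) (by rw [Finset.card_smul_finset])
    obtain ⟨t, ht, rfl⟩ := Finset.mem_smul_finset.1 hs
    obtain ⟨n, hn, rfl⟩ := mem_oset.1 ht
    exact mem_oset.2 ⟨_, h n hn, by rw [GenT.app_eq hG, smul_toSet_imgF (GenT.valid hG)]⟩
  · intro h n hn
    have : pL G.L • toSet n ∈ oset l := h ▸ Finset.smul_mem_smul_finset (mem_oset.2 ⟨n, hn, rfl⟩)
    rw [smul_toSet_imgF (GenT.valid hG), ← GenT.app_eq hG] at this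
    refine (toSet_mem_oset hl ?_).1 this
    rw [GenT.app_eq hG]; exact imgF_lt (GenT.valid hG) n

/-! ### The relative position code -/

/-- The code of the position of the family `X` against the family `B`. -/
def posCode (B X : Finset (Finset GolayPt)) : ℕ := ∑ s ∈ X, 8 ^ (∑ b ∈ B, (s ∩ b).card ^ 2)

/-- The same on lists. -/
noncomputable def posCodeL (B X : List ℕ) : ℕ := sumB (fun s => 8 ^ sumB (fun b => bc (Nat.land s b) ^ 2) B) X

theorem posCode_smul {g : Equiv.Perm GolayPt} {B : Finset (Finset GolayPt)} (hB : g • B = B)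
    (X : Finset (Finset GolayPt)) : posCode B (g • X) = posCode B X := by
  have e : ∀ {M : Type} [AddCommMonoid M] (Y : Finset (Finset GolayPt)) (f : Finset GolayPt → M),
      ∑ s ∈ g • Y, f s = ∑ s ∈ Y, f (g • s) := fun Y f => by
    rw [Finset.smul_finset_def, Finset.sum_image fun _ _ _ _ h => MulAction.injective g h]
  rw [posCode, e]
  refine Finset.sum_congr rfl fun s _ => congrArg (8 ^ ·) ?_
  conv_lhs => rw [← hB]
  rw [e]
  exact Finset.sum_congr rfl fun b _ => by rw [← Finset.smul_finset_inter, Finset.card_smul_finset]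

theorem posCode_oset {B X : List ℕ} (hB : Small B) (hX : Small X) (hBs : strictB B = true) (hXs : strictB X = true) :
    posCode (oset B) (oset X) = posCodeL B X := by
  have hn : ∀ {l : List ℕ}, Small l → strictB l = true → (l.map toSet).Nodup := fun hl hs =>
    List.Nodup.map_on (fun a ha b hb e => toSet_inj (hl a ha) (hl b hb) e) (strictB_pairwise hs).nodup
  rw [posCode, oset, List.sum_toFinset _ (hn hX hXs), List.map_map, posCodeL, sumB_eq]
  refine congrArg List.sum (List.map_congr_left fun s _ => ?_)
  simp only [Function.comp_apply, oset, sumB_eq]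
  rw [List.sum_toFinset _ (hn hB hBs), List.map_map]
  refine congrArg (fun l : List ℕ => 8 ^ l.sum) (List.map_congr_left fun b _ => ?_)
  simp only [Function.comp_apply]
  rw [← toSet_and, card_toSet_bc]
  rfl

/-! ### Packed tables -/

/-- The entry `i` of packed data of width `w`, with 256 entries in each number. -/
noncomputable def chunkAt (data : List ℕ) (w i : ℕ) : ℕ := (getR data (i / 256) >>> (w * (i % 256))) % 2 ^ w

/-- Split into fields of 24 bits. -/
noncomputable def fields (k : ℕ) : ℕ → List ℕ :=
  Nat.rec (motive := fun _ => ℕ → List ℕ) (fun _ => []) (fun _ ih x => (x % 16777216) :: ih (x / 16777216)) k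

theorem small_fields : ∀ k x : ℕ, Small (fields k x)
  | 0, _ => by intro n hn; exact absurd hn (List.not_mem_nil)
  | k + 1, x => by
    intro n hn
    rcases List.mem_cons.1 (show n ∈ x % 16777216 :: fields k (x / 16777216) from hn) with rfl | hn
    · exact Nat.mod_lt _ (by norm_num)
    · exact small_fields k _ n hn

theorem length_fields : ∀ k x : ℕ, (fields k x).length = k
  | 0, _ => rfl
  | k + 1, x => by
    rw [show fields (k + 1) x = x % 16777216 :: fields k (x / 16777216) from rfl, List.length_cons, length_fields k]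

/-- Join fields. -/
noncomputable def enc (l : List ℕ) : ℕ :=
  List.rec (motive := fun _ => ℕ) 0 (fun a _ ih => a + 16777216 * ih) l

/-- A table of families with `k` members each. -/
structure Tbl where
  /-- The number of members of each family. -/
  k : ℕ
  /-- The number of families. -/
  N : ℕ
  /-- The packed families. -/
  data : List ℕ

/-- The family with number `i`, as a list. -/
noncomputable def Tbl.obj (t : Tbl) (i : ℕ) : List ℕ := fields t.k (chunkAt t.data (24 * t.k) i)

/-- The family with number `i`. -/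
noncomputable def Tbl.el (t : Tbl) (i : ℕ) : Finset (Finset GolayPt) := oset (t.obj i)

/-- All families of the table. -/
noncomputable def Tbl.range (t : Tbl) : Set (Finset (Finset GolayPt)) := t.el '' {i | i < t.N}

theorem Tbl.small (t : Tbl) (i : ℕ) : Small (t.obj i) := small_fields _ _

/-- The order check of a table. -/
noncomputable def Tbl.sortedOk (t : Tbl) : Bool :=
  allLt (fun i => strictB (t.obj i) && (Nat.beq (i + 1) t.N || Nat.ble (enc (t.obj i) + 1) (enc (t.obj (i + 1))))) t.N

variable {t : Tbl}

theorem Tbl.strict (h : t.sortedOk = true) {i : ℕ} (hi : i < t.N) : strictB (t.obj i) = true := by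
  have := allLt_spec h i hi
  simp only [Bool.and_eq_true] at this
  exact this.1

theorem Tbl.el_inj (h : t.sortedOk = true) {i j : ℕ} (hi : i < t.N) (hj : j < t.N) (e : t.el i = t.el j) :
    i = j := by
  have hlt : ∀ j, j < t.N → ∀ i < j, enc (t.obj i) < enc (t.obj j) := by
    intro j
    induction j with
    | zero => exact fun _ i hi => absurd hi (Nat.not_lt_zero i)
    | succ j ih =>
      intro hj i hij
      have := allLt_spec h j (by omega)
      simp only [Bool.and_eq_true, Bool.or_eq_true, Nat.ble_eq] at this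
      have hstep : enc (t.obj j) < enc (t.obj (j + 1)) :=
        this.2.resolve_left fun e => absurd (Nat.eq_of_beq_eq_true e) (by omega)
      rcases Nat.lt_succ_iff_lt_or_eq.1 hij with hij | rfl
      · exact (ih (by omega) i hij).trans hstep
      · exact hstep
  have := oset_inj (t.small i) (t.small j) (Tbl.strict h hi) (Tbl.strict h hj) e
  rcases Nat.lt_trichotomy i j with hlt' | hlt' | hlt'
  · exact absurd (congrArg enc this) (hlt j hj i hlt').ne
  · exact hlt'
  · exact absurd (congrArg enc this).symm (hlt i hi j hlt').ne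

theorem Tbl.ncard_filter (h : t.sortedOk = true) (P : Finset (Finset GolayPt) → Prop) (Pb : ℕ → Bool)
    (hP : ∀ i < t.N, P (t.el i) ↔ Pb i = true) :
    {X | X ∈ t.range ∧ P X}.ncard = countLt Pb t.N := by
  have e : {X | X ∈ t.range ∧ P X} = t.el '' (((Finset.range t.N).filter fun i => Pb i = true : Finset ℕ) : Set ℕ) := by
    ext X
    simp only [Tbl.range, Set.mem_image, Set.mem_setOf_eq, Finset.coe_filter, Finset.mem_range]
    constructor
    · rintro ⟨⟨i, hi, rfl⟩, hp⟩
      exact ⟨i, ⟨hi, (hP i hi).1 hp⟩, rfl⟩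
    · rintro ⟨i, ⟨hi, hp⟩, rfl⟩
      exact ⟨⟨i, hi, rfl⟩, (hP i hi).2 hp⟩
  rw [e, Set.InjOn.ncard_image, Set.ncard_coe_finset, countLt_eq]
  intro i hi j hj hij
  simp only [Finset.coe_filter, Finset.mem_range, Set.mem_setOf_eq] at hi hj
  exact Tbl.el_inj h hi.1 hj.1 hij

theorem Tbl.ncard_range (h : t.sortedOk = true) : t.range.ncard = t.N := by
  have := Tbl.ncard_filter h (fun _ => True) (fun _ => true) (fun _ _ => by simp)
  simp only [and_true, Set.setOf_mem_eq] at this
  rw [this, countLt_eq, Finset.filter_true_of_mem (fun _ _ => rfl), Finset.card_range]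

/-- The tabulated generators of the group. -/
def gensMatch (gens : List GenT) : Bool := decide (gens.map GenT.L = m24ChainGens)

/-- The closure check of a table under the generators of the group. -/
noncomputable def Tbl.closedOk (t : Tbl) (gens : List GenT) (hint : List ℕ) : Bool :=
  gensMatch gens && allB GenT.ok gens && allLt (fun i =>
    let h := chunkAt hint 36 i
    List.rec (motive := fun _ => ℕ → Bool) (fun _ => true)
      (fun G _ ih h => Nat.ble (h % 4096 + 1) t.N && eqB (act G (t.obj i)) (t.obj (h % 4096)) && ih (h / 4096)) gens h) t.N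

theorem Tbl.smul_mem {gens : List GenT} {hint : List ℕ} (h : t.closedOk gens hint = true) {g : Equiv.Perm GolayPt}
    (hg : g ∈ M24) {X : Finset (Finset GolayPt)} (hX : X ∈ t.range) : g • X ∈ t.range := by
  simp only [Tbl.closedOk, Bool.and_eq_true] at h
  obtain ⟨⟨hmatch, hok⟩, hall⟩ := h
  have key : ∀ i, ∀ (gs : List GenT) (h : ℕ), List.rec (motive := fun _ => ℕ → Bool) (fun _ => true)
      (fun G _ ih h => Nat.ble (h % 4096 + 1) t.N && eqB (act G (t.obj i)) (t.obj (h % 4096)) && ih (h / 4096)) gs h = true →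
      ∀ G ∈ gs, ∃ j < t.N, act G (t.obj i) = t.obj j := by
    intro i gs
    induction gs with
    | nil => intro _ _ G hG; exact absurd hG List.not_mem_nil
    | cons G₀ gs ih =>
      intro h hh G hG
      simp only [Bool.and_eq_true, Nat.ble_eq] at hh
      rcases List.mem_cons.1 hG with rfl | hG
      · exact ⟨_, by omega, eqB_eq hh.1.2⟩
      · exact ih _ hh.2 G hG
  have hle : M24 ≤ MulAction.stabilizer (Equiv.Perm GolayPt) t.range := by
    refine M24_le_of_gens fun L hL => ?_
    rw [MulAction.mem_stabilizer_iff]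
    refine Set.eq_of_subset_of_ncard_le ?_ (by rw [Set.ncard_smul_set]) ((Set.finite_lt_nat t.N).image _)
    rintro _ ⟨_, ⟨i, hi, rfl⟩, rfl⟩
    rw [← of_decide_eq_true hmatch, List.mem_map] at hL
    obtain ⟨G, hG, rfl⟩ := hL
    obtain ⟨j, hj, he⟩ := key i gens _ (allLt_spec hall i hi) G hG
    refine ⟨j, hj, ?_⟩
    show t.el j = pL G.L • t.el i
    rw [Tbl.el, Tbl.el, smul_oset (allB_iff.1 hok G hG), he]
  have := hle hg
  rw [MulAction.mem_stabilizer_iff] at this
  rw [← this]
  exact Set.smul_mem_smul_set hX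

/-! ### Reachability forests -/

/-- The parent check at one family. -/
noncomputable def Tbl.parentOk (t : Tbl) (gens : List GenT) (aux : List ℕ) (P : ℕ → Bool) (i : ℕ) : Bool :=
  let a := chunkAt aux 32 i
  Nat.ble (a % 4096 + 1) t.N && P (a % 4096) && Nat.ble (chunkAt aux 32 (a % 4096) / 65536 + 1) (a / 65536) &&
    List.rec (motive := fun _ => ℕ → Bool) (fun _ => false)
      (fun G _ ih k => cond (Nat.beq k 0) (eqB (act G (t.obj (a % 4096))) (t.obj i)) (ih (k - 1))) gens (a / 4096 % 16)

/-- The check of a forest on the families selected by `P`. -/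
noncomputable def Tbl.forestOk (t : Tbl) (gens : List GenT) (aux : List ℕ) (P : ℕ → Bool) (roots : List ℕ) : Bool :=
  allB GenT.ok gens && allLt (fun i => cond (P i) (memB i roots || t.parentOk gens aux P i) true) t.N

theorem Tbl.forest_spec {gens : List GenT} {aux : List ℕ} {P : ℕ → Bool} {roots : List ℕ}
    (h : t.forestOk gens aux P roots = true) (H : Subgroup (Equiv.Perm GolayPt))
    (hgens : ∀ G ∈ gens, pL G.L ∈ H) :
    ∀ i < t.N, P i = true → ∃ r ∈ roots, ∃ g ∈ H, g • t.el r = t.el i := by
  simp only [Tbl.forestOk, Bool.and_eq_true] at h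
  obtain ⟨hok, hall⟩ := h
  have key : ∀ (i p : ℕ) (gs : List GenT) (k : ℕ), List.rec (motive := fun _ => ℕ → Bool) (fun _ => false)
      (fun G _ ih k => cond (Nat.beq k 0) (eqB (act G (t.obj p)) (t.obj i)) (ih (k - 1))) gs k = true →
      ∃ G ∈ gs, act G (t.obj p) = t.obj i := by
    intro i p gs
    induction gs with
    | nil => intro k hk; exact Bool.noConfusion hk
    | cons G gs ih =>
      intro k hk
      rcases k with _ | k
      · exact ⟨G, List.mem_cons_self, eqB_eq hk⟩
      · obtain ⟨G', hG', he⟩ := ih k hk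
        exact ⟨G', List.mem_cons_of_mem _ hG', he⟩
  suffices ∀ d i, i < t.N → chunkAt aux 32 i / 65536 ≤ d → P i = true →
      ∃ r ∈ roots, ∃ g ∈ H, g • t.el r = t.el i from fun i hi => this _ i hi le_rfl
  intro d
  induction d using Nat.strong_induction_on with
  | _ d ih =>
    intro i hi hd hP
    have := allLt_spec hall i hi
    simp only [hP, cond_true, Bool.or_eq_true, memB_iff, Tbl.parentOk, Bool.and_eq_true, Nat.ble_eq] at this
    rcases this with hr | ⟨⟨⟨hp, hPp⟩, hdd⟩, hact⟩
    · exact ⟨i, hr, 1, one_mem _, one_smul _ _⟩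
    · obtain ⟨r, hr, g, hg, he⟩ := ih _ (show chunkAt aux 32 (chunkAt aux 32 i % 4096) / 65536 < d by omega) _
        (show chunkAt aux 32 i % 4096 < t.N by omega) le_rfl hPp
      obtain ⟨G, hG, hGe⟩ := key i _ gens _ hact
      exact ⟨r, hr, _, mul_mem (hgens G hG) hg, by rw [mul_smul, he, Tbl.el, Tbl.el, smul_oset (allB_iff.1 hok G hG), hGe]⟩

end CfsgLib.M24Cert
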