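import Cfsg.Agent.Lib.M24Cert.Orbits

/-!
# A three-element set against the sextets
-/

set_option autoImplicit false

namespace CfsgLib.M24Cert

open Cfsg CfsgLib.Golay

open scoped Pointwise

/-- The number of members meeting a set. -/
def meetCount (Y : Finset GolayPt) (S : Finset (Finset GolayPt)) : ℕ := (S.filter fun t => (t ∩ Y).Nonempty).card

theorem meetCount_smul (g : Equiv.Perm GolayPt) (Y : Finset GolayPt) (S : Finset (Finset GolayPt)) :
    meetCount (g • Y) (g • S) = meetCount Y S := by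
  rw [meetCount, meetCount, ← Finset.card_smul_finset g (S.filter fun t => (t ∩ Y).Nonempty)]
  congr 1
  ext t
  simp only [Finset.mem_filter, Finset.mem_smul_finset]
  constructor
  · rintro ⟨⟨u, hu, rfl⟩, hn⟩
    rw [← Finset.smul_finset_inter, Finset.smul_finset_nonempty] at hn
    exact ⟨u, ⟨hu, hn⟩, rfl⟩
  · rintro ⟨u, ⟨hu, hn⟩, rfl⟩
    exact ⟨⟨u, hu, rfl⟩, by rw [← Finset.smul_finset_inter]; exact hn.smul_finset⟩

/-- The number of members meeting a mask, on lists. -/
noncomputable def meetB (m : ℕ) (l : List ℕ) : ℕ := sumB (fun n => cond (Nat.beq (Nat.land n m) 0) 0 1) l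

theorem meetCount_oset {m : ℕ} {l : List ℕ} (hl : Small l) (hs : strictB l = true) :
    meetCount (toSet m) (oset l) = meetB m l := by
  rw [meetCount, oset, Finset.card_filter, List.sum_toFinset _
    (List.Nodup.map_on (fun a ha b hb e => toSet_inj (hl a ha) (hl b hb) e) (strictB_pairwise hs).nodup),
    List.map_map, meetB, sumB_eq]
  refine congrArg List.sum (List.map_congr_left fun n hn => ?_)
  simp only [Function.comp_apply]
  rw [← toSet_and]
  cases h : Nat.beq (Nat.land n m) 0 with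
  | true =>
    rw [show n &&& m = 0 from Nat.eq_of_beq_eq_true h, if_neg]
    · rfl
    · rintro ⟨p, hp⟩; rw [mem_toSet] at hp; simp at hp
  | false =>
    rw [if_pos]
    · rfl
    · rw [← Finset.card_pos, card_toSet]
      by_contra h0
      have h0' : bitCount (n &&& m) = 0 := by omega
      have : n &&& m = 0 := by
        refine toSet_inj (lt_of_le_of_lt Nat.and_le_left (hl n hn)) (by norm_num) ?_
        rw [Finset.card_eq_zero.1 ((card_toSet _).trans h0')]
        ext p; simp [mem_toSet]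
      rw [show Nat.land n m = 0 from this, Nat.beq_refl] at h
      exact Bool.noConfusion h

theorem three_on_sex : gensOk [7] stabThreeGens = true ∧
    sexTbl.forestOk stabThreeGens stabThreeOnSex (fun _ => true) [0, 1, 7] = true ∧
    ([0, 1, 7].map fun r => meetB 7 (sexTbl.obj r)).Nodup ∧
    countLt (fun i => Nat.beq (meetB 7 (sexTbl.obj i)) 1) sexTbl.N = 21 ∧
    countLt (fun i => Nat.beq (meetB 7 (sexTbl.obj i)) 2) sexTbl.N = 630 ∧
    countLt (fun i => Nat.beq (meetB 7 (sexTbl.obj i)) 3) sexTbl.N = 1120 := by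
  refine ⟨?_, ?_, ?_, ?_, ?_, ?_⟩ <;> decide +kernel

theorem meetCount_el {i : ℕ} (hi : i < sexTbl.N) : meetCount (toSet 7) (sexTbl.el i) = meetB 7 (sexTbl.obj i) :=
  meetCount_oset (Tbl.small _ _) (Tbl.strict sexTbl_sorted hi)

theorem three_base {Y : Finset GolayPt} (hY : Y.card = 3) : ∃ g ∈ M24, g • toSet 7 = Y := by
  obtain ⟨a, b, c, hab, hac, hbc, rfl⟩ := Finset.card_eq_three.1 hY
  have hne : ∀ i j : ℕ, i < 3 → j < 3 → i ≠ j → pt i ≠ pt j := by
    intro i j hi hj hij e
    exact hij (by rw [← ptEquiv_pt (show i < 24 by omega), ← ptEquiv_pt (show j < 24 by omega), e])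
  obtain ⟨g, hg, e0, e1, e2⟩ := M24_map_three (hne 0 1 (by omega) (by omega) (by omega))
    (hne 0 2 (by omega) (by omega) (by omega)) (hne 1 2 (by omega) (by omega) (by omega)) hab hac hbc
  refine ⟨g, hg, ?_⟩
  rw [show toSet 7 = {pt 0, pt 1, pt 2} by decide +kernel]
  simp [Finset.smul_finset_insert, Finset.smul_finset_singleton, Equiv.Perm.smul_def, e0, e1, e2]

theorem meetCount_ncard {Y : Finset GolayPt} (hY : Y.card = 3) (k : ℕ) :
    {S | S ∈ sextets ∧ meetCount Y S = k}.ncard = countLt (fun i => Nat.beq (meetB 7 (sexTbl.obj i)) k) sexTbl.N := by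
  obtain ⟨g, hg, rfl⟩ := three_base hY
  have e : {S | S ∈ sextets ∧ meetCount (g • toSet 7) S = k} = (g • ·) '' {S | S ∈ sextets ∧ meetCount (toSet 7) S = k} := by
    ext S
    constructor
    · rintro ⟨hS, hc⟩
      refine ⟨g⁻¹ • S, ⟨sextets_smul (inv_mem hg) hS, ?_⟩, smul_inv_smul g S⟩
      rw [← hc, ← meetCount_smul g (toSet 7), smul_inv_smul]
    · rintro ⟨U, ⟨hU, hc⟩, rfl⟩
      exact ⟨sextets_smul hg hU, (meetCount_smul g _ U).trans hc⟩
  rw [e, Set.ncard_image_of_injective _ (MulAction.injective g), sextets_eq]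
  exact Tbl.ncard_filter sexTbl_sorted _ _ fun i hi => by rw [meetCount_el hi, Nat.beq_eq]

theorem meetCount_transitive {Y : Finset GolayPt} (hY : Y.card = 3) {S S' : Finset (Finset GolayPt)}
    (hS : S ∈ sextets) (hS' : S' ∈ sextets) (h : meetCount Y S = meetCount Y S') :
    ∃ g ∈ M24, g • Y = Y ∧ g • S = S' := by
  obtain ⟨g, hg, rfl⟩ := three_base hY
  obtain ⟨hok, hf, hnd, -⟩ := three_on_sex
  have hall := gensOk_spec (small_single (by norm_num)) hok
  have reach : ∀ {S}, S ∈ sextets → ∃ r ∈ [0, 1, 7], ∃ a ∈ M24, a • toSet 7 = g • toSet 7 ∧ a • sexTbl.el r = S ∧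
      meetB 7 (sexTbl.obj r) = meetCount (g • toSet 7) S := by
    intro S hS
    have hS1 : g⁻¹ • S ∈ sexTbl.range := sextets_eq ▸ sextets_smul (inv_mem hg) hS
    obtain ⟨i, hi, hie⟩ := hS1
    obtain ⟨r, hr, a, ⟨ha, hfix⟩, he⟩ := Tbl.forest_spec hf _ hall i hi rfl
    have hr' : r < sexTbl.N := by
      show r < 1771
      simp only [List.mem_cons, List.not_mem_nil, or_false] at hr; omega
    have hfix' : a • toSet 7 = toSet 7 := by
      have : a • oset [7] = oset [7] := hfix
      simpa [oset, smul_singleton'] using this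
    refine ⟨r, hr, g * a, mul_mem hg ha, by rw [mul_smul, hfix'], by rw [mul_smul, he, hie, smul_inv_smul], ?_⟩
    conv_rhs => rw [show S = g • a • sexTbl.el r by rw [he, hie, smul_inv_smul]]
    rw [meetCount_smul, ← hfix', meetCount_smul, meetCount_el hr']
  obtain ⟨r, hr, a, ha, ha7, rfl, hc⟩ := reach hS
  obtain ⟨r', hr', b, hb, hb7, rfl, hc'⟩ := reach hS'
  obtain rfl : r = r' := List.inj_on_of_nodup_map hnd hr hr' (by rw [hc, hc', h])
  refine ⟨b * a⁻¹, mul_mem hb (inv_mem ha), ?_, by rw [mul_smul, inv_smul_smul]⟩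
  conv_lhs => rw [← ha7]
  rw [mul_smul, inv_smul_smul, hb7]

end CfsgLib.M24Cert
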