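import Cfsg.Agent.Lib.M24Cert.Pairs
import Cfsg.Agent.Lib.M24Cert.PairData

/-!
# The fifteen trios through an octad
-/

set_option autoImplicit false

namespace CfsgLib.M24Cert

open Cfsg CfsgLib.Golay

open scoped Pointwise

/-- The checks at one step of the chain on the trios through the base octad. -/
noncomputable def stepOk (k : ℕ) (gens : List GenT) (aux orb : List ℕ) : Bool :=
  allB GenT.m24 gens && allB (fun G => fixesB G [baseOctad] &&
      allB (fun j => fixesB G (triTbl.obj j)) (trioSeq.take k)) gens &&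
    triTbl.forestOk gens aux (fun i => memB i orb) [trioSeq.getD k 0] &&
    strictB orb && allB (fun j => Nat.ble (j + 1) triTbl.N) orb

theorem trio_steps : stepOk 0 trioGens0 trioForest0 trioOrb0 = true ∧ stepOk 1 trioGens1 trioForest1 trioOrb1 = true ∧
    stepOk 2 trioGens2 trioForest2 trioOrb2 = true ∧ stepOk 3 trioGens3 trioForest3 trioOrb3 = true := by
  refine ⟨?_, ?_, ?_, ?_⟩ <;> decide +kernel

/-- The elements fixing the base octad and the first trios of the sequence. -/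
def trioFix (k : ℕ) : Subgroup (Equiv.Perm GolayPt) where
  carrier := {g | g ∈ M24 ∧ g • toSet baseOctad = toSet baseOctad ∧ ∀ j ∈ trioSeq.take k, g • triTbl.el j = triTbl.el j}
  one_mem' := ⟨one_mem _, one_smul _ _, fun _ _ => one_smul _ _⟩
  mul_mem' := fun {a b} ha hb => ⟨mul_mem ha.1 hb.1, by rw [mul_smul, hb.2.1, ha.2.1],
    fun j hj => by rw [mul_smul, hb.2.2 j hj, ha.2.2 j hj]⟩
  inv_mem' := fun {a} ha => ⟨inv_mem ha.1, inv_smul_eq_iff.2 ha.2.1.symm,
    fun j hj => inv_smul_eq_iff.2 (ha.2.2 j hj).symm⟩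

theorem mem_trioFix {k : ℕ} {g : Equiv.Perm GolayPt} : g ∈ trioFix k ↔
    g ∈ M24 ∧ g • toSet baseOctad = toSet baseOctad ∧ ∀ j ∈ trioSeq.take k, g • triTbl.el j = triTbl.el j := Iff.rfl

theorem trio_step {k : ℕ} {gens : List GenT} {aux orb : List ℕ} (h : stepOk k gens aux orb = true) :
    ∀ i ∈ orb, i < triTbl.N ∧ ∃ g ∈ trioFix k, g • triTbl.el (trioSeq.getD k 0) = triTbl.el i := by
  simp only [stepOk, Bool.and_eq_true, allB_iff, Nat.ble_eq] at h
  obtain ⟨⟨⟨⟨hm, hfix⟩, hf⟩, -⟩, hlt⟩ := h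
  intro i hi
  have hi' : i < triTbl.N := hlt i hi
  obtain ⟨r, hr, g, hg, he⟩ := Tbl.forest_spec hf (trioFix k) (fun G hG => by
    have hok : G.ok = true := by have := hm G hG; simp only [GenT.m24, Bool.and_eq_true] at this; exact this.1
    refine ⟨GenT.mem_M24 (hm G hG), ?_, fun j hj => (fixesB_iff hok (Tbl.small _ _)).1 ((hfix G hG).2 j hj)⟩
    have := (fixesB_iff hok (small_single (by decide))).1 (hfix G hG).1
    simpa [oset, smul_singleton'] using this) i hi' (memB_iff.2 hi)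
  rw [List.mem_singleton] at hr
  exact ⟨hi', g, hg, hr ▸ he⟩

theorem trio_step_card {k : ℕ} {gens : List GenT} {aux orb : List ℕ} (h : stepOk k gens aux orb = true)
    (hk : k < 4) : Nat.card (trioFix (k + 1)) * orb.length ≤ Nat.card (trioFix k) := by
  have hstep := trio_step h
  have hmul := card_inf_stabilizer_mul (trioFix k) (triTbl.el (trioSeq.getD k 0))
  have hk4 : k < trioSeq.length := hk
  have heq : trioFix k ⊓ MulAction.stabilizer (Equiv.Perm GolayPt) (triTbl.el (trioSeq.getD k 0)) = trioFix (k + 1) := by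
    ext g
    rw [Subgroup.mem_inf, mem_trioFix, mem_trioFix, MulAction.mem_stabilizer_iff, List.take_add_one,
      List.getElem?_eq_getElem hk4, List.getD_eq_getElem _ _ hk4]
    simp only [Option.toList_some, List.mem_append, List.mem_singleton, or_imp, forall_and, forall_eq]
    tauto
  rw [heq] at hmul
  rw [← hmul]
  refine Nat.mul_le_mul_left _ ?_
  have hs : strictB orb = true := by
    simp only [stepOk, Bool.and_eq_true] at h; exact h.1.2
  have hinj : Set.InjOn triTbl.el (orb.toFinset : Set ℕ) := fun a ha b hb e =>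
    Tbl.el_inj triTbl_sorted (hstep a (List.mem_toFinset.1 ha)).1 (hstep b (List.mem_toFinset.1 hb)).1 e
  rw [← List.toFinset_card_of_nodup (strictB_pairwise hs).nodup, ← Finset.card_image_of_injOn hinj,
    ← Set.ncard_coe_finset]
  refine Set.ncard_le_ncard ?_ (Set.toFinite _)
  intro X hX
  obtain ⟨i, hi, rfl⟩ := Finset.mem_image.1 hX
  obtain ⟨g, hg, he⟩ := (hstep i (List.mem_toFinset.1 hi)).2
  exact ⟨⟨g, hg⟩, he⟩

theorem card_trioFix_four : Nat.card (trioFix 4) ≤ 16 := by
  obtain ⟨s0, s1, s2, s3⟩ := trio_steps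
  have h0 := trio_step_card s0 (by omega)
  have h1 := trio_step_card s1 (by omega)
  have h2 := trio_step_card s2 (by omega)
  have h3 := trio_step_card s3 (by omega)
  have hz : Nat.card (trioFix 0) = 322560 := by
    rw [← card_stab_octad baseOctad_mem]
    refine Nat.card_congr ⟨fun g => ⟨⟨g.1, g.2.1⟩, g.2.2.1⟩, fun g => ⟨g.1.1, g.1.2, g.2, fun j hj => ?_⟩,
      fun g => rfl, fun g => rfl⟩
    simp at hj
  have l0 : trioOrb0.length = 15 := rfl
  have l1 : trioOrb1.length = 14 := rfl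
  have l2 : trioOrb2.length = 12 := rfl
  have l3 : trioOrb3.length = 8 := rfl
  rw [l0] at h0; rw [l1] at h1; rw [l2] at h2; rw [l3] at h3
  simp only [Nat.reduceAdd] at h0 h1 h2 h3
  omega

theorem trio_fix_check : trioThrough.all (fun j => (chainEnum (m24ChainLevels.drop 6)).all fun L =>
    (triTbl.obj j).all fun n => (triTbl.obj j).contains (imgF L n)) = true ∧
    countLt (fun i => memB baseOctad (triTbl.obj i)) triTbl.N = 15 ∧
    allLt (fun i => !memB baseOctad (triTbl.obj i) || memB i trioThrough) triTbl.N = true ∧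
    trioSeq.all (fun j => trioThrough.contains j) = true ∧ trioOrb0 = trioThrough ∧
    trioOrb1 = trioThrough.filter (fun j => j != 3749) := by
  refine ⟨?_, ?_, ?_, ?_, ?_, ?_⟩ <;> decide +kernel

/-- The trios through the base octad. -/
theorem mem_trioThrough {T : Finset (Finset GolayPt)} :
    (T ∈ trios ∧ toSet baseOctad ∈ T) ↔ ∃ j ∈ trioThrough, T = triTbl.el j := by
  rw [trios_eq]
  constructor
  · rintro ⟨⟨i, hi, rfl⟩, hb⟩
    have := allLt_spec trio_fix_check.2.2.1 i hi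
    simp only [Bool.or_eq_true, Bool.not_eq_true', memB_iff] at this
    refine ⟨i, this.resolve_left fun h => ?_, rfl⟩
    rw [memB_iff.2 ((toSet_mem_oset (Tbl.small _ _) (by decide)).1 hb)] at h
    exact Bool.noConfusion h
  · rintro ⟨j, hj, rfl⟩
    have h := trio_base.1
    simp only [allB_iff, Bool.and_eq_true, Nat.ble_eq, memB_iff] at h
    exact ⟨⟨j, (show j < triTbl.N by have := (h j hj).1; omega), rfl⟩, mem_oset.2 ⟨_, (h j hj).2, rfl⟩⟩

theorem trio_through_fix {g : Equiv.Perm GolayPt} (hg : g ∈ M24) (ho : g • toSet baseOctad = toSet baseOctad) :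
    (∀ j ∈ trioThrough, g • triTbl.el j = triTbl.el j) ↔ ∀ p ∈ toSet baseOctad, g p = p := by
  set P := fixNums ptEquiv M24 [0, 1, 2, 3, 4, 12] with hP
  have hmem : ∀ g : Equiv.Perm GolayPt, g ∈ P ↔ g ∈ M24 ∧ ∀ p ∈ toSet baseOctad, g p = p := by
    intro g
    rw [hP, fixNums_six_eq, Subgroup.mem_inf, mem_fixingSubgroup_iff]
    rfl
  have back : ∀ g ∈ P, ∀ j ∈ trioThrough, g • triTbl.el j = triTbl.el j := by
    intro g hg j hj
    obtain ⟨L, hL, hLv, rfl⟩ := mem_fixList (k := 6) (fixed := [0, 1, 2, 3, 4, 12]) (by decide +kernel)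
      (by decide +kernel) hg.1 (fun i hi => hg.2 _ (by
        rwa [ptEquiv_pt (by simp only [List.mem_cons, List.not_mem_nil, or_false] at hi; omega)]))
    have h := trio_fix_check.1
    simp only [List.all_eq_true, List.contains_iff_mem] at h
    refine Finset.eq_of_subset_of_card_le (fun s hs => ?_) (by rw [Finset.card_smul_finset])
    obtain ⟨t, ht, rfl⟩ := Finset.mem_smul_finset.1 hs
    obtain ⟨n, hn, rfl⟩ := mem_oset.1 ht
    exact mem_oset.2 ⟨_, h j hj L hL n hn, (smul_toSet_imgF hLv n).symm⟩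
  refine ⟨fun h => ?_, fun h => back g ((hmem g).2 ⟨hg, h⟩)⟩
  have hsub : ∀ j ∈ trioSeq, j ∈ trioThrough := by
    have := trio_fix_check.2.2.2.1
    simpa only [List.all_eq_true, List.contains_iff_mem] using this
  have hle : P ≤ trioFix 4 := fun x hx => ⟨hx.1, by
    ext p
    rw [Finset.mem_smul_finset]
    constructor
    · rintro ⟨q, hq, rfl⟩; rwa [Equiv.Perm.smul_def, ((hmem x).1 hx).2 q hq]
    · exact fun hp => ⟨p, hp, ((hmem x).1 hx).2 p hp⟩,
    fun j hj => back x hx j (hsub j (List.mem_of_mem_take hj))⟩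
  have heq : P = trioFix 4 := Subgroup.eq_of_le_of_card_ge hle (by
    rw [hP, card_octad_pointwise]; exact card_trioFix_four)
  exact ((hmem g).1 (heq ▸ ⟨hg, ho, fun j hj => h j (hsub j (List.mem_of_mem_take hj))⟩)).2

/-- The group of an octad is doubly transitive on its trios. -/
theorem trio_two_transitive {T₁ T₂ : Finset (Finset GolayPt)} (h1 : T₁ ∈ trios ∧ toSet baseOctad ∈ T₁)
    (h2 : T₂ ∈ trios ∧ toSet baseOctad ∈ T₂) (hne : T₁ ≠ T₂) :
    ∃ g ∈ M24, g • toSet baseOctad = toSet baseOctad ∧ g • triTbl.el 3749 = T₁ ∧ g • triTbl.el 3719 = T₂ := by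
  obtain ⟨s0, s1, -, -⟩ := trio_steps
  obtain ⟨-, -, -, -, e0, e1⟩ := trio_fix_check
  obtain ⟨j1, hj1, rfl⟩ := mem_trioThrough.1 h1
  obtain ⟨hlt1, a, ha, hae⟩ := trio_step s0 j1 (e0 ▸ hj1)
  have hae' : a • triTbl.el 3749 = triTbl.el j1 := hae
  have h2' : a⁻¹ • T₂ ∈ trios ∧ toSet baseOctad ∈ a⁻¹ • T₂ := by
    refine ⟨trios_smul (inv_mem ha.1) h2.1, ?_⟩
    rw [← inv_smul_eq_iff.2 ha.2.1.symm]
    exact Finset.smul_mem_smul_finset h2.2
  obtain ⟨j2, hj2, hj2e⟩ := mem_trioThrough.1 h2'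
  obtain ⟨-, b, hb, hbe⟩ := trio_step s1 j2 (by
    rw [e1, List.mem_filter]
    refine ⟨hj2, bne_iff_ne.2 fun e => hne ?_⟩
    subst e
    rw [← hae', ← hj2e, smul_inv_smul])
  refine ⟨a * b, mul_mem ha.1 hb.1, by rw [mul_smul, hb.2.1, ha.2.1], ?_, ?_⟩
  · rw [mul_smul, hb.2.2 3749 (by decide), hae']
  · have hbe' : b • triTbl.el 3719 = triTbl.el j2 := hbe
    rw [mul_smul, hbe', ← hj2e, smul_inv_smul]

end CfsgLib.M24Cert
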